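import Cfsg.Agent.Helper4.F4Inv.Tw

/-!
# Involutions of the unipotent subgroup of `²F₄` (abstract reduction)

Given root maps `R : RelF4 K Γ`, the Tits endomorphism `th`, a subgroup `G1` (the twisted group)
containing the twisted root elements of the two simple classes, two Weyl elements `n1`, `n8`,
surjectivity of two power maps and torus normalisations, every involution `NF …` of the twisted
unipotent group is `G1`-conjugate to `SD 0 1` (central type) or to `PE 1`.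
-/

set_option autoImplicit false
set_option maxHeartbeats 1000000
set_option linter.unusedSimpArgs false
set_option linter.unusedVariables false
set_option linter.unusedSectionVars false

namespace Cfsg.Agent.Helper4.F4Inv

variable {K Γ : Type*} [Field K] [Group Γ]

/-- conjugate under a subgroup -/
def ConjIn (H : Subgroup Γ) (x y : Γ) : Prop := ∃ g ∈ H, g * x * g⁻¹ = y

theorem ConjIn.refl (H : Subgroup Γ) (x : Γ) : ConjIn H x x := ⟨1, H.one_mem, by group⟩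

theorem ConjIn.trans {H : Subgroup Γ} {x y z : Γ} (h1 : ConjIn H x y) (h2 : ConjIn H y z) :
    ConjIn H x z := by
  obtain ⟨g, hg, rfl⟩ := h1
  obtain ⟨k, hk, rfl⟩ := h2
  exact ⟨k * g, H.mul_mem hk hg, by group⟩

theorem ConjIn.symm {H : Subgroup Γ} {x y : Γ} (h : ConjIn H x y) : ConjIn H y x := by
  obtain ⟨g, hg, rfl⟩ := h
  exact ⟨g⁻¹, H.inv_mem hg, by group⟩

theorem ConjIn.of_eq {H : Subgroup Γ} {x y : Γ} (h : x = y) : ConjIn H x y := h ▸ ConjIn.refl H x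

theorem conj_mul' (n x y : Γ) : n * (x * y) * n⁻¹ = (n * x * n⁻¹) * (n * y * n⁻¹) := by group

/-- the two Weyl elements and their action on root elements -/
structure TwN (R : RelF4 K Γ) (th : K →+* K) where
  hth : ∀ x, th (th x) ^ 2 = x
  n1 : Γ
  n1_34 : ∀ t, n1 * R.X34 t * n1⁻¹ = R.X27 t
  n1_26 : ∀ t, n1 * R.X26 t * n1⁻¹ = R.X25 t
  n1_36 : ∀ t, n1 * R.X36 t * n1⁻¹ = R.X28 t
  n1_42 : ∀ t, n1 * R.X42 t * n1⁻¹ = R.X30 t
  n1_38 : ∀ t, n1 * R.X38 t * n1⁻¹ = R.X37 t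
  n1_43 : ∀ t, n1 * R.X43 t * n1⁻¹ = R.X32 t
  n1_29 : ∀ t, n1 * R.X29 t * n1⁻¹ = R.X35 t
  n1_41 : ∀ t, n1 * R.X41 t * n1⁻¹ = R.X31 t
  n1_44 : ∀ t, n1 * R.X44 t * n1⁻¹ = R.X40 t
  n1_47 : ∀ t, n1 * R.X47 t * n1⁻¹ = R.X46 t
  n1_39 : ∀ t, n1 * R.X39 t * n1⁻¹ = R.X39 t
  n1_45 : ∀ t, n1 * R.X45 t * n1⁻¹ = R.X45 t
  n1_35 : ∀ t, n1 * R.X35 t * n1⁻¹ = R.X29 t
  n1_31 : ∀ t, n1 * R.X31 t * n1⁻¹ = R.X41 t
  n1_40 : ∀ t, n1 * R.X40 t * n1⁻¹ = R.X44 t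
  n1_46 : ∀ t, n1 * R.X46 t * n1⁻¹ = R.X47 t
  n1_37 : ∀ t, n1 * R.X37 t * n1⁻¹ = R.X38 t
  n1_32 : ∀ t, n1 * R.X32 t * n1⁻¹ = R.X43 t
  n1_27 : ∀ t, n1 * R.X27 t * n1⁻¹ = R.X34 t
  n1_25 : ∀ t, n1 * R.X25 t * n1⁻¹ = R.X26 t
  n1_28 : ∀ t, n1 * R.X28 t * n1⁻¹ = R.X36 t
  n1_30 : ∀ t, n1 * R.X30 t * n1⁻¹ = R.X42 t
  n8 : Γ
  n8_33 : ∀ t, n8 * R.X33 t * n8⁻¹ = R.X37 t
  n8_24 : ∀ t, n8 * R.X24 t * n8⁻¹ = R.X32 t
  n8_34 : ∀ t, n8 * R.X34 t * n8⁻¹ = R.X35 t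
  n8_26 : ∀ t, n8 * R.X26 t * n8⁻¹ = R.X31 t
  n8_36 : ∀ t, n8 * R.X36 t * n8⁻¹ = R.X40 t
  n8_42 : ∀ t, n8 * R.X42 t * n8⁻¹ = R.X46 t
  n8_38 : ∀ t, n8 * R.X38 t * n8⁻¹ = R.X39 t
  n8_43 : ∀ t, n8 * R.X43 t * n8⁻¹ = R.X45 t
  n8_29 : ∀ t, n8 * R.X29 t * n8⁻¹ = R.X29 t
  n8_41 : ∀ t, n8 * R.X41 t * n8⁻¹ = R.X41 t
  n8_44 : ∀ t, n8 * R.X44 t * n8⁻¹ = R.X44 t
  n8_47 : ∀ t, n8 * R.X47 t * n8⁻¹ = R.X47 t
  n8_39 : ∀ t, n8 * R.X39 t * n8⁻¹ = R.X38 t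
  n8_45 : ∀ t, n8 * R.X45 t * n8⁻¹ = R.X43 t
  n8_35 : ∀ t, n8 * R.X35 t * n8⁻¹ = R.X34 t
  n8_31 : ∀ t, n8 * R.X31 t * n8⁻¹ = R.X26 t
  n8_40 : ∀ t, n8 * R.X40 t * n8⁻¹ = R.X36 t
  n8_46 : ∀ t, n8 * R.X46 t * n8⁻¹ = R.X42 t
  n8_37 : ∀ t, n8 * R.X37 t * n8⁻¹ = R.X33 t
  n8_32 : ∀ t, n8 * R.X32 t * n8⁻¹ = R.X24 t

/-- the twisted group with the root elements of the two simple classes and the Weyl elements -/
structure TwG (R : RelF4 K Γ) (th : K →+* K) extends TwN R th where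
  G1 : Subgroup Γ
  memA : ∀ t, R.PA th t ∈ G1
  memH : ∀ t u, R.SH th t u ∈ G1
  n1_mem : n1 ∈ G1
  n8_mem : n8 ∈ G1

/-- the twisted data -/
structure Tw (R : RelF4 K Γ) (th : K →+* K) extends TwG R th where
  inj : ∀ a b b1 c d d1 e f f1 g h h1 : K, R.NF th a b b1 c d d1 e f f1 g h h1 = 1 →
    a = 0 ∧ b = 0 ∧ b1 = 0 ∧ c = 0 ∧ d = 0 ∧ d1 = 0 ∧ e = 0 ∧ f = 0 ∧ f1 = 0 ∧ g = 0 ∧ h = 0 ∧ h1 = 0
  sur1 : ∀ y : K, ∃ x : K, th x * x = y
  sur2 : ∀ y : K, ∃ x : K, th x ^ 2 * x = y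
  torD : ∀ u : K, u ≠ 0 → ConjIn G1 (R.SD th 0 u) (R.SD th 0 1)
  torE : ∀ t : K, t ≠ 0 → ConjIn G1 (R.PE th t) (R.PE th 1)

variable {R : RelF4 K Γ} {th : K →+* K}

namespace TwN

section char2

variable [CharP K 2] (T : TwN R th)

include T

theorem conj_n1 (b b1 c d d1 e f f1 g h h1 : K) :
    T.n1 * R.NF7 th b b1 c d d1 e f f1 g h h1 * T.n1⁻¹ =
      R.NF7 th (h) (h1) (b * h * th h ^ 2 + b * th h1 ^ 2 + f * h + g) (b * th h ^ 2 + f) (th b * g + b * th f * th h ^ 2 + b * th g * th h + b * th b * th h * h1 + b * th b * h * th h ^ 2 + b1 * th h * h1 + b1 * h * th h ^ 2 + b1 * th h1 ^ 2 + th c * h * th h + th c * h1 + th d * th f * th h + th d * th g + th e * th h + f1) (th b ^ 2 * g + b * th b ^ 2 * th h1 ^ 2 + th b1 ^ 2 * th h1 ^ 2 + c * th h ^ 2 + d * f + e) (th b ^ 2 * h + d) (th b * b1 * h1 + th b * th c * h + th b * th d * th f + th b * th e + b * d * th h + b * th b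 ^ 2 * h1 + th b1 ^ 2 * h * th h + th b1 ^ 2 * h1 + b1 * th g + th c * th f + c * th h + d1) (b * d + th b1 ^ 2 * h + c) (b) (b1) := by
  rw [← R.w1_NF7 th T.hth]
  unfold RelF4.NF7 RelF4.SB RelF4.PC RelF4.SD RelF4.PE RelF4.SF RelF4.PG RelF4.SH
  simp only [conj_mul']
  simp only [T.n1_34, T.n1_26, T.n1_36, T.n1_42, T.n1_38, T.n1_43, T.n1_29, T.n1_41, T.n1_44, T.n1_47, T.n1_39, T.n1_45, T.n1_35, T.n1_31, T.n1_40, T.n1_46, T.n1_37, T.n1_32, T.n1_27, T.n1_25, T.n1_28, T.n1_30]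
  simp only [mul_assoc]

theorem conj_n8 (a b b1 c d d1 e f f1 g : K) :
    T.n8 * R.NF1 th a b b1 c d d1 e f f1 g * T.n8⁻¹ =
      R.NF1 th (g) (f) (th b * g + th d * th g + f1) (a * th g ^ 2 + th b ^ 2 * g + d * f + e) (d) (th a * th b * g + th a * th d * th g + th a * f * th f + th a * f1 + a * th f * th g + th b * th d * th f + th b * th e + b1 * th g + th c * th f + d1) (th a ^ 2 * g + a * th f ^ 2 + b * d + c) (b) (th a * th d + a * th f + b1) (a) := by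
  rw [← R.w8_NF1 th T.hth]
  unfold RelF4.NF1 RelF4.PA RelF4.SB RelF4.PC RelF4.SD RelF4.PE RelF4.SF RelF4.PG
  simp only [conj_mul']
  simp only [T.n8_33, T.n8_24, T.n8_34, T.n8_26, T.n8_36, T.n8_42, T.n8_38, T.n8_43, T.n8_29, T.n8_41, T.n8_44, T.n8_47, T.n8_39, T.n8_45, T.n8_35, T.n8_31, T.n8_40, T.n8_46, T.n8_37, T.n8_32]
  simp only [mul_assoc]

theorem PA_zero : R.PA th 0 = 1 := by
  unfold RelF4.PA; simp only [map_zero, R.zero33, R.zero24, mul_one]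

theorem SH_zero : R.SH th 0 0 = 1 := by
  unfold RelF4.SH
  simp only [map_zero, mul_zero, add_zero, ne_eq, OfNat.ofNat_ne_zero, not_false_eq_true, zero_pow,
    R.zero27, R.zero25, R.zero28, R.zero30, mul_one]

theorem NF_a0 (b b1 c d d1 e f f1 g h h1 : K) :
    R.NF th 0 b b1 c d d1 e f f1 g h h1 = R.NF7 th b b1 c d d1 e f f1 g h h1 := by
  unfold RelF4.NF RelF4.NF7; rw [T.PA_zero, one_mul]

theorem NF_h0 (a b b1 c d d1 e f f1 g : K) :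
    R.NF th a b b1 c d d1 e f f1 g 0 0 = R.NF1 th a b b1 c d d1 e f f1 g := by
  unfold RelF4.NF RelF4.NF1; rw [T.SH_zero, mul_one]

end char2

end TwN

namespace TwG

section char2

variable [CharP K 2] (T : TwG R th)

include T

/-- conjugation by `n1` preserves membership, hence `SB ∈ G1` etc. -/
theorem memB (t u : K) : R.SB th t u ∈ T.G1 := by
  have h : T.n1 * R.SH th t u * T.n1⁻¹ = R.SB th t u := by
    unfold RelF4.SH RelF4.SB
    simp only [conj_mul']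
    simp only [T.n1_27, T.n1_25, T.n1_28, T.n1_30]
  rw [← h]
  exact T.G1.mul_mem (T.G1.mul_mem T.n1_mem (T.memH t u)) (T.G1.inv_mem T.n1_mem)

theorem memG (t : K) : R.PG th t ∈ T.G1 := by
  have h : T.n8 * R.PA th t * T.n8⁻¹ = R.PG th t := by
    unfold RelF4.PA RelF4.PG
    simp only [conj_mul']
    simp only [T.n8_33, T.n8_24]
  rw [← h]
  exact T.G1.mul_mem (T.G1.mul_mem T.n8_mem (T.memA t)) (T.G1.inv_mem T.n8_mem)

theorem memC (t : K) : R.PC th t ∈ T.G1 := by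
  have h : T.n1 * R.PG th t * T.n1⁻¹ = R.PC th t := by
    unfold RelF4.PG RelF4.PC
    simp only [conj_mul']
    simp only [T.n1_37, T.n1_32]
  rw [← h]
  exact T.G1.mul_mem (T.G1.mul_mem T.n1_mem (T.memG t)) (T.G1.inv_mem T.n1_mem)

theorem memF (t u : K) : R.SF th t u ∈ T.G1 := by
  have h : T.n8 * R.SB th t u * T.n8⁻¹ = R.SF th t u := by
    unfold RelF4.SB RelF4.SF
    simp only [conj_mul']
    simp only [T.n8_34, T.n8_26, T.n8_36, T.n8_42]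
  rw [← h]
  exact T.G1.mul_mem (T.G1.mul_mem T.n8_mem (T.memB t u)) (T.G1.inv_mem T.n8_mem)

theorem memD (t u : K) : R.SD th t u ∈ T.G1 := by
  have h : T.n1 * R.SF th t u * T.n1⁻¹ = R.SD th t u := by
    unfold RelF4.SF RelF4.SD
    simp only [conj_mul']
    simp only [T.n1_35, T.n1_31, T.n1_40, T.n1_46]
  rw [← h]
  exact T.G1.mul_mem (T.G1.mul_mem T.n1_mem (T.memF t u)) (T.G1.inv_mem T.n1_mem)

theorem memE (t : K) : R.PE th t ∈ T.G1 := by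
  have h : T.n8 * R.PC th t * T.n8⁻¹ = R.PE th t := by
    unfold RelF4.PC RelF4.PE
    simp only [conj_mul']
    simp only [T.n8_38, T.n8_43]
  rw [← h]
  exact T.G1.mul_mem (T.G1.mul_mem T.n8_mem (T.memC t)) (T.G1.inv_mem T.n8_mem)


theorem NF_mem (a b b1 c d d1 e f f1 g h h1 : K) : R.NF th a b b1 c d d1 e f f1 g h h1 ∈ T.G1 := by
  unfold RelF4.NF
  exact mul_mem (T.memA a) (mul_mem (T.memB b b1) (mul_mem (T.memC c) (mul_mem (T.memD d d1)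
    (mul_mem (T.memE e) (mul_mem (T.memF f f1) (mul_mem (T.memG g) (T.memH h h1)))))))

end char2

end TwG

variable (T : Tw R th)

namespace Tw

section char2

variable [CharP K 2]

include T

theorem th_eq_zero {x : K} : th x = 0 ↔ x = 0 := map_eq_zero th

theorem th_ne_zero {x : K} (hx : x ≠ 0) : th x ≠ 0 := fun h => hx ((map_eq_zero th).mp h)

/-- every element is `th` of something -/
theorem th_surj (y : K) : th (th y ^ 2) = y := by rw [map_pow]; exact T.hth y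

theorem PA_zero : R.PA th 0 = 1 := by
  unfold RelF4.PA; simp only [map_zero, R.zero33, R.zero24, mul_one]

theorem PC_zero : R.PC th 0 = 1 := by
  unfold RelF4.PC; simp only [map_zero, R.zero38, R.zero43, mul_one]

theorem PE_zero : R.PE th 0 = 1 := by
  unfold RelF4.PE; simp only [map_zero, R.zero39, R.zero45, mul_one]

theorem PG_zero : R.PG th 0 = 1 := by
  unfold RelF4.PG; simp only [map_zero, R.zero37, R.zero32, mul_one]

theorem SB_zero : R.SB th 0 0 = 1 := by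
  unfold RelF4.SB
  simp only [map_zero, mul_zero, add_zero, ne_eq, OfNat.ofNat_ne_zero, not_false_eq_true, zero_pow,
    R.zero34, R.zero26, R.zero36, R.zero42, mul_one]

theorem SD_zero : R.SD th 0 0 = 1 := by
  unfold RelF4.SD
  simp only [map_zero, mul_zero, add_zero, ne_eq, OfNat.ofNat_ne_zero, not_false_eq_true, zero_pow,
    R.zero29, R.zero41, R.zero44, R.zero47, mul_one]

theorem SF_zero : R.SF th 0 0 = 1 := by
  unfold RelF4.SF
  simp only [map_zero, mul_zero, add_zero, ne_eq, OfNat.ofNat_ne_zero, not_false_eq_true, zero_pow,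
    R.zero35, R.zero31, R.zero40, R.zero46, mul_one]

theorem SH_zero : R.SH th 0 0 = 1 := by
  unfold RelF4.SH
  simp only [map_zero, mul_zero, add_zero, ne_eq, OfNat.ofNat_ne_zero, not_false_eq_true, zero_pow,
    R.zero27, R.zero25, R.zero28, R.zero30, mul_one]

theorem NF_a0 (b b1 c d d1 e f f1 g h h1 : K) :
    R.NF th 0 b b1 c d d1 e f f1 g h h1 = R.NF7 th b b1 c d d1 e f f1 g h h1 := by
  unfold RelF4.NF RelF4.NF7; rw [T.PA_zero, one_mul]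

theorem NF_h0 (a b b1 c d d1 e f f1 g : K) :
    R.NF th a b b1 c d d1 e f f1 g 0 0 = R.NF1 th a b b1 c d d1 e f f1 g := by
  unfold RelF4.NF RelF4.NF1; rw [T.SH_zero, mul_one]

theorem NF_D (u : K) : R.NF th 0 0 0 0 0 u 0 0 0 0 0 0 = R.SD th 0 u := by
  unfold RelF4.NF
  simp only [T.PA_zero, T.SB_zero, T.PC_zero, T.PE_zero, T.SF_zero, T.PG_zero, T.SH_zero, one_mul, mul_one]

theorem NF_E (t : K) : R.NF th 0 0 0 0 0 0 t 0 0 0 0 0 = R.PE th t := by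
  unfold RelF4.NF
  simp only [T.PA_zero, T.SB_zero, T.PC_zero, T.SD_zero, T.SF_zero, T.PG_zero, T.SH_zero, one_mul, mul_one]

/-- conjugation by `n1` on normal forms without first class -/
theorem cj_n1 (b b1 c d d1 e f f1 g h h1 : K) {y : Γ}
    (hy : R.NF7 th (h) (h1) (b * h * th h ^ 2 + b * th h1 ^ 2 + f * h + g) (b * th h ^ 2 + f) (th b * g + b * th f * th h ^ 2 + b * th g * th h + b * th b * th h * h1 + b * th b * h * th h ^ 2 + b1 * th h * h1 + b1 * h * th h ^ 2 + b1 * th h1 ^ 2 + th c * h * th h + th c * h1 + th d * th f * th h + th d * th g + th e * th h + f1) (th b ^ 2 * g + b * th b ^ 2 * th h1 ^ 2 + th b1 ^ 2 * th h1 ^ 2 + c * th h ^ 2 + d * f + e) (th b ^ 2 * h + d) (th b * b1 * h1 + th b * th c * h + th b * th d * th f + th b * th e + b * d * th h + b * th b ^ 2 * h1 + th b1 ^ 2 * h * th h + th b1 ^ 2 * h1 + b1 * th g + th c * th f + c * th h + d1) (b * d + th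 b1 ^ 2 * h + c) (b) (b1) = y) :
    ConjIn T.G1 (R.NF th 0 b b1 c d d1 e f f1 g h h1) y :=
  ⟨T.n1, T.n1_mem, by rw [T.NF_a0, T.conj_n1, hy]⟩

/-- conjugation by `n8` on normal forms without last class -/
theorem cj_n8 (a b b1 c d d1 e f f1 g : K) {y : Γ}
    (hy : R.NF1 th (g) (f) (th b * g + th d * th g + f1) (a * th g ^ 2 + th b ^ 2 * g + d * f + e) (d) (th a * th b * g + th a * th d * th g + th a * f * th f + th a * f1 + a * th f * th g + th b * th d * th f + th b * th e + b1 * th g + th c * th f + d1) (th a ^ 2 * g + a * th f ^ 2 + b * d + c) (b) (th a * th d + a * th f + b1) (a) = y) :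
    ConjIn T.G1 (R.NF th a b b1 c d d1 e f f1 g 0 0) y :=
  ⟨T.n8, T.n8_mem, by rw [T.NF_h0, T.conj_n8, hy]⟩

/-- type `z` -/
theorem lz (u : K) (hu : u ≠ 0) : ConjIn T.G1 (R.NF th 0 0 0 0 0 u 0 0 0 0 0 0) (R.SD th 0 1) := by
  rw [T.NF_D]; exact T.torD u hu

/-- type `v` -/
theorem lv (t : K) (ht : t ≠ 0) : ConjIn T.G1 (R.NF th 0 0 0 0 0 0 t 0 0 0 0 0) (R.PE th 1) := by
  rw [T.NF_E]; exact T.torE t ht

theorem lC (c : K) (hc : c ≠ 0) : ConjIn T.G1 (R.NF th 0 0 0 c 0 0 0 0 0 0 0 0) (R.PE th 1) := by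
  refine ConjIn.trans (T.cj_n8 _ _ _ _ _ _ _ _ _ _ ?_) (T.lv c hc)
  rw [← T.NF_h0]
  congr 1 <;> simp

theorem lDE (d1 e : K) (he : e ≠ 0) :
    ConjIn T.G1 (R.NF th 0 0 0 0 0 d1 e 0 0 0 0 0) (R.PE th 1) := by
  have h2 : (2 : K) = 0 := CharTwo.two_eq_zero
  refine ConjIn.trans ⟨R.SB th (th d1 ^ 2 / e) 0, T.memB _ _,
    (R.cjB th T.hth _ _ _ _ _ _ _ _ _ _ _ _ _ _).trans ?_⟩ (T.lv e he)
  have key : th e * th (th d1 ^ 2 / e) = d1 := by
    rw [← map_mul, mul_div_cancel₀ _ he, T.th_surj]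
  congr 1 <;> try (simp; done)
  simp only [map_zero, mul_zero, zero_mul, add_zero, zero_add]
  linear_combination key + d1 * h2


theorem sqrt_ex (y : K) : ∃ x : K, x ^ 2 = y := ⟨th (th y), T.hth y⟩

/-- `C D' E F'`, kill `e` -/
theorem sN1 (c d1 e f1 : K) (hc : c ≠ 0) :
    ConjIn T.G1 (R.NF th 0 0 0 c 0 d1 e 0 f1 0 0 0)
      (R.NF th 0 0 0 c 0 (c * th (th (e / c)) + d1) 0 0 (th e * th (th (e / c)) + f1) 0 0 0) := by
  have h2 : (2 : K) = 0 := CharTwo.two_eq_zero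
  refine ⟨R.SH th (th (e / c)) 0, T.memH _ _, (R.cjH th T.hth _ _ _ _ _ _ _ _ _ _ _ _ _ _).trans ?_⟩
  have key : c * th (th (e / c)) ^ 2 = e := by rw [T.hth, mul_div_cancel₀ _ hc]
  congr 1 <;> try (simp; done)
  simp only [map_zero, mul_zero, zero_mul, add_zero, zero_add, ne_eq, OfNat.ofNat_ne_zero,
    not_false_eq_true, zero_pow]
  linear_combination key + e * h2

/-- `C D' F'`, kill `f1` -/
theorem sN2 (c d1 f1 : K) (hc : c ≠ 0) :
    ConjIn T.G1 (R.NF th 0 0 0 c 0 d1 0 0 f1 0 0 0) (R.NF th 0 0 0 c 0 d1 0 0 0 0 0 0) := by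
  have h2 : (2 : K) = 0 := CharTwo.two_eq_zero
  have hc' : th c ≠ 0 := T.th_ne_zero hc
  refine ⟨R.SH th 0 (f1 / th c), T.memH _ _, (R.cjH th T.hth _ _ _ _ _ _ _ _ _ _ _ _ _ _).trans ?_⟩
  have key : th c * (f1 / th c) = f1 := mul_div_cancel₀ _ hc'
  congr 1 <;> try (simp; done)
  simp only [map_zero, mul_zero, zero_mul, add_zero, zero_add, ne_eq, OfNat.ofNat_ne_zero,
    not_false_eq_true, zero_pow]
  linear_combination key + f1 * h2

/-- `C D'`, kill `d1` -/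
theorem sN3 (c d1 : K) (hc : c ≠ 0) :
    ConjIn T.G1 (R.NF th 0 0 0 c 0 d1 0 0 0 0 0 0) (R.NF th 0 0 0 c 0 0 0 0 0 0 0 0) := by
  have h2 : (2 : K) = 0 := CharTwo.two_eq_zero
  refine ⟨R.SF th (th d1 ^ 2 / c) 0, T.memF _ _, (R.cjF th T.hth _ _ _ _ _ _ _ _ _ _ _ _ _ _).trans ?_⟩
  have key : th c * th (th d1 ^ 2 / c) = d1 := by
    rw [← map_mul, mul_div_cancel₀ _ hc, T.th_surj]
  congr 1 <;> try (simp; done)
  simp only [map_zero, mul_zero, zero_mul, add_zero, zero_add, ne_eq, OfNat.ofNat_ne_zero,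
    not_false_eq_true, zero_pow]
  linear_combination key + d1 * h2

theorem lN (c d1 e f1 : K) (hc : c ≠ 0) :
    ConjIn T.G1 (R.NF th 0 0 0 c 0 d1 e 0 f1 0 0 0) (R.PE th 1) :=
  (T.sN1 c d1 e f1 hc).trans ((T.sN2 c _ _ hc).trans ((T.sN3 c _ hc).trans (T.lC c hc)))

/-- `C D' E F' G`, `g ≠ 0`: kill `c` -/
theorem sM1a (c d1 e f1 g : K) (hg : g ≠ 0) :
    ConjIn T.G1 (R.NF th 0 0 0 c 0 d1 e 0 f1 g 0 0)
      (R.NF th 0 0 0 0 0 (d1 + f1 * th (th (c / g))) (e + th g ^ 2 * th (c / g)) 0 f1 g 0 0) := by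
  have h2 : (2 : K) = 0 := CharTwo.two_eq_zero
  refine ⟨R.PA th (th (c / g)), T.memA _, (R.cjA th T.hth _ _ _ _ _ _ _ _ _ _ _ _ _).trans ?_⟩
  have key : g * th (th (c / g)) ^ 2 = c := by rw [T.hth, mul_div_cancel₀ _ hg]
  congr 1 <;> try (simp; done)
  simp only [map_zero, mul_zero, zero_mul, add_zero, zero_add, ne_eq, OfNat.ofNat_ne_zero,
    not_false_eq_true, zero_pow]
  linear_combination key + c * h2

/-- `D' E F' G ↦ C D' E F'` under `n1` -/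
theorem sM1b (d1 e f1 g : K) :
    ConjIn T.G1 (R.NF th 0 0 0 0 0 d1 e 0 f1 g 0 0) (R.NF th 0 0 0 g 0 f1 e 0 d1 0 0 0) := by
  refine T.cj_n1 _ _ _ _ _ _ _ _ _ _ _ ?_
  rw [T.NF_a0]
  congr 1 <;> simp

theorem lM1 (c d1 e f1 g : K) (hg : g ≠ 0) :
    ConjIn T.G1 (R.NF th 0 0 0 c 0 d1 e 0 f1 g 0 0) (R.PE th 1) :=
  (T.sM1a c d1 e f1 g hg).trans ((T.sM1b _ _ _ _).trans (T.lN g _ _ _ hg))

/-- `B' C D' E F'`, `b1 ≠ 0`: kill `c` -/
theorem sM2a (b1 c d1 e f1 : K) (hb : b1 ≠ 0) :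
    ConjIn T.G1 (R.NF th 0 0 b1 c 0 d1 e 0 f1 0 0 0)
      (R.NF th 0 0 b1 0 0 (c * th (c / th b1 ^ 2) + d1)
        (th b1 ^ 2 * (c / th b1 ^ 2) * th (c / th b1 ^ 2) ^ 2 + c * th (c / th b1 ^ 2) ^ 2 + e) 0
        (b1 * (c / th b1 ^ 2) * th (c / th b1 ^ 2) ^ 2 + th e * th (c / th b1 ^ 2) + f1) 0 0 0) := by
  have h2 : (2 : K) = 0 := CharTwo.two_eq_zero
  have hb' : th b1 ^ 2 ≠ 0 := pow_ne_zero 2 (T.th_ne_zero hb)
  refine ⟨R.SH th (c / th b1 ^ 2) 0, T.memH _ _, (R.cjH th T.hth _ _ _ _ _ _ _ _ _ _ _ _ _ _).trans ?_⟩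
  have key : th b1 ^ 2 * (c / th b1 ^ 2) = c := mul_div_cancel₀ _ hb'
  congr 1 <;> try (simp; done)
  simp only [map_zero, mul_zero, zero_mul, add_zero, zero_add, ne_eq, OfNat.ofNat_ne_zero,
    not_false_eq_true, zero_pow]
  linear_combination key + c * h2

/-- `B' D' E F'`, `b1 ≠ 0`: kill `e` -/
theorem sM2b (b1 d1 e f1 : K) (hb : b1 ≠ 0) :
    ConjIn T.G1 (R.NF th 0 0 b1 0 0 d1 e 0 f1 0 0 0)
      (R.NF th 0 0 b1 0 0 (th b1 ^ 2 * (th e / b1) + d1) 0 0 (b1 * th (th e / b1) ^ 2 + f1) 0 0 0) := by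
  have h2 : (2 : K) = 0 := CharTwo.two_eq_zero
  refine ⟨R.SH th 0 (th e / b1), T.memH _ _, (R.cjH th T.hth _ _ _ _ _ _ _ _ _ _ _ _ _ _).trans ?_⟩
  have key : th b1 ^ 2 * th (th e / b1) ^ 2 = e := by
    rw [← mul_pow, ← map_mul, mul_div_cancel₀ _ hb, T.hth]
  congr 1 <;> try (simp; done)
  simp only [map_zero, mul_zero, zero_mul, add_zero, zero_add, ne_eq, OfNat.ofNat_ne_zero,
    not_false_eq_true, zero_pow]
  linear_combination key + e * h2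

/-- `B' D' F'`, `b1 ≠ 0`: kill `d1` -/
theorem sM2c (b1 d1 f1 : K) (hb : b1 ≠ 0) :
    ConjIn T.G1 (R.NF th 0 0 b1 0 0 d1 0 0 f1 0 0 0) (R.NF th 0 0 b1 0 0 0 0 0 f1 0 0 0) := by
  have h2 : (2 : K) = 0 := CharTwo.two_eq_zero
  refine ⟨R.PG th (th (d1 / b1) ^ 2), T.memG _, (R.cjG th T.hth _ _ _ _ _ _ _ _ _ _ _ _ _).trans ?_⟩
  have key : b1 * th (th (d1 / b1) ^ 2) = d1 := by rw [T.th_surj, mul_div_cancel₀ _ hb]
  congr 1 <;> try (simp; done)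
  simp only [map_zero, mul_zero, zero_mul, add_zero, zero_add, ne_eq, OfNat.ofNat_ne_zero,
    not_false_eq_true, zero_pow]
  linear_combination key + d1 * h2

/-- `B' ↦ F'` under `n8` -/
theorem sM2z1 (b1 : K) :
    ConjIn T.G1 (R.NF th 0 0 b1 0 0 0 0 0 0 0 0 0) (R.NF th 0 0 0 0 0 0 0 0 b1 0 0 0) := by
  refine T.cj_n8 _ _ _ _ _ _ _ _ _ _ ?_
  rw [← T.NF_h0]
  congr 1 <;> simp

/-- `F' ↦ D'` under `n1` -/
theorem sM2z2 (f1 : K) :
    ConjIn T.G1 (R.NF th 0 0 0 0 0 0 0 0 f1 0 0 0) (R.NF th 0 0 0 0 0 f1 0 0 0 0 0 0) := by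
  refine T.cj_n1 _ _ _ _ _ _ _ _ _ _ _ ?_
  rw [T.NF_a0]
  congr 1 <;> simp

/-- `B' F'` with `f1 ≠ 0`: move to `B' C E` -/
theorem sM2d (b1 f1 x : K) (hb : b1 ≠ 0) (hx : th x ^ 2 * x = f1 / b1) :
    ConjIn T.G1 (R.NF th 0 0 b1 0 0 0 0 0 f1 0 0 0)
      (R.NF th 0 0 b1 (th b1 ^ 2 * x) 0 0 (th b1 ^ 2 * x * th x ^ 2) 0 0 0 0 0) := by
  have h2 : (2 : K) = 0 := CharTwo.two_eq_zero
  refine ⟨R.SH th x 0, T.memH _ _, (R.cjH th T.hth _ _ _ _ _ _ _ _ _ _ _ _ _ _).trans ?_⟩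
  have key : b1 * (th x ^ 2 * x) = f1 := by rw [hx, mul_div_cancel₀ _ hb]
  congr 1 <;> try (simp; done)
  simp only [map_zero, mul_zero, zero_mul, add_zero, zero_add, ne_eq, OfNat.ofNat_ne_zero,
    not_false_eq_true, zero_pow]
  linear_combination key + f1 * h2

/-- `B' C E ↦ C E F'` under `n8` -/
theorem sM2e (b1 c e : K) :
    ConjIn T.G1 (R.NF th 0 0 b1 c 0 0 e 0 0 0 0 0) (R.NF th 0 0 0 e 0 0 c 0 b1 0 0 0) := by
  refine T.cj_n8 _ _ _ _ _ _ _ _ _ _ ?_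
  rw [← T.NF_h0]
  congr 1 <;> simp

/-- `C E F' ↦ D' E G` under `n1` -/
theorem sM2f (c e f1 : K) :
    ConjIn T.G1 (R.NF th 0 0 0 c 0 0 e 0 f1 0 0 0) (R.NF th 0 0 0 0 0 f1 e 0 0 c 0 0) := by
  refine T.cj_n1 _ _ _ _ _ _ _ _ _ _ _ ?_
  rw [T.NF_a0]
  congr 1 <;> simp

theorem lM2 (b1 c d1 e f1 : K) (hb : b1 ≠ 0) :
    ConjIn T.G1 (R.NF th 0 0 b1 c 0 d1 e 0 f1 0 0 0) (R.SD th 0 1) ∨
      ConjIn T.G1 (R.NF th 0 0 b1 c 0 d1 e 0 f1 0 0 0) (R.PE th 1) := by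
  have h1 := (T.sM2a b1 c d1 e f1 hb).trans ((T.sM2b b1 _ _ _ hb).trans (T.sM2c b1 _ _ hb))
  revert h1
  generalize b1 * th (th (th b1 ^ 2 * (c / th b1 ^ 2) * th (c / th b1 ^ 2) ^ 2 +
    c * th (c / th b1 ^ 2) ^ 2 + e) / b1) ^ 2 +
    (b1 * (c / th b1 ^ 2) * th (c / th b1 ^ 2) ^ 2 + th e * th (c / th b1 ^ 2) + f1) = φ
  intro h1
  by_cases hφ : φ = 0
  · left
    subst hφ
    exact h1.trans ((T.sM2z1 b1).trans ((T.sM2z2 b1).trans (T.lz b1 hb)))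
  · right
    obtain ⟨x, hx⟩ := T.sur2 (φ / b1)
    have hx0 : x ≠ 0 := by
      rintro rfl
      rw [mul_zero] at hx
      exact hφ (by rw [eq_comm, div_eq_zero_iff] at hx; exact hx.resolve_right hb)
    have hg : th b1 ^ 2 * x * th x ^ 2 ≠ 0 :=
      mul_ne_zero (mul_ne_zero (pow_ne_zero 2 (T.th_ne_zero hb)) hx0) (pow_ne_zero 2 (T.th_ne_zero hx0))
    exact h1.trans ((T.sM2d b1 φ x hb hx).trans ((T.sM2e _ _ _).trans ((T.sM2f _ _ _).trans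
      (T.lM1 0 b1 _ 0 _ hg))))

/-- elements `D' E F'` -/
theorem lN0 (d1 e f1 : K) (hne : ¬ (d1 = 0 ∧ e = 0 ∧ f1 = 0)) :
    ConjIn T.G1 (R.NF th 0 0 0 0 0 d1 e 0 f1 0 0 0) (R.SD th 0 1) ∨
      ConjIn T.G1 (R.NF th 0 0 0 0 0 d1 e 0 f1 0 0 0) (R.PE th 1) := by
  by_cases hf : f1 = 0
  · subst hf
    by_cases he : e = 0
    · subst he
      left
      exact T.lz d1 (fun h => hne ⟨h, rfl, rfl⟩)
    · right
      exact T.lDE d1 e he
  · have hstep : ConjIn T.G1 (R.NF th 0 0 0 0 0 d1 e 0 f1 0 0 0) (R.NF th 0 0 f1 e 0 d1 0 0 0 0 0 0) := by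
      refine T.cj_n8 _ _ _ _ _ _ _ _ _ _ ?_
      rw [← T.NF_h0]
      congr 1 <;> simp
    rcases T.lM2 f1 e d1 0 0 hf with h | h
    · exact Or.inl (hstep.trans h)
    · exact Or.inr (hstep.trans h)

theorem ConjIn_sq {H : Subgroup Γ} {x y : Γ} (h : ConjIn H x y) (hx : x * x = 1) : y * y = 1 := by
  obtain ⟨g, -, rfl⟩ := h
  have : g * x * g⁻¹ * (g * x * g⁻¹) = g * (x * x) * g⁻¹ := by group
  rw [this, hx]; group

theorem ConjIn_ne {H : Subgroup Γ} {x y : Γ} (h : ConjIn H x y) (hx : x ≠ 1) : y ≠ 1 := by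
  obtain ⟨g, -, rfl⟩ := h
  intro h1
  apply hx
  have : x = g⁻¹ * (g * x * g⁻¹) * g := by group
  rw [this, h1]; group

/-- involutions in `U₂ ⋯ U₇` -/
theorem lM (b b1 c d d1 e f f1 g : K)
    (hx : R.NF th 0 b b1 c d d1 e f f1 g 0 0 * R.NF th 0 b b1 c d d1 e f f1 g 0 0 = 1)
    (hne : R.NF th 0 b b1 c d d1 e f f1 g 0 0 ≠ 1) :
    ConjIn T.G1 (R.NF th 0 b b1 c d d1 e f f1 g 0 0) (R.SD th 0 1) ∨
      ConjIn T.G1 (R.NF th 0 b b1 c d d1 e f f1 g 0 0) (R.PE th 1) := by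
  obtain ⟨-, -, e3, -, -, e6, e7, -, e9, -, -, -⟩ := T.inj _ _ _ _ _ _ _ _ _ _ _ _
    ((R.sq_NF th T.hth _ _ _ _ _ _ _ _ _ _ _ _).symm.trans hx)
  simp only [map_zero, mul_zero, zero_mul, add_zero, zero_add, ne_eq, OfNat.ofNat_ne_zero,
    not_false_eq_true, zero_pow] at e3 e6 e7 e9
  have hb : b = 0 := by
    rcases mul_eq_zero.mp e3 with h | h
    · exact h
    · exact T.th_eq_zero.mp h
  subst hb
  simp only [map_zero, mul_zero, zero_mul, add_zero, zero_add, ne_eq, OfNat.ofNat_ne_zero,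
    not_false_eq_true, zero_pow] at e6 e7 e9
  have hf : f = 0 := by
    by_contra hf
    have hd : d = 0 := (mul_eq_zero.mp e7).resolve_right hf
    subst hd
    simp only [map_zero, zero_mul, zero_add] at e9
    rcases mul_eq_zero.mp e9 with h | h
    · exact hf h
    · exact hf (T.th_eq_zero.mp h)
  subst hf
  simp only [map_zero, mul_zero, zero_mul, add_zero, zero_add] at e6 e7 e9
  have hd : d = 0 := by
    by_contra hd
    have hg : g = 0 := T.th_eq_zero.mp ((mul_eq_zero.mp e9).resolve_left (T.th_ne_zero hd))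
    subst hg
    simp only [map_zero, mul_zero, zero_add] at e6
    rcases mul_eq_zero.mp e6 with h | h
    · exact hd h
    · exact hd (T.th_eq_zero.mp h)
  subst hd
  simp only [map_zero, mul_zero, zero_mul, add_zero, zero_add] at e6
  by_cases hg : g = 0
  · subst hg
    by_cases hb1 : b1 = 0
    · subst hb1
      by_cases hc : c = 0
      · subst hc
        refine T.lN0 d1 e f1 ?_
        rintro ⟨rfl, rfl, rfl⟩
        apply hne
        unfold RelF4.NF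
        simp only [T.PA_zero, T.SB_zero, T.PC_zero, T.SD_zero, T.PE_zero, T.SF_zero, T.PG_zero,
          T.SH_zero, one_mul]
      · exact Or.inr (T.lN c d1 e f1 hc)
    · exact T.lM2 b1 c d1 e f1 hb1
  · have hb1 : b1 = 0 := (mul_eq_zero.mp e6).resolve_right (T.th_ne_zero hg)
    subst hb1
    exact Or.inr (T.lM1 c d1 e f1 g hg)

/-- case I, first step: kill `b` -/
theorem sI1 (a b b1 c d d1 e f f1 g : K) (ha : a ≠ 0) :
    ∃ b1' c' d' d1' e' f' f1' g' : K,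
      ConjIn T.G1 (R.NF th a b b1 c d d1 e f f1 g 0 0)
        (R.NF th a 0 b1' c' d' d1' e' f' f1' g' 0 0) := by
  have key := R.cjH th T.hth a b b1 c d d1 e f f1 g 0 0 (b / a) 0
  have e1 : a * (b / a) + b = 0 := by
    rw [mul_div_cancel₀ _ ha]; exact CharTwo.add_self_eq_zero b
  have e2 : th 0 * (b / a) + 0 * th (b / a) + 0 = 0 := by simp
  rw [e1, e2] at key
  exact ⟨_, _, _, _, _, _, _, _, R.SH th (b / a) 0, T.memH _ _, key⟩

/-- case I, second step: kill `g` -/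
theorem sI2 (a b1 c d d1 e f f1 g : K) (ha : a ≠ 0) :
    ∃ b1' c' d' d1' e' f' f1' : K,
      ConjIn T.G1 (R.NF th a 0 b1 c d d1 e f f1 g 0 0)
        (R.NF th a 0 b1' c' d' d1' e' f' f1' 0 0 0) := by
  have key := R.cjH th T.hth a 0 b1 c d d1 e f f1 g 0 0 0 (th (th (g / a)))
  simp only [map_zero, mul_zero, zero_mul, add_zero, zero_add, ne_eq, OfNat.ofNat_ne_zero,
    not_false_eq_true, zero_pow] at key
  have e1 : a * th (th (g / a)) ^ 2 + g = 0 := by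
    rw [T.hth, mul_div_cancel₀ _ ha]; exact CharTwo.add_self_eq_zero g
  rw [e1] at key
  exact ⟨_, _, _, _, _, _, _, R.SH th 0 (th (th (g / a))), T.memH _ _, key⟩

/-- case I, reduced form -/
theorem lI0 (a b1 c d d1 e f f1 : K) (ha : a ≠ 0)
    (hx : R.NF th a 0 b1 c d d1 e f f1 0 0 0 * R.NF th a 0 b1 c d d1 e f f1 0 0 0 = 1) :
    ConjIn T.G1 (R.NF th a 0 b1 c d d1 e f f1 0 0 0) (R.PE th 1) := by
  obtain ⟨-, -, e3, e4, -, e6, -, -, -, -, -, -⟩ := T.inj _ _ _ _ _ _ _ _ _ _ _ _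
    ((R.sq_NF th T.hth _ _ _ _ _ _ _ _ _ _ _ _).symm.trans hx)
  simp only [map_zero, mul_zero, zero_mul, add_zero, zero_add, ne_eq, OfNat.ofNat_ne_zero,
    not_false_eq_true, zero_pow] at e3 e4 e6
  have hf : f = 0 := by
    have := (mul_eq_zero.mp e4).resolve_left ha
    exact T.th_eq_zero.mp ((pow_eq_zero_iff (two_ne_zero)).mp this)
  subst hf
  simp only [map_zero, mul_zero, zero_mul, add_zero, zero_add] at e3 e6
  have hd : d = 0 :=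
    T.th_eq_zero.mp ((mul_eq_zero.mp e3).resolve_left (T.th_ne_zero ha))
  subst hd
  simp only [map_zero, mul_zero, zero_mul, add_zero, zero_add] at e6
  have hf1 : f1 = 0 := (mul_eq_zero.mp e6).resolve_left (T.th_ne_zero ha)
  subst hf1
  refine ConjIn.trans (T.cj_n8 _ _ _ _ _ _ _ _ _ _ ?_) (T.lM1 e d1 c b1 a ha)
  rw [← T.NF_h0]
  congr 1 <;> simp

/-- involutions in `U₁ ⋯ U₇` with nontrivial `U₁`-part -/
theorem lI (a b b1 c d d1 e f f1 g : K) (ha : a ≠ 0)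
    (hx : R.NF th a b b1 c d d1 e f f1 g 0 0 * R.NF th a b b1 c d d1 e f f1 g 0 0 = 1) :
    ConjIn T.G1 (R.NF th a b b1 c d d1 e f f1 g 0 0) (R.PE th 1) := by
  obtain ⟨b1', c', d', d1', e', f', f1', g', h1⟩ := T.sI1 a b b1 c d d1 e f f1 g ha
  obtain ⟨b1'', c'', d'', d1'', e'', f'', f1'', h2⟩ := T.sI2 a b1' c' d' d1' e' f' f1' g' ha
  have h12 := h1.trans h2
  exact h12.trans (T.lI0 a _ _ _ _ _ _ _ ha (T.ConjIn_sq h12 hx))

/-- case II, first step: kill `f` -/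
theorem sII1 (b1 c d d1 e f f1 g h1 : K) (hh : h1 ≠ 0) :
    ∃ b1' c' d' d1' e' f1' g' : K,
      ConjIn T.G1 (R.NF th 0 0 b1 c d d1 e f f1 g 0 h1)
        (R.NF th 0 0 b1' c' d' d1' e' 0 f1' g' 0 h1) := by
  have hh' : th h1 ^ 2 ≠ 0 := pow_ne_zero 2 (T.th_ne_zero hh)
  have key := R.cjA th T.hth 0 0 b1 c d d1 e f f1 g 0 h1 (f / th h1 ^ 2)
  simp only [map_zero, mul_zero, zero_mul, add_zero, zero_add, ne_eq, OfNat.ofNat_ne_zero,
    not_false_eq_true, zero_pow] at key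
  have e1 : f + th h1 ^ 2 * (f / th h1 ^ 2) = 0 := by
    rw [mul_div_cancel₀ _ hh']; exact CharTwo.add_self_eq_zero f
  rw [e1] at key
  exact ⟨_, _, _, _, _, _, _, R.PA th (f / th h1 ^ 2), T.memA _, key⟩

/-- case II, reduced form -/
theorem lII0 (b1 c d d1 e f1 g h1 : K) (hh : h1 ≠ 0)
    (hx : R.NF th 0 0 b1 c d d1 e 0 f1 g 0 h1 * R.NF th 0 0 b1 c d d1 e 0 f1 g 0 h1 = 1) :
    ConjIn T.G1 (R.NF th 0 0 b1 c d d1 e 0 f1 g 0 h1) (R.SD th 0 1) ∨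
      ConjIn T.G1 (R.NF th 0 0 b1 c d d1 e 0 f1 g 0 h1) (R.PE th 1) := by
  obtain ⟨-, -, -, -, -, e6, e7, -, e9, -, -, -⟩ := T.inj _ _ _ _ _ _ _ _ _ _ _ _
    ((R.sq_NF th T.hth _ _ _ _ _ _ _ _ _ _ _ _).symm.trans hx)
  simp only [map_zero, mul_zero, zero_mul, add_zero, zero_add, ne_eq, OfNat.ofNat_ne_zero,
    not_false_eq_true, zero_pow] at e6 e7 e9
  have hh' : th h1 ^ 2 ≠ 0 := pow_ne_zero 2 (T.th_ne_zero hh)
  have hb1 : b1 = 0 := by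
    have := (mul_eq_zero.mp e7).resolve_right hh'
    exact T.th_eq_zero.mp ((pow_eq_zero_iff (two_ne_zero)).mp this)
  subst hb1
  simp only [map_zero, mul_zero, zero_mul, add_zero, zero_add, ne_eq, OfNat.ofNat_ne_zero,
    not_false_eq_true, zero_pow] at e6 e9
  have hd : d = 0 := by
    rcases mul_eq_zero.mp e6 with h | h
    · exact h
    · exact T.th_eq_zero.mp h
  subst hd
  simp only [map_zero, mul_zero, zero_mul, add_zero, zero_add] at e9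
  have hc : c = 0 := T.th_eq_zero.mp ((mul_eq_zero.mp e9).resolve_right hh)
  subst hc
  have hstep : ConjIn T.G1 (R.NF th 0 0 0 0 0 d1 e 0 f1 g 0 h1)
      (R.NF th 0 0 h1 g 0 f1 e 0 d1 0 0 0) := by
    refine T.cj_n1 _ _ _ _ _ _ _ _ _ _ _ ?_
    rw [T.NF_a0]
    congr 1 <;> simp
  rcases T.lM2 h1 g f1 e d1 hh with h | h
  · exact Or.inl (hstep.trans h)
  · exact Or.inr (hstep.trans h)

/-- involutions with nontrivial `U₈`-part -/
theorem lII (b1 c d d1 e f f1 g h1 : K) (hh : h1 ≠ 0)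
    (hx : R.NF th 0 0 b1 c d d1 e f f1 g 0 h1 * R.NF th 0 0 b1 c d d1 e f f1 g 0 h1 = 1) :
    ConjIn T.G1 (R.NF th 0 0 b1 c d d1 e f f1 g 0 h1) (R.SD th 0 1) ∨
      ConjIn T.G1 (R.NF th 0 0 b1 c d d1 e f f1 g 0 h1) (R.PE th 1) := by
  obtain ⟨b1', c', d', d1', e', f1', g', h1'⟩ := T.sII1 b1 c d d1 e f f1 g h1 hh
  rcases T.lII0 _ _ _ _ _ _ _ h1 hh (T.ConjIn_sq h1' hx) with h | h
  · exact Or.inl (h1'.trans h)
  · exact Or.inr (h1'.trans h)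

/-- **Every involution of the twisted unipotent group is conjugate to `SD 0 1` or to `PE 1`.** -/
theorem main (a b b1 c d d1 e f f1 g h h1 : K)
    (hx : R.NF th a b b1 c d d1 e f f1 g h h1 * R.NF th a b b1 c d d1 e f f1 g h h1 = 1)
    (hne : R.NF th a b b1 c d d1 e f f1 g h h1 ≠ 1) :
    ConjIn T.G1 (R.NF th a b b1 c d d1 e f f1 g h h1) (R.SD th 0 1) ∨
      ConjIn T.G1 (R.NF th a b b1 c d d1 e f f1 g h h1) (R.PE th 1) := by
  obtain ⟨-, -, -, -, -, -, -, e8, -, e10, -, e12⟩ := T.inj _ _ _ _ _ _ _ _ _ _ _ _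
    ((R.sq_NF th T.hth _ _ _ _ _ _ _ _ _ _ _ _).symm.trans hx)
  have hh : h = 0 := by
    rcases mul_eq_zero.mp e12 with h' | h'
    · exact h'
    · exact T.th_eq_zero.mp h'
  subst hh
  simp only [map_zero, mul_zero, zero_mul, add_zero, zero_add, ne_eq, OfNat.ofNat_ne_zero,
    not_false_eq_true, zero_pow] at e8 e10
  by_cases hh1 : h1 = 0
  · subst hh1
    by_cases ha : a = 0
    · subst ha
      exact T.lM b b1 c d d1 e f f1 g hx hne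
    · exact Or.inr (T.lI a b b1 c d d1 e f f1 g ha hx)
  · have hh' : th h1 ^ 2 ≠ 0 := pow_ne_zero 2 (T.th_ne_zero hh1)
    have ha : a = 0 := (mul_eq_zero.mp e8).resolve_right hh'
    subst ha
    simp only [zero_mul, zero_add] at e10
    have hb : b = 0 := (mul_eq_zero.mp e10).resolve_right hh'
    subst hb
    exact T.lII b1 c d d1 e f f1 g h1 hh1 hx

end char2

end Tw

end Cfsg.Agent.Helper4.F4Inv
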