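import Cfsg.Agent.Helper4.F4Inv.ConcRelN
import Cfsg.Agent.Helper4.F4Inv.Red
import Cfsg.Agent.Helper18.TwF4.P_Torus

/-!
# S2184 (two classes of involutions in `²F₄(q)` and in the Tits group): statements of the pieces

`f4Rel : RelF4 K (GL chevF4.Idx K)` are the positive root elements `Helper18.xGL chevF4 K r`,
`phi m` is the Tits endomorphism `x ↦ x ^ 2 ^ m` (`Helper36.F4Class.phi`), and
`f4Rel.SD (phi m) 0 u = x₂₉(0) x₄₁(0) x₄₄(u) x₄₇((θ u)²)`, `f4Rel.PE (phi m) t = x₃₉(θ t) x₄₅(t)`.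
The two classes of involutions are represented by `z = x₄₄(1) x₄₇(1)` and `v = x₃₉(1) x₄₅(1)`.
-/

set_option autoImplicit false

namespace Cfsg.Agent.Helper4.F4Inv

open Cfsg Cfsg.Lie Cfsg.Agent.Helper36.F4Class

/-- PIECE NC: `z = x₄₄(1) x₄₇(1)` and `v = x₃₉(1) x₄₅(1)` are not conjugate in `GL₅₂(K)`, `char K = 2`
(`rank (z - 1) = 21`, `rank (v - 1) = 24`; compare `Helper22/D4NC.lean`). -/
def PieceNC (K : Type*) [Field K] : Prop :=
  ¬ ∃ g : GL chevF4.Idx K,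
    g * (Cfsg.Agent.Helper18.xGL chevF4 K 44 1 * Cfsg.Agent.Helper18.xGL chevF4 K 47 1) * g⁻¹ =
      Cfsg.Agent.Helper18.xGL chevF4 K 39 1 * Cfsg.Agent.Helper18.xGL chevF4 K 45 1

/-- PIECE SUR: the maps `x ↦ x ^ (2 ^ m + 1)` and `x ↦ x ^ (2 ^ (m + 1) + 1)` are onto, `|K| = 2 ^ (2 m + 1)`. -/
def PieceSUR (K : Type*) [Field K] [Fintype K] [CharP K 2] (m : ℕ) : Prop :=
  Fintype.card K = 2 ^ (2 * m + 1) →
    (∀ y : K, ∃ x : K, phi m x * x = y) ∧ (∀ y : K, ∃ x : K, phi m x ^ 2 * x = y)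

/-- PIECE TOR: the torus `H ∩ ²F₄(q)` is transitive on the nontrivial elements `x₄₄(u) x₄₇((θ u)²)` and on
the nontrivial elements `x₃₉(θ t) x₄₅(t)` (`Helper18.TwF4.exists_torus`, `Helper36.F4Class.conj_ent`,
`ent_add_TO`, `ent_twisted_TO`; `ent 44 h = θ(a)² θ(b)³ b² a`, `ent 45 h = θ(a)² θ(b)⁴ b² a` for `a = ent 24 h`,
`b = ent 25 h`; take `b = 1` and use PIECE SUR). -/
def PieceTOR (K : Type*) [Field K] [Fintype K] [CharP K 2] (m : ℕ) : Prop :=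
  Fintype.card K = 2 ^ (2 * m + 1) →
    (∀ u : K, u ≠ 0 → ConjIn (twistedF4 K (2 ^ m)) ((f4Rel (K := K)).SD (phi m) 0 u)
      ((f4Rel (K := K)).SD (phi m) 0 1)) ∧
    (∀ t : K, t ≠ 0 → ConjIn (twistedF4 K (2 ^ m)) ((f4Rel (K := K)).PE (phi m) t)
      ((f4Rel (K := K)).PE (phi m) 1))

/-- PIECE TITS: the Tits group has exactly two classes of involutions. -/
def PieceTITS : Prop :=
  (ConjClasses.mk '' {g : Cfsg.Lie.TitsGroup | orderOf g = 2}).ncard = 2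

end Cfsg.Agent.Helper4.F4Inv
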