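import Mathlib

/-!
# The unipotent group of type `F₄` in characteristic two (abstract form)

Twenty-four root maps `X24, …, X47 : K → Γ` (for the positive roots of `F₄`, numbered as in the
Chevalley data module) satisfying the commutator relations of type `F₄` modulo two, and the
rewriting lemmas that collect a product of root elements into the order
`33 24 | 34 26 36 42 | 38 43 | 29 41 44 47 | 39 45 | 35 31 40 46 | 37 32 | 27 25 28 30`
(the eight classes of positive roots under the symmetry of `²F₄`).  This file is generated.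
-/

set_option autoImplicit false
set_option linter.unusedSimpArgs false

namespace Cfsg.Agent.Helper4.F4Inv

/-- root maps with the relations of the positive unipotent subgroup of `F₄` in characteristic 2 -/
structure RelF4 (K Γ : Type*) [Field K] [Group Γ] where
  X33 : K → Γ
  X24 : K → Γ
  X34 : K → Γ
  X26 : K → Γ
  X36 : K → Γ
  X42 : K → Γ
  X38 : K → Γ
  X43 : K → Γ
  X29 : K → Γ
  X41 : K → Γ
  X44 : K → Γ
  X47 : K → Γ
  X39 : K → Γ
  X45 : K → Γ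
  X35 : K → Γ
  X31 : K → Γ
  X40 : K → Γ
  X46 : K → Γ
  X37 : K → Γ
  X32 : K → Γ
  X27 : K → Γ
  X25 : K → Γ
  X28 : K → Γ
  X30 : K → Γ
  add33 : ∀ s t, X33 (s + t) = X33 s * X33 t
  add24 : ∀ s t, X24 (s + t) = X24 s * X24 t
  add34 : ∀ s t, X34 (s + t) = X34 s * X34 t
  add26 : ∀ s t, X26 (s + t) = X26 s * X26 t
  add36 : ∀ s t, X36 (s + t) = X36 s * X36 t
  add42 : ∀ s t, X42 (s + t) = X42 s * X42 t
  add38 : ∀ s t, X38 (s + t) = X38 s * X38 t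
  add43 : ∀ s t, X43 (s + t) = X43 s * X43 t
  add29 : ∀ s t, X29 (s + t) = X29 s * X29 t
  add41 : ∀ s t, X41 (s + t) = X41 s * X41 t
  add44 : ∀ s t, X44 (s + t) = X44 s * X44 t
  add47 : ∀ s t, X47 (s + t) = X47 s * X47 t
  add39 : ∀ s t, X39 (s + t) = X39 s * X39 t
  add45 : ∀ s t, X45 (s + t) = X45 s * X45 t
  add35 : ∀ s t, X35 (s + t) = X35 s * X35 t
  add31 : ∀ s t, X31 (s + t) = X31 s * X31 t
  add40 : ∀ s t, X40 (s + t) = X40 s * X40 t
  add46 : ∀ s t, X46 (s + t) = X46 s * X46 t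
  add37 : ∀ s t, X37 (s + t) = X37 s * X37 t
  add32 : ∀ s t, X32 (s + t) = X32 s * X32 t
  add27 : ∀ s t, X27 (s + t) = X27 s * X27 t
  add25 : ∀ s t, X25 (s + t) = X25 s * X25 t
  add28 : ∀ s t, X28 (s + t) = X28 s * X28 t
  add30 : ∀ s t, X30 (s + t) = X30 s * X30 t
  c33_24 : ∀ t u, X24 u * X33 t = X33 t * X24 u
  c33_34 : ∀ t u, X34 u * X33 t = X33 t * X34 u
  c33_26 : ∀ t u, X26 u * X33 t = X33 t * X26 u
  c33_36 : ∀ t u, X36 u * X33 t = X33 t * X36 u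
  c33_42 : ∀ t u, X42 u * X33 t = X33 t * X42 u
  c33_38 : ∀ t u, X38 u * X33 t = X33 t * X38 u
  c33_43 : ∀ t u, X43 u * X33 t = X33 t * X43 u
  r33_29 : ∀ t u, X29 u * X33 t = X33 t * X29 u * X36 (t * u)
  c33_41 : ∀ t u, X41 u * X33 t = X33 t * X41 u
  c33_44 : ∀ t u, X44 u * X33 t = X33 t * X44 u
  c33_47 : ∀ t u, X47 u * X33 t = X33 t * X47 u
  c33_39 : ∀ t u, X39 u * X33 t = X33 t * X39 u
  c33_45 : ∀ t u, X45 u * X33 t = X33 t * X45 u
  c33_35 : ∀ t u, X35 u * X33 t = X33 t * X35 u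
  r33_31 : ∀ t u, X31 u * X33 t = X33 t * X31 u * X38 (t * u) * X42 (t ^ 2 * u)
  r33_40 : ∀ t u, X40 u * X33 t = X33 t * X40 u * X44 (t * u)
  c33_46 : ∀ t u, X46 u * X33 t = X33 t * X46 u
  c33_37 : ∀ t u, X37 u * X33 t = X33 t * X37 u
  r33_32 : ∀ t u, X32 u * X33 t = X33 t * X32 u * X39 (t * u) * X43 (t ^ 2 * u)
  r33_27 : ∀ t u, X27 u * X33 t = X33 t * X27 u * X34 (t * u)
  c33_25 : ∀ t u, X25 u * X33 t = X33 t * X25 u
  r33_28 : ∀ t u, X28 u * X33 t = X33 t * X28 u * X35 (t * u)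
  r33_30 : ∀ t u, X30 u * X33 t = X33 t * X30 u * X37 (t * u) * X41 (t ^ 2 * u)
  c24_34 : ∀ t u, X34 u * X24 t = X24 t * X34 u
  c24_26 : ∀ t u, X26 u * X24 t = X24 t * X26 u
  c24_36 : ∀ t u, X36 u * X24 t = X24 t * X36 u
  c24_42 : ∀ t u, X42 u * X24 t = X24 t * X42 u
  c24_38 : ∀ t u, X38 u * X24 t = X24 t * X38 u
  c24_43 : ∀ t u, X43 u * X24 t = X24 t * X43 u
  c24_29 : ∀ t u, X29 u * X24 t = X24 t * X29 u
  r24_41 : ∀ t u, X41 u * X24 t = X24 t * X41 u * X42 (t * u)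
  c24_44 : ∀ t u, X44 u * X24 t = X24 t * X44 u
  c24_47 : ∀ t u, X47 u * X24 t = X24 t * X47 u
  c24_39 : ∀ t u, X39 u * X24 t = X24 t * X39 u
  c24_45 : ∀ t u, X45 u * X24 t = X24 t * X45 u
  r24_35 : ∀ t u, X35 u * X24 t = X24 t * X35 u * X36 (t * u) * X43 (t * u ^ 2)
  c24_31 : ∀ t u, X31 u * X24 t = X24 t * X31 u
  c24_40 : ∀ t u, X40 u * X24 t = X24 t * X40 u
  r24_46 : ∀ t u, X46 u * X24 t = X24 t * X46 u * X47 (t * u)
  r24_37 : ∀ t u, X37 u * X24 t = X24 t * X37 u * X38 (t * u) * X45 (t * u ^ 2)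
  c24_32 : ∀ t u, X32 u * X24 t = X24 t * X32 u
  c24_27 : ∀ t u, X27 u * X24 t = X24 t * X27 u
  r24_25 : ∀ t u, X25 u * X24 t = X24 t * X25 u * X26 (t * u)
  r24_28 : ∀ t u, X28 u * X24 t = X24 t * X28 u * X29 (t * u) * X32 (t * u ^ 2)
  r24_30 : ∀ t u, X30 u * X24 t = X24 t * X30 u * X31 (t * u)
  r34_26 : ∀ t u, X26 u * X34 t = X34 t * X26 u * X36 (t * u) * X42 (t ^ 2 * u)
  c34_36 : ∀ t u, X36 u * X34 t = X34 t * X36 u
  c34_42 : ∀ t u, X42 u * X34 t = X34 t * X42 u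
  c34_38 : ∀ t u, X38 u * X34 t = X34 t * X38 u
  c34_43 : ∀ t u, X43 u * X34 t = X34 t * X43 u
  r34_29 : ∀ t u, X29 u * X34 t = X34 t * X29 u * X38 (t * u)
  c34_41 : ∀ t u, X41 u * X34 t = X34 t * X41 u
  c34_44 : ∀ t u, X44 u * X34 t = X34 t * X44 u
  c34_47 : ∀ t u, X47 u * X34 t = X34 t * X47 u
  r34_39 : ∀ t u, X39 u * X34 t = X34 t * X39 u * X44 (t * u)
  c34_45 : ∀ t u, X45 u * X34 t = X34 t * X45 u
  c34_35 : ∀ t u, X35 u * X34 t = X34 t * X35 u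
  c34_31 : ∀ t u, X31 u * X34 t = X34 t * X31 u
  c34_40 : ∀ t u, X40 u * X34 t = X34 t * X40 u
  c34_46 : ∀ t u, X46 u * X34 t = X34 t * X46 u
  c34_37 : ∀ t u, X37 u * X34 t = X34 t * X37 u
  r34_32 : ∀ t u, X32 u * X34 t = X34 t * X32 u * X40 (t * u) * X45 (t ^ 2 * u)
  c34_27 : ∀ t u, X27 u * X34 t = X34 t * X27 u
  r34_25 : ∀ t u, X25 u * X34 t = X34 t * X25 u * X35 (t * u) * X41 (t ^ 2 * u)
  r34_28 : ∀ t u, X28 u * X34 t = X34 t * X28 u * X37 (t * u)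
  c34_30 : ∀ t u, X30 u * X34 t = X34 t * X30 u
  c26_36 : ∀ t u, X36 u * X26 t = X26 t * X36 u
  c26_42 : ∀ t u, X42 u * X26 t = X26 t * X42 u
  c26_38 : ∀ t u, X38 u * X26 t = X26 t * X38 u
  c26_43 : ∀ t u, X43 u * X26 t = X26 t * X43 u
  c26_29 : ∀ t u, X29 u * X26 t = X26 t * X29 u
  r26_41 : ∀ t u, X41 u * X26 t = X26 t * X41 u * X43 (t * u)
  c26_44 : ∀ t u, X44 u * X26 t = X26 t * X44 u
  c26_47 : ∀ t u, X47 u * X26 t = X26 t * X47 u
  c26_39 : ∀ t u, X39 u * X26 t = X26 t * X39 u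
  r26_45 : ∀ t u, X45 u * X26 t = X26 t * X45 u * X47 (t * u)
  c26_35 : ∀ t u, X35 u * X26 t = X26 t * X35 u
  c26_31 : ∀ t u, X31 u * X26 t = X26 t * X31 u
  c26_40 : ∀ t u, X40 u * X26 t = X26 t * X40 u
  c26_46 : ∀ t u, X46 u * X26 t = X26 t * X46 u
  r26_37 : ∀ t u, X37 u * X26 t = X26 t * X37 u * X39 (t * u) * X46 (t * u ^ 2)
  c26_32 : ∀ t u, X32 u * X26 t = X26 t * X32 u
  r26_27 : ∀ t u, X27 u * X26 t = X26 t * X27 u * X29 (t * u) * X31 (t * u ^ 2)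
  c26_25 : ∀ t u, X25 u * X26 t = X26 t * X25 u
  c26_28 : ∀ t u, X28 u * X26 t = X26 t * X28 u
  r26_30 : ∀ t u, X30 u * X26 t = X26 t * X30 u * X32 (t * u)
  c36_42 : ∀ t u, X42 u * X36 t = X36 t * X42 u
  c36_38 : ∀ t u, X38 u * X36 t = X36 t * X38 u
  c36_43 : ∀ t u, X43 u * X36 t = X36 t * X43 u
  c36_29 : ∀ t u, X29 u * X36 t = X36 t * X29 u
  c36_41 : ∀ t u, X41 u * X36 t = X36 t * X41 u
  c36_44 : ∀ t u, X44 u * X36 t = X36 t * X44 u
  c36_47 : ∀ t u, X47 u * X36 t = X36 t * X47 u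
  c36_39 : ∀ t u, X39 u * X36 t = X36 t * X39 u
  c36_45 : ∀ t u, X45 u * X36 t = X36 t * X45 u
  c36_35 : ∀ t u, X35 u * X36 t = X36 t * X35 u
  c36_31 : ∀ t u, X31 u * X36 t = X36 t * X31 u
  c36_40 : ∀ t u, X40 u * X36 t = X36 t * X40 u
  c36_46 : ∀ t u, X46 u * X36 t = X36 t * X46 u
  r36_37 : ∀ t u, X37 u * X36 t = X36 t * X37 u * X44 (t * u)
  c36_32 : ∀ t u, X32 u * X36 t = X36 t * X32 u
  r36_27 : ∀ t u, X27 u * X36 t = X36 t * X27 u * X38 (t * u)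
  c36_25 : ∀ t u, X25 u * X36 t = X36 t * X25 u
  r36_28 : ∀ t u, X28 u * X36 t = X36 t * X28 u * X39 (t * u)
  r36_30 : ∀ t u, X30 u * X36 t = X36 t * X30 u * X40 (t * u) * X47 (t ^ 2 * u)
  c42_38 : ∀ t u, X38 u * X42 t = X42 t * X38 u
  c42_43 : ∀ t u, X43 u * X42 t = X42 t * X43 u
  c42_29 : ∀ t u, X29 u * X42 t = X42 t * X29 u
  c42_41 : ∀ t u, X41 u * X42 t = X42 t * X41 u
  c42_44 : ∀ t u, X44 u * X42 t = X42 t * X44 u
  c42_47 : ∀ t u, X47 u * X42 t = X42 t * X47 u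
  c42_39 : ∀ t u, X39 u * X42 t = X42 t * X39 u
  c42_45 : ∀ t u, X45 u * X42 t = X42 t * X45 u
  c42_35 : ∀ t u, X35 u * X42 t = X42 t * X35 u
  c42_31 : ∀ t u, X31 u * X42 t = X42 t * X31 u
  c42_40 : ∀ t u, X40 u * X42 t = X42 t * X40 u
  c42_46 : ∀ t u, X46 u * X42 t = X42 t * X46 u
  c42_37 : ∀ t u, X37 u * X42 t = X42 t * X37 u
  r42_32 : ∀ t u, X32 u * X42 t = X42 t * X32 u * X47 (t * u)
  c42_27 : ∀ t u, X27 u * X42 t = X42 t * X27 u
  r42_25 : ∀ t u, X25 u * X42 t = X42 t * X25 u * X43 (t * u)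
  r42_28 : ∀ t u, X28 u * X42 t = X42 t * X28 u * X44 (t * u) * X46 (t * u ^ 2)
  r42_30 : ∀ t u, X30 u * X42 t = X42 t * X30 u * X45 (t * u)
  c38_43 : ∀ t u, X43 u * X38 t = X38 t * X43 u
  c38_29 : ∀ t u, X29 u * X38 t = X38 t * X29 u
  c38_41 : ∀ t u, X41 u * X38 t = X38 t * X41 u
  c38_44 : ∀ t u, X44 u * X38 t = X38 t * X44 u
  c38_47 : ∀ t u, X47 u * X38 t = X38 t * X47 u
  c38_39 : ∀ t u, X39 u * X38 t = X38 t * X39 u
  c38_45 : ∀ t u, X45 u * X38 t = X38 t * X45 u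
  r38_35 : ∀ t u, X35 u * X38 t = X38 t * X35 u * X44 (t * u)
  c38_31 : ∀ t u, X31 u * X38 t = X38 t * X31 u
  c38_40 : ∀ t u, X40 u * X38 t = X38 t * X40 u
  c38_46 : ∀ t u, X46 u * X38 t = X38 t * X46 u
  c38_37 : ∀ t u, X37 u * X38 t = X38 t * X37 u
  c38_32 : ∀ t u, X32 u * X38 t = X38 t * X32 u
  c38_27 : ∀ t u, X27 u * X38 t = X38 t * X27 u
  r38_25 : ∀ t u, X25 u * X38 t = X38 t * X25 u * X39 (t * u) * X47 (t ^ 2 * u)
  r38_28 : ∀ t u, X28 u * X38 t = X38 t * X28 u * X40 (t * u)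
  c38_30 : ∀ t u, X30 u * X38 t = X38 t * X30 u
  c43_29 : ∀ t u, X29 u * X43 t = X43 t * X29 u
  c43_41 : ∀ t u, X41 u * X43 t = X43 t * X41 u
  c43_44 : ∀ t u, X44 u * X43 t = X43 t * X44 u
  c43_47 : ∀ t u, X47 u * X43 t = X43 t * X47 u
  c43_39 : ∀ t u, X39 u * X43 t = X43 t * X39 u
  c43_45 : ∀ t u, X45 u * X43 t = X43 t * X45 u
  c43_35 : ∀ t u, X35 u * X43 t = X43 t * X35 u
  r43_31 : ∀ t u, X31 u * X43 t = X43 t * X31 u * X47 (t * u)
  c43_40 : ∀ t u, X40 u * X43 t = X43 t * X40 u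
  c43_46 : ∀ t u, X46 u * X43 t = X43 t * X46 u
  c43_37 : ∀ t u, X37 u * X43 t = X43 t * X37 u
  c43_32 : ∀ t u, X32 u * X43 t = X43 t * X32 u
  r43_27 : ∀ t u, X27 u * X43 t = X43 t * X27 u * X44 (t * u) * X45 (t * u ^ 2)
  c43_25 : ∀ t u, X25 u * X43 t = X43 t * X25 u
  c43_28 : ∀ t u, X28 u * X43 t = X43 t * X28 u
  r43_30 : ∀ t u, X30 u * X43 t = X43 t * X30 u * X46 (t * u)
  r29_41 : ∀ t u, X41 u * X29 t = X29 t * X41 u * X44 (t * u) * X47 (t ^ 2 * u)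
  c29_44 : ∀ t u, X44 u * X29 t = X29 t * X44 u
  c29_47 : ∀ t u, X47 u * X29 t = X29 t * X47 u
  c29_39 : ∀ t u, X39 u * X29 t = X29 t * X39 u
  c29_45 : ∀ t u, X45 u * X29 t = X29 t * X45 u
  r29_35 : ∀ t u, X35 u * X29 t = X29 t * X35 u * X39 (t * u)
  c29_31 : ∀ t u, X31 u * X29 t = X29 t * X31 u
  c29_40 : ∀ t u, X40 u * X29 t = X29 t * X40 u
  c29_46 : ∀ t u, X46 u * X29 t = X29 t * X46 u
  r29_37 : ∀ t u, X37 u * X29 t = X29 t * X37 u * X40 (t * u)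
  c29_32 : ∀ t u, X32 u * X29 t = X29 t * X32 u
  c29_27 : ∀ t u, X27 u * X29 t = X29 t * X27 u
  c29_25 : ∀ t u, X25 u * X29 t = X29 t * X25 u
  c29_28 : ∀ t u, X28 u * X29 t = X29 t * X28 u
  c29_30 : ∀ t u, X30 u * X29 t = X29 t * X30 u
  c41_44 : ∀ t u, X44 u * X41 t = X41 t * X44 u
  c41_47 : ∀ t u, X47 u * X41 t = X41 t * X47 u
  c41_39 : ∀ t u, X39 u * X41 t = X41 t * X39 u
  c41_45 : ∀ t u, X45 u * X41 t = X41 t * X45 u
  c41_35 : ∀ t u, X35 u * X41 t = X41 t * X35 u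
  r41_31 : ∀ t u, X31 u * X41 t = X41 t * X31 u * X45 (t * u)
  c41_40 : ∀ t u, X40 u * X41 t = X41 t * X40 u
  c41_46 : ∀ t u, X46 u * X41 t = X41 t * X46 u
  c41_37 : ∀ t u, X37 u * X41 t = X41 t * X37 u
  r41_32 : ∀ t u, X32 u * X41 t = X41 t * X32 u * X46 (t * u)
  c41_27 : ∀ t u, X27 u * X41 t = X41 t * X27 u
  c41_25 : ∀ t u, X25 u * X41 t = X41 t * X25 u
  c41_28 : ∀ t u, X28 u * X41 t = X41 t * X28 u
  c41_30 : ∀ t u, X30 u * X41 t = X41 t * X30 u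
  c44_47 : ∀ t u, X47 u * X44 t = X44 t * X47 u
  c44_39 : ∀ t u, X39 u * X44 t = X44 t * X39 u
  c44_45 : ∀ t u, X45 u * X44 t = X44 t * X45 u
  c44_35 : ∀ t u, X35 u * X44 t = X44 t * X35 u
  c44_31 : ∀ t u, X31 u * X44 t = X44 t * X31 u
  c44_40 : ∀ t u, X40 u * X44 t = X44 t * X40 u
  c44_46 : ∀ t u, X46 u * X44 t = X44 t * X46 u
  c44_37 : ∀ t u, X37 u * X44 t = X44 t * X37 u
  c44_32 : ∀ t u, X32 u * X44 t = X44 t * X32 u
  c44_27 : ∀ t u, X27 u * X44 t = X44 t * X27 u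
  c44_25 : ∀ t u, X25 u * X44 t = X44 t * X25 u
  c44_28 : ∀ t u, X28 u * X44 t = X44 t * X28 u
  c44_30 : ∀ t u, X30 u * X44 t = X44 t * X30 u
  c47_39 : ∀ t u, X39 u * X47 t = X47 t * X39 u
  c47_45 : ∀ t u, X45 u * X47 t = X47 t * X45 u
  c47_35 : ∀ t u, X35 u * X47 t = X47 t * X35 u
  c47_31 : ∀ t u, X31 u * X47 t = X47 t * X31 u
  c47_40 : ∀ t u, X40 u * X47 t = X47 t * X40 u
  c47_46 : ∀ t u, X46 u * X47 t = X47 t * X46 u
  c47_37 : ∀ t u, X37 u * X47 t = X47 t * X37 u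
  c47_32 : ∀ t u, X32 u * X47 t = X47 t * X32 u
  c47_27 : ∀ t u, X27 u * X47 t = X47 t * X27 u
  c47_25 : ∀ t u, X25 u * X47 t = X47 t * X25 u
  c47_28 : ∀ t u, X28 u * X47 t = X47 t * X28 u
  c47_30 : ∀ t u, X30 u * X47 t = X47 t * X30 u
  c39_45 : ∀ t u, X45 u * X39 t = X39 t * X45 u
  c39_35 : ∀ t u, X35 u * X39 t = X39 t * X35 u
  c39_31 : ∀ t u, X31 u * X39 t = X39 t * X31 u
  c39_40 : ∀ t u, X40 u * X39 t = X39 t * X40 u
  c39_46 : ∀ t u, X46 u * X39 t = X39 t * X46 u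
  c39_37 : ∀ t u, X37 u * X39 t = X39 t * X37 u
  c39_32 : ∀ t u, X32 u * X39 t = X39 t * X32 u
  r39_27 : ∀ t u, X27 u * X39 t = X39 t * X27 u * X40 (t * u)
  c39_25 : ∀ t u, X25 u * X39 t = X39 t * X25 u
  c39_28 : ∀ t u, X28 u * X39 t = X39 t * X28 u
  c39_30 : ∀ t u, X30 u * X39 t = X39 t * X30 u
  c45_35 : ∀ t u, X35 u * X45 t = X45 t * X35 u
  c45_31 : ∀ t u, X31 u * X45 t = X45 t * X31 u
  c45_40 : ∀ t u, X40 u * X45 t = X45 t * X40 u
  c45_46 : ∀ t u, X46 u * X45 t = X45 t * X46 u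
  c45_37 : ∀ t u, X37 u * X45 t = X45 t * X37 u
  c45_32 : ∀ t u, X32 u * X45 t = X45 t * X32 u
  c45_27 : ∀ t u, X27 u * X45 t = X45 t * X27 u
  r45_25 : ∀ t u, X25 u * X45 t = X45 t * X25 u * X46 (t * u)
  c45_28 : ∀ t u, X28 u * X45 t = X45 t * X28 u
  c45_30 : ∀ t u, X30 u * X45 t = X45 t * X30 u
  r35_31 : ∀ t u, X31 u * X35 t = X35 t * X31 u * X40 (t * u) * X46 (t ^ 2 * u)
  c35_40 : ∀ t u, X40 u * X35 t = X35 t * X40 u
  c35_46 : ∀ t u, X46 u * X35 t = X35 t * X46 u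
  c35_37 : ∀ t u, X37 u * X35 t = X35 t * X37 u
  c35_32 : ∀ t u, X32 u * X35 t = X35 t * X32 u
  r35_27 : ∀ t u, X27 u * X35 t = X35 t * X27 u * X37 (t * u)
  c35_25 : ∀ t u, X25 u * X35 t = X35 t * X25 u
  c35_28 : ∀ t u, X28 u * X35 t = X35 t * X28 u
  c35_30 : ∀ t u, X30 u * X35 t = X35 t * X30 u
  c31_40 : ∀ t u, X40 u * X31 t = X31 t * X40 u
  c31_46 : ∀ t u, X46 u * X31 t = X31 t * X46 u
  c31_37 : ∀ t u, X37 u * X31 t = X31 t * X37 u
  c31_32 : ∀ t u, X32 u * X31 t = X31 t * X32 u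
  c31_27 : ∀ t u, X27 u * X31 t = X31 t * X27 u
  r31_25 : ∀ t u, X25 u * X31 t = X31 t * X25 u * X32 (t * u)
  c31_28 : ∀ t u, X28 u * X31 t = X31 t * X28 u
  c31_30 : ∀ t u, X30 u * X31 t = X31 t * X30 u
  c40_46 : ∀ t u, X46 u * X40 t = X40 t * X46 u
  c40_37 : ∀ t u, X37 u * X40 t = X40 t * X37 u
  c40_32 : ∀ t u, X32 u * X40 t = X40 t * X32 u
  c40_27 : ∀ t u, X27 u * X40 t = X40 t * X27 u
  c40_25 : ∀ t u, X25 u * X40 t = X40 t * X25 u
  c40_28 : ∀ t u, X28 u * X40 t = X40 t * X28 u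
  c40_30 : ∀ t u, X30 u * X40 t = X40 t * X30 u
  c46_37 : ∀ t u, X37 u * X46 t = X46 t * X37 u
  c46_32 : ∀ t u, X32 u * X46 t = X46 t * X32 u
  c46_27 : ∀ t u, X27 u * X46 t = X46 t * X27 u
  c46_25 : ∀ t u, X25 u * X46 t = X46 t * X25 u
  c46_28 : ∀ t u, X28 u * X46 t = X46 t * X28 u
  c46_30 : ∀ t u, X30 u * X46 t = X46 t * X30 u
  c37_32 : ∀ t u, X32 u * X37 t = X37 t * X32 u
  c37_27 : ∀ t u, X27 u * X37 t = X37 t * X27 u
  c37_25 : ∀ t u, X25 u * X37 t = X37 t * X25 u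
  c37_28 : ∀ t u, X28 u * X37 t = X37 t * X28 u
  c37_30 : ∀ t u, X30 u * X37 t = X37 t * X30 u
  c32_27 : ∀ t u, X27 u * X32 t = X32 t * X27 u
  c32_25 : ∀ t u, X25 u * X32 t = X32 t * X25 u
  c32_28 : ∀ t u, X28 u * X32 t = X32 t * X28 u
  c32_30 : ∀ t u, X30 u * X32 t = X32 t * X30 u
  r27_25 : ∀ t u, X25 u * X27 t = X27 t * X25 u * X28 (t * u) * X30 (t ^ 2 * u)
  c27_28 : ∀ t u, X28 u * X27 t = X27 t * X28 u
  c27_30 : ∀ t u, X30 u * X27 t = X27 t * X30 u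
  c25_28 : ∀ t u, X28 u * X25 t = X25 t * X28 u
  c25_30 : ∀ t u, X30 u * X25 t = X25 t * X30 u
  c28_30 : ∀ t u, X30 u * X28 t = X28 t * X30 u

variable {K Γ : Type*} [Field K] [Group Γ] (R : RelF4 K Γ)

namespace RelF4

theorem zero33 : R.X33 0 = 1 := by
  have := R.add33 0 0
  rw [add_zero] at this
  exact (mul_eq_left.mp this.symm)

theorem zero24 : R.X24 0 = 1 := by
  have := R.add24 0 0
  rw [add_zero] at this
  exact (mul_eq_left.mp this.symm)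

theorem zero34 : R.X34 0 = 1 := by
  have := R.add34 0 0
  rw [add_zero] at this
  exact (mul_eq_left.mp this.symm)

theorem zero26 : R.X26 0 = 1 := by
  have := R.add26 0 0
  rw [add_zero] at this
  exact (mul_eq_left.mp this.symm)

theorem zero36 : R.X36 0 = 1 := by
  have := R.add36 0 0
  rw [add_zero] at this
  exact (mul_eq_left.mp this.symm)

theorem zero42 : R.X42 0 = 1 := by
  have := R.add42 0 0
  rw [add_zero] at this
  exact (mul_eq_left.mp this.symm)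

theorem zero38 : R.X38 0 = 1 := by
  have := R.add38 0 0
  rw [add_zero] at this
  exact (mul_eq_left.mp this.symm)

theorem zero43 : R.X43 0 = 1 := by
  have := R.add43 0 0
  rw [add_zero] at this
  exact (mul_eq_left.mp this.symm)

theorem zero29 : R.X29 0 = 1 := by
  have := R.add29 0 0
  rw [add_zero] at this
  exact (mul_eq_left.mp this.symm)

theorem zero41 : R.X41 0 = 1 := by
  have := R.add41 0 0
  rw [add_zero] at this
  exact (mul_eq_left.mp this.symm)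

theorem zero44 : R.X44 0 = 1 := by
  have := R.add44 0 0
  rw [add_zero] at this
  exact (mul_eq_left.mp this.symm)

theorem zero47 : R.X47 0 = 1 := by
  have := R.add47 0 0
  rw [add_zero] at this
  exact (mul_eq_left.mp this.symm)

theorem zero39 : R.X39 0 = 1 := by
  have := R.add39 0 0
  rw [add_zero] at this
  exact (mul_eq_left.mp this.symm)

theorem zero45 : R.X45 0 = 1 := by
  have := R.add45 0 0
  rw [add_zero] at this
  exact (mul_eq_left.mp this.symm)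

theorem zero35 : R.X35 0 = 1 := by
  have := R.add35 0 0
  rw [add_zero] at this
  exact (mul_eq_left.mp this.symm)

theorem zero31 : R.X31 0 = 1 := by
  have := R.add31 0 0
  rw [add_zero] at this
  exact (mul_eq_left.mp this.symm)

theorem zero40 : R.X40 0 = 1 := by
  have := R.add40 0 0
  rw [add_zero] at this
  exact (mul_eq_left.mp this.symm)

theorem zero46 : R.X46 0 = 1 := by
  have := R.add46 0 0
  rw [add_zero] at this
  exact (mul_eq_left.mp this.symm)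

theorem zero37 : R.X37 0 = 1 := by
  have := R.add37 0 0
  rw [add_zero] at this
  exact (mul_eq_left.mp this.symm)

theorem zero32 : R.X32 0 = 1 := by
  have := R.add32 0 0
  rw [add_zero] at this
  exact (mul_eq_left.mp this.symm)

theorem zero27 : R.X27 0 = 1 := by
  have := R.add27 0 0
  rw [add_zero] at this
  exact (mul_eq_left.mp this.symm)

theorem zero25 : R.X25 0 = 1 := by
  have := R.add25 0 0
  rw [add_zero] at this
  exact (mul_eq_left.mp this.symm)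

theorem zero28 : R.X28 0 = 1 := by
  have := R.add28 0 0
  rw [add_zero] at this
  exact (mul_eq_left.mp this.symm)

theorem zero30 : R.X30 0 = 1 := by
  have := R.add30 0 0
  rw [add_zero] at this
  exact (mul_eq_left.mp this.symm)

theorem t33_24 (t u : K) (w : Γ) : R.X24 u * (R.X33 t * w) = R.X33 t * (R.X24 u * w) := by
  rw [← mul_assoc, R.c33_24, mul_assoc]

theorem t33_34 (t u : K) (w : Γ) : R.X34 u * (R.X33 t * w) = R.X33 t * (R.X34 u * w) := by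
  rw [← mul_assoc, R.c33_34, mul_assoc]

theorem t33_26 (t u : K) (w : Γ) : R.X26 u * (R.X33 t * w) = R.X33 t * (R.X26 u * w) := by
  rw [← mul_assoc, R.c33_26, mul_assoc]

theorem t33_36 (t u : K) (w : Γ) : R.X36 u * (R.X33 t * w) = R.X33 t * (R.X36 u * w) := by
  rw [← mul_assoc, R.c33_36, mul_assoc]

theorem t33_42 (t u : K) (w : Γ) : R.X42 u * (R.X33 t * w) = R.X33 t * (R.X42 u * w) := by
  rw [← mul_assoc, R.c33_42, mul_assoc]

theorem t33_38 (t u : K) (w : Γ) : R.X38 u * (R.X33 t * w) = R.X33 t * (R.X38 u * w) := by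
  rw [← mul_assoc, R.c33_38, mul_assoc]

theorem t33_43 (t u : K) (w : Γ) : R.X43 u * (R.X33 t * w) = R.X33 t * (R.X43 u * w) := by
  rw [← mul_assoc, R.c33_43, mul_assoc]

theorem t33_29 (t u : K) (w : Γ) : R.X29 u * (R.X33 t * w) = R.X33 t * (R.X29 u * (R.X36 (t * u) * w)) := by
  rw [← mul_assoc, R.r33_29]; simp only [mul_assoc]

theorem t33_41 (t u : K) (w : Γ) : R.X41 u * (R.X33 t * w) = R.X33 t * (R.X41 u * w) := by
  rw [← mul_assoc, R.c33_41, mul_assoc]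

theorem t33_44 (t u : K) (w : Γ) : R.X44 u * (R.X33 t * w) = R.X33 t * (R.X44 u * w) := by
  rw [← mul_assoc, R.c33_44, mul_assoc]

theorem t33_47 (t u : K) (w : Γ) : R.X47 u * (R.X33 t * w) = R.X33 t * (R.X47 u * w) := by
  rw [← mul_assoc, R.c33_47, mul_assoc]

theorem t33_39 (t u : K) (w : Γ) : R.X39 u * (R.X33 t * w) = R.X33 t * (R.X39 u * w) := by
  rw [← mul_assoc, R.c33_39, mul_assoc]

theorem t33_45 (t u : K) (w : Γ) : R.X45 u * (R.X33 t * w) = R.X33 t * (R.X45 u * w) := by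
  rw [← mul_assoc, R.c33_45, mul_assoc]

theorem t33_35 (t u : K) (w : Γ) : R.X35 u * (R.X33 t * w) = R.X33 t * (R.X35 u * w) := by
  rw [← mul_assoc, R.c33_35, mul_assoc]

theorem t33_31 (t u : K) (w : Γ) : R.X31 u * (R.X33 t * w) = R.X33 t * (R.X31 u * (R.X38 (t * u) * (R.X42 (t ^ 2 * u) * w))) := by
  rw [← mul_assoc, R.r33_31]; simp only [mul_assoc]

theorem t33_40 (t u : K) (w : Γ) : R.X40 u * (R.X33 t * w) = R.X33 t * (R.X40 u * (R.X44 (t * u) * w)) := by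
  rw [← mul_assoc, R.r33_40]; simp only [mul_assoc]

theorem t33_46 (t u : K) (w : Γ) : R.X46 u * (R.X33 t * w) = R.X33 t * (R.X46 u * w) := by
  rw [← mul_assoc, R.c33_46, mul_assoc]

theorem t33_37 (t u : K) (w : Γ) : R.X37 u * (R.X33 t * w) = R.X33 t * (R.X37 u * w) := by
  rw [← mul_assoc, R.c33_37, mul_assoc]

theorem t33_32 (t u : K) (w : Γ) : R.X32 u * (R.X33 t * w) = R.X33 t * (R.X32 u * (R.X39 (t * u) * (R.X43 (t ^ 2 * u) * w))) := by
  rw [← mul_assoc, R.r33_32]; simp only [mul_assoc]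

theorem t33_27 (t u : K) (w : Γ) : R.X27 u * (R.X33 t * w) = R.X33 t * (R.X27 u * (R.X34 (t * u) * w)) := by
  rw [← mul_assoc, R.r33_27]; simp only [mul_assoc]

theorem t33_25 (t u : K) (w : Γ) : R.X25 u * (R.X33 t * w) = R.X33 t * (R.X25 u * w) := by
  rw [← mul_assoc, R.c33_25, mul_assoc]

theorem t33_28 (t u : K) (w : Γ) : R.X28 u * (R.X33 t * w) = R.X33 t * (R.X28 u * (R.X35 (t * u) * w)) := by
  rw [← mul_assoc, R.r33_28]; simp only [mul_assoc]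

theorem t33_30 (t u : K) (w : Γ) : R.X30 u * (R.X33 t * w) = R.X33 t * (R.X30 u * (R.X37 (t * u) * (R.X41 (t ^ 2 * u) * w))) := by
  rw [← mul_assoc, R.r33_30]; simp only [mul_assoc]

theorem t24_34 (t u : K) (w : Γ) : R.X34 u * (R.X24 t * w) = R.X24 t * (R.X34 u * w) := by
  rw [← mul_assoc, R.c24_34, mul_assoc]

theorem t24_26 (t u : K) (w : Γ) : R.X26 u * (R.X24 t * w) = R.X24 t * (R.X26 u * w) := by
  rw [← mul_assoc, R.c24_26, mul_assoc]

theorem t24_36 (t u : K) (w : Γ) : R.X36 u * (R.X24 t * w) = R.X24 t * (R.X36 u * w) := by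
  rw [← mul_assoc, R.c24_36, mul_assoc]

theorem t24_42 (t u : K) (w : Γ) : R.X42 u * (R.X24 t * w) = R.X24 t * (R.X42 u * w) := by
  rw [← mul_assoc, R.c24_42, mul_assoc]

theorem t24_38 (t u : K) (w : Γ) : R.X38 u * (R.X24 t * w) = R.X24 t * (R.X38 u * w) := by
  rw [← mul_assoc, R.c24_38, mul_assoc]

theorem t24_43 (t u : K) (w : Γ) : R.X43 u * (R.X24 t * w) = R.X24 t * (R.X43 u * w) := by
  rw [← mul_assoc, R.c24_43, mul_assoc]

theorem t24_29 (t u : K) (w : Γ) : R.X29 u * (R.X24 t * w) = R.X24 t * (R.X29 u * w) := by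
  rw [← mul_assoc, R.c24_29, mul_assoc]

theorem t24_41 (t u : K) (w : Γ) : R.X41 u * (R.X24 t * w) = R.X24 t * (R.X41 u * (R.X42 (t * u) * w)) := by
  rw [← mul_assoc, R.r24_41]; simp only [mul_assoc]

theorem t24_44 (t u : K) (w : Γ) : R.X44 u * (R.X24 t * w) = R.X24 t * (R.X44 u * w) := by
  rw [← mul_assoc, R.c24_44, mul_assoc]

theorem t24_47 (t u : K) (w : Γ) : R.X47 u * (R.X24 t * w) = R.X24 t * (R.X47 u * w) := by
  rw [← mul_assoc, R.c24_47, mul_assoc]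

theorem t24_39 (t u : K) (w : Γ) : R.X39 u * (R.X24 t * w) = R.X24 t * (R.X39 u * w) := by
  rw [← mul_assoc, R.c24_39, mul_assoc]

theorem t24_45 (t u : K) (w : Γ) : R.X45 u * (R.X24 t * w) = R.X24 t * (R.X45 u * w) := by
  rw [← mul_assoc, R.c24_45, mul_assoc]

theorem t24_35 (t u : K) (w : Γ) : R.X35 u * (R.X24 t * w) = R.X24 t * (R.X35 u * (R.X36 (t * u) * (R.X43 (t * u ^ 2) * w))) := by
  rw [← mul_assoc, R.r24_35]; simp only [mul_assoc]

theorem t24_31 (t u : K) (w : Γ) : R.X31 u * (R.X24 t * w) = R.X24 t * (R.X31 u * w) := by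
  rw [← mul_assoc, R.c24_31, mul_assoc]

theorem t24_40 (t u : K) (w : Γ) : R.X40 u * (R.X24 t * w) = R.X24 t * (R.X40 u * w) := by
  rw [← mul_assoc, R.c24_40, mul_assoc]

theorem t24_46 (t u : K) (w : Γ) : R.X46 u * (R.X24 t * w) = R.X24 t * (R.X46 u * (R.X47 (t * u) * w)) := by
  rw [← mul_assoc, R.r24_46]; simp only [mul_assoc]

theorem t24_37 (t u : K) (w : Γ) : R.X37 u * (R.X24 t * w) = R.X24 t * (R.X37 u * (R.X38 (t * u) * (R.X45 (t * u ^ 2) * w))) := by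
  rw [← mul_assoc, R.r24_37]; simp only [mul_assoc]

theorem t24_32 (t u : K) (w : Γ) : R.X32 u * (R.X24 t * w) = R.X24 t * (R.X32 u * w) := by
  rw [← mul_assoc, R.c24_32, mul_assoc]

theorem t24_27 (t u : K) (w : Γ) : R.X27 u * (R.X24 t * w) = R.X24 t * (R.X27 u * w) := by
  rw [← mul_assoc, R.c24_27, mul_assoc]

theorem t24_25 (t u : K) (w : Γ) : R.X25 u * (R.X24 t * w) = R.X24 t * (R.X25 u * (R.X26 (t * u) * w)) := by
  rw [← mul_assoc, R.r24_25]; simp only [mul_assoc]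

theorem t24_28 (t u : K) (w : Γ) : R.X28 u * (R.X24 t * w) = R.X24 t * (R.X28 u * (R.X29 (t * u) * (R.X32 (t * u ^ 2) * w))) := by
  rw [← mul_assoc, R.r24_28]; simp only [mul_assoc]

theorem t24_30 (t u : K) (w : Γ) : R.X30 u * (R.X24 t * w) = R.X24 t * (R.X30 u * (R.X31 (t * u) * w)) := by
  rw [← mul_assoc, R.r24_30]; simp only [mul_assoc]

theorem t34_26 (t u : K) (w : Γ) : R.X26 u * (R.X34 t * w) = R.X34 t * (R.X26 u * (R.X36 (t * u) * (R.X42 (t ^ 2 * u) * w))) := by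
  rw [← mul_assoc, R.r34_26]; simp only [mul_assoc]

theorem t34_36 (t u : K) (w : Γ) : R.X36 u * (R.X34 t * w) = R.X34 t * (R.X36 u * w) := by
  rw [← mul_assoc, R.c34_36, mul_assoc]

theorem t34_42 (t u : K) (w : Γ) : R.X42 u * (R.X34 t * w) = R.X34 t * (R.X42 u * w) := by
  rw [← mul_assoc, R.c34_42, mul_assoc]

theorem t34_38 (t u : K) (w : Γ) : R.X38 u * (R.X34 t * w) = R.X34 t * (R.X38 u * w) := by
  rw [← mul_assoc, R.c34_38, mul_assoc]

theorem t34_43 (t u : K) (w : Γ) : R.X43 u * (R.X34 t * w) = R.X34 t * (R.X43 u * w) := by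
  rw [← mul_assoc, R.c34_43, mul_assoc]

theorem t34_29 (t u : K) (w : Γ) : R.X29 u * (R.X34 t * w) = R.X34 t * (R.X29 u * (R.X38 (t * u) * w)) := by
  rw [← mul_assoc, R.r34_29]; simp only [mul_assoc]

theorem t34_41 (t u : K) (w : Γ) : R.X41 u * (R.X34 t * w) = R.X34 t * (R.X41 u * w) := by
  rw [← mul_assoc, R.c34_41, mul_assoc]

theorem t34_44 (t u : K) (w : Γ) : R.X44 u * (R.X34 t * w) = R.X34 t * (R.X44 u * w) := by
  rw [← mul_assoc, R.c34_44, mul_assoc]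

theorem t34_47 (t u : K) (w : Γ) : R.X47 u * (R.X34 t * w) = R.X34 t * (R.X47 u * w) := by
  rw [← mul_assoc, R.c34_47, mul_assoc]

theorem t34_39 (t u : K) (w : Γ) : R.X39 u * (R.X34 t * w) = R.X34 t * (R.X39 u * (R.X44 (t * u) * w)) := by
  rw [← mul_assoc, R.r34_39]; simp only [mul_assoc]

theorem t34_45 (t u : K) (w : Γ) : R.X45 u * (R.X34 t * w) = R.X34 t * (R.X45 u * w) := by
  rw [← mul_assoc, R.c34_45, mul_assoc]

theorem t34_35 (t u : K) (w : Γ) : R.X35 u * (R.X34 t * w) = R.X34 t * (R.X35 u * w) := by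
  rw [← mul_assoc, R.c34_35, mul_assoc]

theorem t34_31 (t u : K) (w : Γ) : R.X31 u * (R.X34 t * w) = R.X34 t * (R.X31 u * w) := by
  rw [← mul_assoc, R.c34_31, mul_assoc]

theorem t34_40 (t u : K) (w : Γ) : R.X40 u * (R.X34 t * w) = R.X34 t * (R.X40 u * w) := by
  rw [← mul_assoc, R.c34_40, mul_assoc]

theorem t34_46 (t u : K) (w : Γ) : R.X46 u * (R.X34 t * w) = R.X34 t * (R.X46 u * w) := by
  rw [← mul_assoc, R.c34_46, mul_assoc]

theorem t34_37 (t u : K) (w : Γ) : R.X37 u * (R.X34 t * w) = R.X34 t * (R.X37 u * w) := by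
  rw [← mul_assoc, R.c34_37, mul_assoc]

theorem t34_32 (t u : K) (w : Γ) : R.X32 u * (R.X34 t * w) = R.X34 t * (R.X32 u * (R.X40 (t * u) * (R.X45 (t ^ 2 * u) * w))) := by
  rw [← mul_assoc, R.r34_32]; simp only [mul_assoc]

theorem t34_27 (t u : K) (w : Γ) : R.X27 u * (R.X34 t * w) = R.X34 t * (R.X27 u * w) := by
  rw [← mul_assoc, R.c34_27, mul_assoc]

theorem t34_25 (t u : K) (w : Γ) : R.X25 u * (R.X34 t * w) = R.X34 t * (R.X25 u * (R.X35 (t * u) * (R.X41 (t ^ 2 * u) * w))) := by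
  rw [← mul_assoc, R.r34_25]; simp only [mul_assoc]

theorem t34_28 (t u : K) (w : Γ) : R.X28 u * (R.X34 t * w) = R.X34 t * (R.X28 u * (R.X37 (t * u) * w)) := by
  rw [← mul_assoc, R.r34_28]; simp only [mul_assoc]

theorem t34_30 (t u : K) (w : Γ) : R.X30 u * (R.X34 t * w) = R.X34 t * (R.X30 u * w) := by
  rw [← mul_assoc, R.c34_30, mul_assoc]

theorem t26_36 (t u : K) (w : Γ) : R.X36 u * (R.X26 t * w) = R.X26 t * (R.X36 u * w) := by
  rw [← mul_assoc, R.c26_36, mul_assoc]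

theorem t26_42 (t u : K) (w : Γ) : R.X42 u * (R.X26 t * w) = R.X26 t * (R.X42 u * w) := by
  rw [← mul_assoc, R.c26_42, mul_assoc]

theorem t26_38 (t u : K) (w : Γ) : R.X38 u * (R.X26 t * w) = R.X26 t * (R.X38 u * w) := by
  rw [← mul_assoc, R.c26_38, mul_assoc]

theorem t26_43 (t u : K) (w : Γ) : R.X43 u * (R.X26 t * w) = R.X26 t * (R.X43 u * w) := by
  rw [← mul_assoc, R.c26_43, mul_assoc]

theorem t26_29 (t u : K) (w : Γ) : R.X29 u * (R.X26 t * w) = R.X26 t * (R.X29 u * w) := by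
  rw [← mul_assoc, R.c26_29, mul_assoc]

theorem t26_41 (t u : K) (w : Γ) : R.X41 u * (R.X26 t * w) = R.X26 t * (R.X41 u * (R.X43 (t * u) * w)) := by
  rw [← mul_assoc, R.r26_41]; simp only [mul_assoc]

theorem t26_44 (t u : K) (w : Γ) : R.X44 u * (R.X26 t * w) = R.X26 t * (R.X44 u * w) := by
  rw [← mul_assoc, R.c26_44, mul_assoc]

theorem t26_47 (t u : K) (w : Γ) : R.X47 u * (R.X26 t * w) = R.X26 t * (R.X47 u * w) := by
  rw [← mul_assoc, R.c26_47, mul_assoc]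

theorem t26_39 (t u : K) (w : Γ) : R.X39 u * (R.X26 t * w) = R.X26 t * (R.X39 u * w) := by
  rw [← mul_assoc, R.c26_39, mul_assoc]

theorem t26_45 (t u : K) (w : Γ) : R.X45 u * (R.X26 t * w) = R.X26 t * (R.X45 u * (R.X47 (t * u) * w)) := by
  rw [← mul_assoc, R.r26_45]; simp only [mul_assoc]

theorem t26_35 (t u : K) (w : Γ) : R.X35 u * (R.X26 t * w) = R.X26 t * (R.X35 u * w) := by
  rw [← mul_assoc, R.c26_35, mul_assoc]

theorem t26_31 (t u : K) (w : Γ) : R.X31 u * (R.X26 t * w) = R.X26 t * (R.X31 u * w) := by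
  rw [← mul_assoc, R.c26_31, mul_assoc]

theorem t26_40 (t u : K) (w : Γ) : R.X40 u * (R.X26 t * w) = R.X26 t * (R.X40 u * w) := by
  rw [← mul_assoc, R.c26_40, mul_assoc]

theorem t26_46 (t u : K) (w : Γ) : R.X46 u * (R.X26 t * w) = R.X26 t * (R.X46 u * w) := by
  rw [← mul_assoc, R.c26_46, mul_assoc]

theorem t26_37 (t u : K) (w : Γ) : R.X37 u * (R.X26 t * w) = R.X26 t * (R.X37 u * (R.X39 (t * u) * (R.X46 (t * u ^ 2) * w))) := by
  rw [← mul_assoc, R.r26_37]; simp only [mul_assoc]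

theorem t26_32 (t u : K) (w : Γ) : R.X32 u * (R.X26 t * w) = R.X26 t * (R.X32 u * w) := by
  rw [← mul_assoc, R.c26_32, mul_assoc]

theorem t26_27 (t u : K) (w : Γ) : R.X27 u * (R.X26 t * w) = R.X26 t * (R.X27 u * (R.X29 (t * u) * (R.X31 (t * u ^ 2) * w))) := by
  rw [← mul_assoc, R.r26_27]; simp only [mul_assoc]

theorem t26_25 (t u : K) (w : Γ) : R.X25 u * (R.X26 t * w) = R.X26 t * (R.X25 u * w) := by
  rw [← mul_assoc, R.c26_25, mul_assoc]

theorem t26_28 (t u : K) (w : Γ) : R.X28 u * (R.X26 t * w) = R.X26 t * (R.X28 u * w) := by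
  rw [← mul_assoc, R.c26_28, mul_assoc]

theorem t26_30 (t u : K) (w : Γ) : R.X30 u * (R.X26 t * w) = R.X26 t * (R.X30 u * (R.X32 (t * u) * w)) := by
  rw [← mul_assoc, R.r26_30]; simp only [mul_assoc]

theorem t36_42 (t u : K) (w : Γ) : R.X42 u * (R.X36 t * w) = R.X36 t * (R.X42 u * w) := by
  rw [← mul_assoc, R.c36_42, mul_assoc]

theorem t36_38 (t u : K) (w : Γ) : R.X38 u * (R.X36 t * w) = R.X36 t * (R.X38 u * w) := by
  rw [← mul_assoc, R.c36_38, mul_assoc]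

theorem t36_43 (t u : K) (w : Γ) : R.X43 u * (R.X36 t * w) = R.X36 t * (R.X43 u * w) := by
  rw [← mul_assoc, R.c36_43, mul_assoc]

theorem t36_29 (t u : K) (w : Γ) : R.X29 u * (R.X36 t * w) = R.X36 t * (R.X29 u * w) := by
  rw [← mul_assoc, R.c36_29, mul_assoc]

theorem t36_41 (t u : K) (w : Γ) : R.X41 u * (R.X36 t * w) = R.X36 t * (R.X41 u * w) := by
  rw [← mul_assoc, R.c36_41, mul_assoc]

theorem t36_44 (t u : K) (w : Γ) : R.X44 u * (R.X36 t * w) = R.X36 t * (R.X44 u * w) := by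
  rw [← mul_assoc, R.c36_44, mul_assoc]

theorem t36_47 (t u : K) (w : Γ) : R.X47 u * (R.X36 t * w) = R.X36 t * (R.X47 u * w) := by
  rw [← mul_assoc, R.c36_47, mul_assoc]

theorem t36_39 (t u : K) (w : Γ) : R.X39 u * (R.X36 t * w) = R.X36 t * (R.X39 u * w) := by
  rw [← mul_assoc, R.c36_39, mul_assoc]

theorem t36_45 (t u : K) (w : Γ) : R.X45 u * (R.X36 t * w) = R.X36 t * (R.X45 u * w) := by
  rw [← mul_assoc, R.c36_45, mul_assoc]

theorem t36_35 (t u : K) (w : Γ) : R.X35 u * (R.X36 t * w) = R.X36 t * (R.X35 u * w) := by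
  rw [← mul_assoc, R.c36_35, mul_assoc]

theorem t36_31 (t u : K) (w : Γ) : R.X31 u * (R.X36 t * w) = R.X36 t * (R.X31 u * w) := by
  rw [← mul_assoc, R.c36_31, mul_assoc]

theorem t36_40 (t u : K) (w : Γ) : R.X40 u * (R.X36 t * w) = R.X36 t * (R.X40 u * w) := by
  rw [← mul_assoc, R.c36_40, mul_assoc]

theorem t36_46 (t u : K) (w : Γ) : R.X46 u * (R.X36 t * w) = R.X36 t * (R.X46 u * w) := by
  rw [← mul_assoc, R.c36_46, mul_assoc]

theorem t36_37 (t u : K) (w : Γ) : R.X37 u * (R.X36 t * w) = R.X36 t * (R.X37 u * (R.X44 (t * u) * w)) := by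
  rw [← mul_assoc, R.r36_37]; simp only [mul_assoc]

theorem t36_32 (t u : K) (w : Γ) : R.X32 u * (R.X36 t * w) = R.X36 t * (R.X32 u * w) := by
  rw [← mul_assoc, R.c36_32, mul_assoc]

theorem t36_27 (t u : K) (w : Γ) : R.X27 u * (R.X36 t * w) = R.X36 t * (R.X27 u * (R.X38 (t * u) * w)) := by
  rw [← mul_assoc, R.r36_27]; simp only [mul_assoc]

theorem t36_25 (t u : K) (w : Γ) : R.X25 u * (R.X36 t * w) = R.X36 t * (R.X25 u * w) := by
  rw [← mul_assoc, R.c36_25, mul_assoc]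

theorem t36_28 (t u : K) (w : Γ) : R.X28 u * (R.X36 t * w) = R.X36 t * (R.X28 u * (R.X39 (t * u) * w)) := by
  rw [← mul_assoc, R.r36_28]; simp only [mul_assoc]

theorem t36_30 (t u : K) (w : Γ) : R.X30 u * (R.X36 t * w) = R.X36 t * (R.X30 u * (R.X40 (t * u) * (R.X47 (t ^ 2 * u) * w))) := by
  rw [← mul_assoc, R.r36_30]; simp only [mul_assoc]

theorem t42_38 (t u : K) (w : Γ) : R.X38 u * (R.X42 t * w) = R.X42 t * (R.X38 u * w) := by
  rw [← mul_assoc, R.c42_38, mul_assoc]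

theorem t42_43 (t u : K) (w : Γ) : R.X43 u * (R.X42 t * w) = R.X42 t * (R.X43 u * w) := by
  rw [← mul_assoc, R.c42_43, mul_assoc]

theorem t42_29 (t u : K) (w : Γ) : R.X29 u * (R.X42 t * w) = R.X42 t * (R.X29 u * w) := by
  rw [← mul_assoc, R.c42_29, mul_assoc]

theorem t42_41 (t u : K) (w : Γ) : R.X41 u * (R.X42 t * w) = R.X42 t * (R.X41 u * w) := by
  rw [← mul_assoc, R.c42_41, mul_assoc]

theorem t42_44 (t u : K) (w : Γ) : R.X44 u * (R.X42 t * w) = R.X42 t * (R.X44 u * w) := by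
  rw [← mul_assoc, R.c42_44, mul_assoc]

theorem t42_47 (t u : K) (w : Γ) : R.X47 u * (R.X42 t * w) = R.X42 t * (R.X47 u * w) := by
  rw [← mul_assoc, R.c42_47, mul_assoc]

theorem t42_39 (t u : K) (w : Γ) : R.X39 u * (R.X42 t * w) = R.X42 t * (R.X39 u * w) := by
  rw [← mul_assoc, R.c42_39, mul_assoc]

theorem t42_45 (t u : K) (w : Γ) : R.X45 u * (R.X42 t * w) = R.X42 t * (R.X45 u * w) := by
  rw [← mul_assoc, R.c42_45, mul_assoc]

theorem t42_35 (t u : K) (w : Γ) : R.X35 u * (R.X42 t * w) = R.X42 t * (R.X35 u * w) := by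
  rw [← mul_assoc, R.c42_35, mul_assoc]

theorem t42_31 (t u : K) (w : Γ) : R.X31 u * (R.X42 t * w) = R.X42 t * (R.X31 u * w) := by
  rw [← mul_assoc, R.c42_31, mul_assoc]

theorem t42_40 (t u : K) (w : Γ) : R.X40 u * (R.X42 t * w) = R.X42 t * (R.X40 u * w) := by
  rw [← mul_assoc, R.c42_40, mul_assoc]

theorem t42_46 (t u : K) (w : Γ) : R.X46 u * (R.X42 t * w) = R.X42 t * (R.X46 u * w) := by
  rw [← mul_assoc, R.c42_46, mul_assoc]

theorem t42_37 (t u : K) (w : Γ) : R.X37 u * (R.X42 t * w) = R.X42 t * (R.X37 u * w) := by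
  rw [← mul_assoc, R.c42_37, mul_assoc]

theorem t42_32 (t u : K) (w : Γ) : R.X32 u * (R.X42 t * w) = R.X42 t * (R.X32 u * (R.X47 (t * u) * w)) := by
  rw [← mul_assoc, R.r42_32]; simp only [mul_assoc]

theorem t42_27 (t u : K) (w : Γ) : R.X27 u * (R.X42 t * w) = R.X42 t * (R.X27 u * w) := by
  rw [← mul_assoc, R.c42_27, mul_assoc]

theorem t42_25 (t u : K) (w : Γ) : R.X25 u * (R.X42 t * w) = R.X42 t * (R.X25 u * (R.X43 (t * u) * w)) := by
  rw [← mul_assoc, R.r42_25]; simp only [mul_assoc]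

theorem t42_28 (t u : K) (w : Γ) : R.X28 u * (R.X42 t * w) = R.X42 t * (R.X28 u * (R.X44 (t * u) * (R.X46 (t * u ^ 2) * w))) := by
  rw [← mul_assoc, R.r42_28]; simp only [mul_assoc]

theorem t42_30 (t u : K) (w : Γ) : R.X30 u * (R.X42 t * w) = R.X42 t * (R.X30 u * (R.X45 (t * u) * w)) := by
  rw [← mul_assoc, R.r42_30]; simp only [mul_assoc]

theorem t38_43 (t u : K) (w : Γ) : R.X43 u * (R.X38 t * w) = R.X38 t * (R.X43 u * w) := by
  rw [← mul_assoc, R.c38_43, mul_assoc]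

theorem t38_29 (t u : K) (w : Γ) : R.X29 u * (R.X38 t * w) = R.X38 t * (R.X29 u * w) := by
  rw [← mul_assoc, R.c38_29, mul_assoc]

theorem t38_41 (t u : K) (w : Γ) : R.X41 u * (R.X38 t * w) = R.X38 t * (R.X41 u * w) := by
  rw [← mul_assoc, R.c38_41, mul_assoc]

theorem t38_44 (t u : K) (w : Γ) : R.X44 u * (R.X38 t * w) = R.X38 t * (R.X44 u * w) := by
  rw [← mul_assoc, R.c38_44, mul_assoc]

theorem t38_47 (t u : K) (w : Γ) : R.X47 u * (R.X38 t * w) = R.X38 t * (R.X47 u * w) := by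
  rw [← mul_assoc, R.c38_47, mul_assoc]

theorem t38_39 (t u : K) (w : Γ) : R.X39 u * (R.X38 t * w) = R.X38 t * (R.X39 u * w) := by
  rw [← mul_assoc, R.c38_39, mul_assoc]

theorem t38_45 (t u : K) (w : Γ) : R.X45 u * (R.X38 t * w) = R.X38 t * (R.X45 u * w) := by
  rw [← mul_assoc, R.c38_45, mul_assoc]

theorem t38_35 (t u : K) (w : Γ) : R.X35 u * (R.X38 t * w) = R.X38 t * (R.X35 u * (R.X44 (t * u) * w)) := by
  rw [← mul_assoc, R.r38_35]; simp only [mul_assoc]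

theorem t38_31 (t u : K) (w : Γ) : R.X31 u * (R.X38 t * w) = R.X38 t * (R.X31 u * w) := by
  rw [← mul_assoc, R.c38_31, mul_assoc]

theorem t38_40 (t u : K) (w : Γ) : R.X40 u * (R.X38 t * w) = R.X38 t * (R.X40 u * w) := by
  rw [← mul_assoc, R.c38_40, mul_assoc]

theorem t38_46 (t u : K) (w : Γ) : R.X46 u * (R.X38 t * w) = R.X38 t * (R.X46 u * w) := by
  rw [← mul_assoc, R.c38_46, mul_assoc]

theorem t38_37 (t u : K) (w : Γ) : R.X37 u * (R.X38 t * w) = R.X38 t * (R.X37 u * w) := by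
  rw [← mul_assoc, R.c38_37, mul_assoc]

theorem t38_32 (t u : K) (w : Γ) : R.X32 u * (R.X38 t * w) = R.X38 t * (R.X32 u * w) := by
  rw [← mul_assoc, R.c38_32, mul_assoc]

theorem t38_27 (t u : K) (w : Γ) : R.X27 u * (R.X38 t * w) = R.X38 t * (R.X27 u * w) := by
  rw [← mul_assoc, R.c38_27, mul_assoc]

theorem t38_25 (t u : K) (w : Γ) : R.X25 u * (R.X38 t * w) = R.X38 t * (R.X25 u * (R.X39 (t * u) * (R.X47 (t ^ 2 * u) * w))) := by
  rw [← mul_assoc, R.r38_25]; simp only [mul_assoc]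

theorem t38_28 (t u : K) (w : Γ) : R.X28 u * (R.X38 t * w) = R.X38 t * (R.X28 u * (R.X40 (t * u) * w)) := by
  rw [← mul_assoc, R.r38_28]; simp only [mul_assoc]

theorem t38_30 (t u : K) (w : Γ) : R.X30 u * (R.X38 t * w) = R.X38 t * (R.X30 u * w) := by
  rw [← mul_assoc, R.c38_30, mul_assoc]

theorem t43_29 (t u : K) (w : Γ) : R.X29 u * (R.X43 t * w) = R.X43 t * (R.X29 u * w) := by
  rw [← mul_assoc, R.c43_29, mul_assoc]

theorem t43_41 (t u : K) (w : Γ) : R.X41 u * (R.X43 t * w) = R.X43 t * (R.X41 u * w) := by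
  rw [← mul_assoc, R.c43_41, mul_assoc]

theorem t43_44 (t u : K) (w : Γ) : R.X44 u * (R.X43 t * w) = R.X43 t * (R.X44 u * w) := by
  rw [← mul_assoc, R.c43_44, mul_assoc]

theorem t43_47 (t u : K) (w : Γ) : R.X47 u * (R.X43 t * w) = R.X43 t * (R.X47 u * w) := by
  rw [← mul_assoc, R.c43_47, mul_assoc]

theorem t43_39 (t u : K) (w : Γ) : R.X39 u * (R.X43 t * w) = R.X43 t * (R.X39 u * w) := by
  rw [← mul_assoc, R.c43_39, mul_assoc]

theorem t43_45 (t u : K) (w : Γ) : R.X45 u * (R.X43 t * w) = R.X43 t * (R.X45 u * w) := by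
  rw [← mul_assoc, R.c43_45, mul_assoc]

theorem t43_35 (t u : K) (w : Γ) : R.X35 u * (R.X43 t * w) = R.X43 t * (R.X35 u * w) := by
  rw [← mul_assoc, R.c43_35, mul_assoc]

theorem t43_31 (t u : K) (w : Γ) : R.X31 u * (R.X43 t * w) = R.X43 t * (R.X31 u * (R.X47 (t * u) * w)) := by
  rw [← mul_assoc, R.r43_31]; simp only [mul_assoc]

theorem t43_40 (t u : K) (w : Γ) : R.X40 u * (R.X43 t * w) = R.X43 t * (R.X40 u * w) := by
  rw [← mul_assoc, R.c43_40, mul_assoc]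

theorem t43_46 (t u : K) (w : Γ) : R.X46 u * (R.X43 t * w) = R.X43 t * (R.X46 u * w) := by
  rw [← mul_assoc, R.c43_46, mul_assoc]

theorem t43_37 (t u : K) (w : Γ) : R.X37 u * (R.X43 t * w) = R.X43 t * (R.X37 u * w) := by
  rw [← mul_assoc, R.c43_37, mul_assoc]

theorem t43_32 (t u : K) (w : Γ) : R.X32 u * (R.X43 t * w) = R.X43 t * (R.X32 u * w) := by
  rw [← mul_assoc, R.c43_32, mul_assoc]

theorem t43_27 (t u : K) (w : Γ) : R.X27 u * (R.X43 t * w) = R.X43 t * (R.X27 u * (R.X44 (t * u) * (R.X45 (t * u ^ 2) * w))) := by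
  rw [← mul_assoc, R.r43_27]; simp only [mul_assoc]

theorem t43_25 (t u : K) (w : Γ) : R.X25 u * (R.X43 t * w) = R.X43 t * (R.X25 u * w) := by
  rw [← mul_assoc, R.c43_25, mul_assoc]

theorem t43_28 (t u : K) (w : Γ) : R.X28 u * (R.X43 t * w) = R.X43 t * (R.X28 u * w) := by
  rw [← mul_assoc, R.c43_28, mul_assoc]

theorem t43_30 (t u : K) (w : Γ) : R.X30 u * (R.X43 t * w) = R.X43 t * (R.X30 u * (R.X46 (t * u) * w)) := by
  rw [← mul_assoc, R.r43_30]; simp only [mul_assoc]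

theorem t29_41 (t u : K) (w : Γ) : R.X41 u * (R.X29 t * w) = R.X29 t * (R.X41 u * (R.X44 (t * u) * (R.X47 (t ^ 2 * u) * w))) := by
  rw [← mul_assoc, R.r29_41]; simp only [mul_assoc]

theorem t29_44 (t u : K) (w : Γ) : R.X44 u * (R.X29 t * w) = R.X29 t * (R.X44 u * w) := by
  rw [← mul_assoc, R.c29_44, mul_assoc]

theorem t29_47 (t u : K) (w : Γ) : R.X47 u * (R.X29 t * w) = R.X29 t * (R.X47 u * w) := by
  rw [← mul_assoc, R.c29_47, mul_assoc]

theorem t29_39 (t u : K) (w : Γ) : R.X39 u * (R.X29 t * w) = R.X29 t * (R.X39 u * w) := by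
  rw [← mul_assoc, R.c29_39, mul_assoc]

theorem t29_45 (t u : K) (w : Γ) : R.X45 u * (R.X29 t * w) = R.X29 t * (R.X45 u * w) := by
  rw [← mul_assoc, R.c29_45, mul_assoc]

theorem t29_35 (t u : K) (w : Γ) : R.X35 u * (R.X29 t * w) = R.X29 t * (R.X35 u * (R.X39 (t * u) * w)) := by
  rw [← mul_assoc, R.r29_35]; simp only [mul_assoc]

theorem t29_31 (t u : K) (w : Γ) : R.X31 u * (R.X29 t * w) = R.X29 t * (R.X31 u * w) := by
  rw [← mul_assoc, R.c29_31, mul_assoc]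

theorem t29_40 (t u : K) (w : Γ) : R.X40 u * (R.X29 t * w) = R.X29 t * (R.X40 u * w) := by
  rw [← mul_assoc, R.c29_40, mul_assoc]

theorem t29_46 (t u : K) (w : Γ) : R.X46 u * (R.X29 t * w) = R.X29 t * (R.X46 u * w) := by
  rw [← mul_assoc, R.c29_46, mul_assoc]

theorem t29_37 (t u : K) (w : Γ) : R.X37 u * (R.X29 t * w) = R.X29 t * (R.X37 u * (R.X40 (t * u) * w)) := by
  rw [← mul_assoc, R.r29_37]; simp only [mul_assoc]

theorem t29_32 (t u : K) (w : Γ) : R.X32 u * (R.X29 t * w) = R.X29 t * (R.X32 u * w) := by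
  rw [← mul_assoc, R.c29_32, mul_assoc]

theorem t29_27 (t u : K) (w : Γ) : R.X27 u * (R.X29 t * w) = R.X29 t * (R.X27 u * w) := by
  rw [← mul_assoc, R.c29_27, mul_assoc]

theorem t29_25 (t u : K) (w : Γ) : R.X25 u * (R.X29 t * w) = R.X29 t * (R.X25 u * w) := by
  rw [← mul_assoc, R.c29_25, mul_assoc]

theorem t29_28 (t u : K) (w : Γ) : R.X28 u * (R.X29 t * w) = R.X29 t * (R.X28 u * w) := by
  rw [← mul_assoc, R.c29_28, mul_assoc]

theorem t29_30 (t u : K) (w : Γ) : R.X30 u * (R.X29 t * w) = R.X29 t * (R.X30 u * w) := by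
  rw [← mul_assoc, R.c29_30, mul_assoc]

theorem t41_44 (t u : K) (w : Γ) : R.X44 u * (R.X41 t * w) = R.X41 t * (R.X44 u * w) := by
  rw [← mul_assoc, R.c41_44, mul_assoc]

theorem t41_47 (t u : K) (w : Γ) : R.X47 u * (R.X41 t * w) = R.X41 t * (R.X47 u * w) := by
  rw [← mul_assoc, R.c41_47, mul_assoc]

theorem t41_39 (t u : K) (w : Γ) : R.X39 u * (R.X41 t * w) = R.X41 t * (R.X39 u * w) := by
  rw [← mul_assoc, R.c41_39, mul_assoc]

theorem t41_45 (t u : K) (w : Γ) : R.X45 u * (R.X41 t * w) = R.X41 t * (R.X45 u * w) := by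
  rw [← mul_assoc, R.c41_45, mul_assoc]

theorem t41_35 (t u : K) (w : Γ) : R.X35 u * (R.X41 t * w) = R.X41 t * (R.X35 u * w) := by
  rw [← mul_assoc, R.c41_35, mul_assoc]

theorem t41_31 (t u : K) (w : Γ) : R.X31 u * (R.X41 t * w) = R.X41 t * (R.X31 u * (R.X45 (t * u) * w)) := by
  rw [← mul_assoc, R.r41_31]; simp only [mul_assoc]

theorem t41_40 (t u : K) (w : Γ) : R.X40 u * (R.X41 t * w) = R.X41 t * (R.X40 u * w) := by
  rw [← mul_assoc, R.c41_40, mul_assoc]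

theorem t41_46 (t u : K) (w : Γ) : R.X46 u * (R.X41 t * w) = R.X41 t * (R.X46 u * w) := by
  rw [← mul_assoc, R.c41_46, mul_assoc]

theorem t41_37 (t u : K) (w : Γ) : R.X37 u * (R.X41 t * w) = R.X41 t * (R.X37 u * w) := by
  rw [← mul_assoc, R.c41_37, mul_assoc]

theorem t41_32 (t u : K) (w : Γ) : R.X32 u * (R.X41 t * w) = R.X41 t * (R.X32 u * (R.X46 (t * u) * w)) := by
  rw [← mul_assoc, R.r41_32]; simp only [mul_assoc]

theorem t41_27 (t u : K) (w : Γ) : R.X27 u * (R.X41 t * w) = R.X41 t * (R.X27 u * w) := by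
  rw [← mul_assoc, R.c41_27, mul_assoc]

theorem t41_25 (t u : K) (w : Γ) : R.X25 u * (R.X41 t * w) = R.X41 t * (R.X25 u * w) := by
  rw [← mul_assoc, R.c41_25, mul_assoc]

theorem t41_28 (t u : K) (w : Γ) : R.X28 u * (R.X41 t * w) = R.X41 t * (R.X28 u * w) := by
  rw [← mul_assoc, R.c41_28, mul_assoc]

theorem t41_30 (t u : K) (w : Γ) : R.X30 u * (R.X41 t * w) = R.X41 t * (R.X30 u * w) := by
  rw [← mul_assoc, R.c41_30, mul_assoc]

theorem t44_47 (t u : K) (w : Γ) : R.X47 u * (R.X44 t * w) = R.X44 t * (R.X47 u * w) := by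
  rw [← mul_assoc, R.c44_47, mul_assoc]

theorem t44_39 (t u : K) (w : Γ) : R.X39 u * (R.X44 t * w) = R.X44 t * (R.X39 u * w) := by
  rw [← mul_assoc, R.c44_39, mul_assoc]

theorem t44_45 (t u : K) (w : Γ) : R.X45 u * (R.X44 t * w) = R.X44 t * (R.X45 u * w) := by
  rw [← mul_assoc, R.c44_45, mul_assoc]

theorem t44_35 (t u : K) (w : Γ) : R.X35 u * (R.X44 t * w) = R.X44 t * (R.X35 u * w) := by
  rw [← mul_assoc, R.c44_35, mul_assoc]

theorem t44_31 (t u : K) (w : Γ) : R.X31 u * (R.X44 t * w) = R.X44 t * (R.X31 u * w) := by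
  rw [← mul_assoc, R.c44_31, mul_assoc]

theorem t44_40 (t u : K) (w : Γ) : R.X40 u * (R.X44 t * w) = R.X44 t * (R.X40 u * w) := by
  rw [← mul_assoc, R.c44_40, mul_assoc]

theorem t44_46 (t u : K) (w : Γ) : R.X46 u * (R.X44 t * w) = R.X44 t * (R.X46 u * w) := by
  rw [← mul_assoc, R.c44_46, mul_assoc]

theorem t44_37 (t u : K) (w : Γ) : R.X37 u * (R.X44 t * w) = R.X44 t * (R.X37 u * w) := by
  rw [← mul_assoc, R.c44_37, mul_assoc]

theorem t44_32 (t u : K) (w : Γ) : R.X32 u * (R.X44 t * w) = R.X44 t * (R.X32 u * w) := by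
  rw [← mul_assoc, R.c44_32, mul_assoc]

theorem t44_27 (t u : K) (w : Γ) : R.X27 u * (R.X44 t * w) = R.X44 t * (R.X27 u * w) := by
  rw [← mul_assoc, R.c44_27, mul_assoc]

theorem t44_25 (t u : K) (w : Γ) : R.X25 u * (R.X44 t * w) = R.X44 t * (R.X25 u * w) := by
  rw [← mul_assoc, R.c44_25, mul_assoc]

theorem t44_28 (t u : K) (w : Γ) : R.X28 u * (R.X44 t * w) = R.X44 t * (R.X28 u * w) := by
  rw [← mul_assoc, R.c44_28, mul_assoc]

theorem t44_30 (t u : K) (w : Γ) : R.X30 u * (R.X44 t * w) = R.X44 t * (R.X30 u * w) := by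
  rw [← mul_assoc, R.c44_30, mul_assoc]

theorem t47_39 (t u : K) (w : Γ) : R.X39 u * (R.X47 t * w) = R.X47 t * (R.X39 u * w) := by
  rw [← mul_assoc, R.c47_39, mul_assoc]

theorem t47_45 (t u : K) (w : Γ) : R.X45 u * (R.X47 t * w) = R.X47 t * (R.X45 u * w) := by
  rw [← mul_assoc, R.c47_45, mul_assoc]

theorem t47_35 (t u : K) (w : Γ) : R.X35 u * (R.X47 t * w) = R.X47 t * (R.X35 u * w) := by
  rw [← mul_assoc, R.c47_35, mul_assoc]

theorem t47_31 (t u : K) (w : Γ) : R.X31 u * (R.X47 t * w) = R.X47 t * (R.X31 u * w) := by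
  rw [← mul_assoc, R.c47_31, mul_assoc]

theorem t47_40 (t u : K) (w : Γ) : R.X40 u * (R.X47 t * w) = R.X47 t * (R.X40 u * w) := by
  rw [← mul_assoc, R.c47_40, mul_assoc]

theorem t47_46 (t u : K) (w : Γ) : R.X46 u * (R.X47 t * w) = R.X47 t * (R.X46 u * w) := by
  rw [← mul_assoc, R.c47_46, mul_assoc]

theorem t47_37 (t u : K) (w : Γ) : R.X37 u * (R.X47 t * w) = R.X47 t * (R.X37 u * w) := by
  rw [← mul_assoc, R.c47_37, mul_assoc]

theorem t47_32 (t u : K) (w : Γ) : R.X32 u * (R.X47 t * w) = R.X47 t * (R.X32 u * w) := by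
  rw [← mul_assoc, R.c47_32, mul_assoc]

theorem t47_27 (t u : K) (w : Γ) : R.X27 u * (R.X47 t * w) = R.X47 t * (R.X27 u * w) := by
  rw [← mul_assoc, R.c47_27, mul_assoc]

theorem t47_25 (t u : K) (w : Γ) : R.X25 u * (R.X47 t * w) = R.X47 t * (R.X25 u * w) := by
  rw [← mul_assoc, R.c47_25, mul_assoc]

theorem t47_28 (t u : K) (w : Γ) : R.X28 u * (R.X47 t * w) = R.X47 t * (R.X28 u * w) := by
  rw [← mul_assoc, R.c47_28, mul_assoc]

theorem t47_30 (t u : K) (w : Γ) : R.X30 u * (R.X47 t * w) = R.X47 t * (R.X30 u * w) := by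
  rw [← mul_assoc, R.c47_30, mul_assoc]

theorem t39_45 (t u : K) (w : Γ) : R.X45 u * (R.X39 t * w) = R.X39 t * (R.X45 u * w) := by
  rw [← mul_assoc, R.c39_45, mul_assoc]

theorem t39_35 (t u : K) (w : Γ) : R.X35 u * (R.X39 t * w) = R.X39 t * (R.X35 u * w) := by
  rw [← mul_assoc, R.c39_35, mul_assoc]

theorem t39_31 (t u : K) (w : Γ) : R.X31 u * (R.X39 t * w) = R.X39 t * (R.X31 u * w) := by
  rw [← mul_assoc, R.c39_31, mul_assoc]

theorem t39_40 (t u : K) (w : Γ) : R.X40 u * (R.X39 t * w) = R.X39 t * (R.X40 u * w) := by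
  rw [← mul_assoc, R.c39_40, mul_assoc]

theorem t39_46 (t u : K) (w : Γ) : R.X46 u * (R.X39 t * w) = R.X39 t * (R.X46 u * w) := by
  rw [← mul_assoc, R.c39_46, mul_assoc]

theorem t39_37 (t u : K) (w : Γ) : R.X37 u * (R.X39 t * w) = R.X39 t * (R.X37 u * w) := by
  rw [← mul_assoc, R.c39_37, mul_assoc]

theorem t39_32 (t u : K) (w : Γ) : R.X32 u * (R.X39 t * w) = R.X39 t * (R.X32 u * w) := by
  rw [← mul_assoc, R.c39_32, mul_assoc]

theorem t39_27 (t u : K) (w : Γ) : R.X27 u * (R.X39 t * w) = R.X39 t * (R.X27 u * (R.X40 (t * u) * w)) := by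
  rw [← mul_assoc, R.r39_27]; simp only [mul_assoc]

theorem t39_25 (t u : K) (w : Γ) : R.X25 u * (R.X39 t * w) = R.X39 t * (R.X25 u * w) := by
  rw [← mul_assoc, R.c39_25, mul_assoc]

theorem t39_28 (t u : K) (w : Γ) : R.X28 u * (R.X39 t * w) = R.X39 t * (R.X28 u * w) := by
  rw [← mul_assoc, R.c39_28, mul_assoc]

theorem t39_30 (t u : K) (w : Γ) : R.X30 u * (R.X39 t * w) = R.X39 t * (R.X30 u * w) := by
  rw [← mul_assoc, R.c39_30, mul_assoc]

theorem t45_35 (t u : K) (w : Γ) : R.X35 u * (R.X45 t * w) = R.X45 t * (R.X35 u * w) := by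
  rw [← mul_assoc, R.c45_35, mul_assoc]

theorem t45_31 (t u : K) (w : Γ) : R.X31 u * (R.X45 t * w) = R.X45 t * (R.X31 u * w) := by
  rw [← mul_assoc, R.c45_31, mul_assoc]

theorem t45_40 (t u : K) (w : Γ) : R.X40 u * (R.X45 t * w) = R.X45 t * (R.X40 u * w) := by
  rw [← mul_assoc, R.c45_40, mul_assoc]

theorem t45_46 (t u : K) (w : Γ) : R.X46 u * (R.X45 t * w) = R.X45 t * (R.X46 u * w) := by
  rw [← mul_assoc, R.c45_46, mul_assoc]

theorem t45_37 (t u : K) (w : Γ) : R.X37 u * (R.X45 t * w) = R.X45 t * (R.X37 u * w) := by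
  rw [← mul_assoc, R.c45_37, mul_assoc]

theorem t45_32 (t u : K) (w : Γ) : R.X32 u * (R.X45 t * w) = R.X45 t * (R.X32 u * w) := by
  rw [← mul_assoc, R.c45_32, mul_assoc]

theorem t45_27 (t u : K) (w : Γ) : R.X27 u * (R.X45 t * w) = R.X45 t * (R.X27 u * w) := by
  rw [← mul_assoc, R.c45_27, mul_assoc]

theorem t45_25 (t u : K) (w : Γ) : R.X25 u * (R.X45 t * w) = R.X45 t * (R.X25 u * (R.X46 (t * u) * w)) := by
  rw [← mul_assoc, R.r45_25]; simp only [mul_assoc]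

theorem t45_28 (t u : K) (w : Γ) : R.X28 u * (R.X45 t * w) = R.X45 t * (R.X28 u * w) := by
  rw [← mul_assoc, R.c45_28, mul_assoc]

theorem t45_30 (t u : K) (w : Γ) : R.X30 u * (R.X45 t * w) = R.X45 t * (R.X30 u * w) := by
  rw [← mul_assoc, R.c45_30, mul_assoc]

theorem t35_31 (t u : K) (w : Γ) : R.X31 u * (R.X35 t * w) = R.X35 t * (R.X31 u * (R.X40 (t * u) * (R.X46 (t ^ 2 * u) * w))) := by
  rw [← mul_assoc, R.r35_31]; simp only [mul_assoc]

theorem t35_40 (t u : K) (w : Γ) : R.X40 u * (R.X35 t * w) = R.X35 t * (R.X40 u * w) := by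
  rw [← mul_assoc, R.c35_40, mul_assoc]

theorem t35_46 (t u : K) (w : Γ) : R.X46 u * (R.X35 t * w) = R.X35 t * (R.X46 u * w) := by
  rw [← mul_assoc, R.c35_46, mul_assoc]

theorem t35_37 (t u : K) (w : Γ) : R.X37 u * (R.X35 t * w) = R.X35 t * (R.X37 u * w) := by
  rw [← mul_assoc, R.c35_37, mul_assoc]

theorem t35_32 (t u : K) (w : Γ) : R.X32 u * (R.X35 t * w) = R.X35 t * (R.X32 u * w) := by
  rw [← mul_assoc, R.c35_32, mul_assoc]

theorem t35_27 (t u : K) (w : Γ) : R.X27 u * (R.X35 t * w) = R.X35 t * (R.X27 u * (R.X37 (t * u) * w)) := by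
  rw [← mul_assoc, R.r35_27]; simp only [mul_assoc]

theorem t35_25 (t u : K) (w : Γ) : R.X25 u * (R.X35 t * w) = R.X35 t * (R.X25 u * w) := by
  rw [← mul_assoc, R.c35_25, mul_assoc]

theorem t35_28 (t u : K) (w : Γ) : R.X28 u * (R.X35 t * w) = R.X35 t * (R.X28 u * w) := by
  rw [← mul_assoc, R.c35_28, mul_assoc]

theorem t35_30 (t u : K) (w : Γ) : R.X30 u * (R.X35 t * w) = R.X35 t * (R.X30 u * w) := by
  rw [← mul_assoc, R.c35_30, mul_assoc]

theorem t31_40 (t u : K) (w : Γ) : R.X40 u * (R.X31 t * w) = R.X31 t * (R.X40 u * w) := by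
  rw [← mul_assoc, R.c31_40, mul_assoc]

theorem t31_46 (t u : K) (w : Γ) : R.X46 u * (R.X31 t * w) = R.X31 t * (R.X46 u * w) := by
  rw [← mul_assoc, R.c31_46, mul_assoc]

theorem t31_37 (t u : K) (w : Γ) : R.X37 u * (R.X31 t * w) = R.X31 t * (R.X37 u * w) := by
  rw [← mul_assoc, R.c31_37, mul_assoc]

theorem t31_32 (t u : K) (w : Γ) : R.X32 u * (R.X31 t * w) = R.X31 t * (R.X32 u * w) := by
  rw [← mul_assoc, R.c31_32, mul_assoc]

theorem t31_27 (t u : K) (w : Γ) : R.X27 u * (R.X31 t * w) = R.X31 t * (R.X27 u * w) := by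
  rw [← mul_assoc, R.c31_27, mul_assoc]

theorem t31_25 (t u : K) (w : Γ) : R.X25 u * (R.X31 t * w) = R.X31 t * (R.X25 u * (R.X32 (t * u) * w)) := by
  rw [← mul_assoc, R.r31_25]; simp only [mul_assoc]

theorem t31_28 (t u : K) (w : Γ) : R.X28 u * (R.X31 t * w) = R.X31 t * (R.X28 u * w) := by
  rw [← mul_assoc, R.c31_28, mul_assoc]

theorem t31_30 (t u : K) (w : Γ) : R.X30 u * (R.X31 t * w) = R.X31 t * (R.X30 u * w) := by
  rw [← mul_assoc, R.c31_30, mul_assoc]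

theorem t40_46 (t u : K) (w : Γ) : R.X46 u * (R.X40 t * w) = R.X40 t * (R.X46 u * w) := by
  rw [← mul_assoc, R.c40_46, mul_assoc]

theorem t40_37 (t u : K) (w : Γ) : R.X37 u * (R.X40 t * w) = R.X40 t * (R.X37 u * w) := by
  rw [← mul_assoc, R.c40_37, mul_assoc]

theorem t40_32 (t u : K) (w : Γ) : R.X32 u * (R.X40 t * w) = R.X40 t * (R.X32 u * w) := by
  rw [← mul_assoc, R.c40_32, mul_assoc]

theorem t40_27 (t u : K) (w : Γ) : R.X27 u * (R.X40 t * w) = R.X40 t * (R.X27 u * w) := by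
  rw [← mul_assoc, R.c40_27, mul_assoc]

theorem t40_25 (t u : K) (w : Γ) : R.X25 u * (R.X40 t * w) = R.X40 t * (R.X25 u * w) := by
  rw [← mul_assoc, R.c40_25, mul_assoc]

theorem t40_28 (t u : K) (w : Γ) : R.X28 u * (R.X40 t * w) = R.X40 t * (R.X28 u * w) := by
  rw [← mul_assoc, R.c40_28, mul_assoc]

theorem t40_30 (t u : K) (w : Γ) : R.X30 u * (R.X40 t * w) = R.X40 t * (R.X30 u * w) := by
  rw [← mul_assoc, R.c40_30, mul_assoc]

theorem t46_37 (t u : K) (w : Γ) : R.X37 u * (R.X46 t * w) = R.X46 t * (R.X37 u * w) := by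
  rw [← mul_assoc, R.c46_37, mul_assoc]

theorem t46_32 (t u : K) (w : Γ) : R.X32 u * (R.X46 t * w) = R.X46 t * (R.X32 u * w) := by
  rw [← mul_assoc, R.c46_32, mul_assoc]

theorem t46_27 (t u : K) (w : Γ) : R.X27 u * (R.X46 t * w) = R.X46 t * (R.X27 u * w) := by
  rw [← mul_assoc, R.c46_27, mul_assoc]

theorem t46_25 (t u : K) (w : Γ) : R.X25 u * (R.X46 t * w) = R.X46 t * (R.X25 u * w) := by
  rw [← mul_assoc, R.c46_25, mul_assoc]

theorem t46_28 (t u : K) (w : Γ) : R.X28 u * (R.X46 t * w) = R.X46 t * (R.X28 u * w) := by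
  rw [← mul_assoc, R.c46_28, mul_assoc]

theorem t46_30 (t u : K) (w : Γ) : R.X30 u * (R.X46 t * w) = R.X46 t * (R.X30 u * w) := by
  rw [← mul_assoc, R.c46_30, mul_assoc]

theorem t37_32 (t u : K) (w : Γ) : R.X32 u * (R.X37 t * w) = R.X37 t * (R.X32 u * w) := by
  rw [← mul_assoc, R.c37_32, mul_assoc]

theorem t37_27 (t u : K) (w : Γ) : R.X27 u * (R.X37 t * w) = R.X37 t * (R.X27 u * w) := by
  rw [← mul_assoc, R.c37_27, mul_assoc]

theorem t37_25 (t u : K) (w : Γ) : R.X25 u * (R.X37 t * w) = R.X37 t * (R.X25 u * w) := by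
  rw [← mul_assoc, R.c37_25, mul_assoc]

theorem t37_28 (t u : K) (w : Γ) : R.X28 u * (R.X37 t * w) = R.X37 t * (R.X28 u * w) := by
  rw [← mul_assoc, R.c37_28, mul_assoc]

theorem t37_30 (t u : K) (w : Γ) : R.X30 u * (R.X37 t * w) = R.X37 t * (R.X30 u * w) := by
  rw [← mul_assoc, R.c37_30, mul_assoc]

theorem t32_27 (t u : K) (w : Γ) : R.X27 u * (R.X32 t * w) = R.X32 t * (R.X27 u * w) := by
  rw [← mul_assoc, R.c32_27, mul_assoc]

theorem t32_25 (t u : K) (w : Γ) : R.X25 u * (R.X32 t * w) = R.X32 t * (R.X25 u * w) := by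
  rw [← mul_assoc, R.c32_25, mul_assoc]

theorem t32_28 (t u : K) (w : Γ) : R.X28 u * (R.X32 t * w) = R.X32 t * (R.X28 u * w) := by
  rw [← mul_assoc, R.c32_28, mul_assoc]

theorem t32_30 (t u : K) (w : Γ) : R.X30 u * (R.X32 t * w) = R.X32 t * (R.X30 u * w) := by
  rw [← mul_assoc, R.c32_30, mul_assoc]

theorem t27_25 (t u : K) (w : Γ) : R.X25 u * (R.X27 t * w) = R.X27 t * (R.X25 u * (R.X28 (t * u) * (R.X30 (t ^ 2 * u) * w))) := by
  rw [← mul_assoc, R.r27_25]; simp only [mul_assoc]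

theorem t27_28 (t u : K) (w : Γ) : R.X28 u * (R.X27 t * w) = R.X27 t * (R.X28 u * w) := by
  rw [← mul_assoc, R.c27_28, mul_assoc]

theorem t27_30 (t u : K) (w : Γ) : R.X30 u * (R.X27 t * w) = R.X27 t * (R.X30 u * w) := by
  rw [← mul_assoc, R.c27_30, mul_assoc]

theorem t25_28 (t u : K) (w : Γ) : R.X28 u * (R.X25 t * w) = R.X25 t * (R.X28 u * w) := by
  rw [← mul_assoc, R.c25_28, mul_assoc]

theorem t25_30 (t u : K) (w : Γ) : R.X30 u * (R.X25 t * w) = R.X25 t * (R.X30 u * w) := by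
  rw [← mul_assoc, R.c25_30, mul_assoc]

theorem t28_30 (t u : K) (w : Γ) : R.X30 u * (R.X28 t * w) = R.X28 t * (R.X30 u * w) := by
  rw [← mul_assoc, R.c28_30, mul_assoc]

theorem m33 (s t : K) (w : Γ) : R.X33 s * (R.X33 t * w) = R.X33 (s + t) * w := by rw [R.add33, mul_assoc]

theorem m24 (s t : K) (w : Γ) : R.X24 s * (R.X24 t * w) = R.X24 (s + t) * w := by rw [R.add24, mul_assoc]

theorem m34 (s t : K) (w : Γ) : R.X34 s * (R.X34 t * w) = R.X34 (s + t) * w := by rw [R.add34, mul_assoc]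

theorem m26 (s t : K) (w : Γ) : R.X26 s * (R.X26 t * w) = R.X26 (s + t) * w := by rw [R.add26, mul_assoc]

theorem m36 (s t : K) (w : Γ) : R.X36 s * (R.X36 t * w) = R.X36 (s + t) * w := by rw [R.add36, mul_assoc]

theorem m42 (s t : K) (w : Γ) : R.X42 s * (R.X42 t * w) = R.X42 (s + t) * w := by rw [R.add42, mul_assoc]

theorem m38 (s t : K) (w : Γ) : R.X38 s * (R.X38 t * w) = R.X38 (s + t) * w := by rw [R.add38, mul_assoc]

theorem m43 (s t : K) (w : Γ) : R.X43 s * (R.X43 t * w) = R.X43 (s + t) * w := by rw [R.add43, mul_assoc]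

theorem m29 (s t : K) (w : Γ) : R.X29 s * (R.X29 t * w) = R.X29 (s + t) * w := by rw [R.add29, mul_assoc]

theorem m41 (s t : K) (w : Γ) : R.X41 s * (R.X41 t * w) = R.X41 (s + t) * w := by rw [R.add41, mul_assoc]

theorem m44 (s t : K) (w : Γ) : R.X44 s * (R.X44 t * w) = R.X44 (s + t) * w := by rw [R.add44, mul_assoc]

theorem m47 (s t : K) (w : Γ) : R.X47 s * (R.X47 t * w) = R.X47 (s + t) * w := by rw [R.add47, mul_assoc]

theorem m39 (s t : K) (w : Γ) : R.X39 s * (R.X39 t * w) = R.X39 (s + t) * w := by rw [R.add39, mul_assoc]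

theorem m45 (s t : K) (w : Γ) : R.X45 s * (R.X45 t * w) = R.X45 (s + t) * w := by rw [R.add45, mul_assoc]

theorem m35 (s t : K) (w : Γ) : R.X35 s * (R.X35 t * w) = R.X35 (s + t) * w := by rw [R.add35, mul_assoc]

theorem m31 (s t : K) (w : Γ) : R.X31 s * (R.X31 t * w) = R.X31 (s + t) * w := by rw [R.add31, mul_assoc]

theorem m40 (s t : K) (w : Γ) : R.X40 s * (R.X40 t * w) = R.X40 (s + t) * w := by rw [R.add40, mul_assoc]

theorem m46 (s t : K) (w : Γ) : R.X46 s * (R.X46 t * w) = R.X46 (s + t) * w := by rw [R.add46, mul_assoc]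

theorem m37 (s t : K) (w : Γ) : R.X37 s * (R.X37 t * w) = R.X37 (s + t) * w := by rw [R.add37, mul_assoc]

theorem m32 (s t : K) (w : Γ) : R.X32 s * (R.X32 t * w) = R.X32 (s + t) * w := by rw [R.add32, mul_assoc]

theorem m27 (s t : K) (w : Γ) : R.X27 s * (R.X27 t * w) = R.X27 (s + t) * w := by rw [R.add27, mul_assoc]

theorem m25 (s t : K) (w : Γ) : R.X25 s * (R.X25 t * w) = R.X25 (s + t) * w := by rw [R.add25, mul_assoc]

theorem m28 (s t : K) (w : Γ) : R.X28 s * (R.X28 t * w) = R.X28 (s + t) * w := by rw [R.add28, mul_assoc]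

theorem m30 (s t : K) (w : Γ) : R.X30 s * (R.X30 t * w) = R.X30 (s + t) * w := by rw [R.add30, mul_assoc]

section char2

variable [CharP K 2]

theorem inv33 (w : K) : (R.X33 w)⁻¹ = R.X33 w := by
  rw [inv_eq_iff_mul_eq_one, ← R.add33, CharTwo.add_self_eq_zero, R.zero33]

theorem inv24 (w : K) : (R.X24 w)⁻¹ = R.X24 w := by
  rw [inv_eq_iff_mul_eq_one, ← R.add24, CharTwo.add_self_eq_zero, R.zero24]

theorem inv34 (w : K) : (R.X34 w)⁻¹ = R.X34 w := by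
  rw [inv_eq_iff_mul_eq_one, ← R.add34, CharTwo.add_self_eq_zero, R.zero34]

theorem inv26 (w : K) : (R.X26 w)⁻¹ = R.X26 w := by
  rw [inv_eq_iff_mul_eq_one, ← R.add26, CharTwo.add_self_eq_zero, R.zero26]

theorem inv36 (w : K) : (R.X36 w)⁻¹ = R.X36 w := by
  rw [inv_eq_iff_mul_eq_one, ← R.add36, CharTwo.add_self_eq_zero, R.zero36]

theorem inv42 (w : K) : (R.X42 w)⁻¹ = R.X42 w := by
  rw [inv_eq_iff_mul_eq_one, ← R.add42, CharTwo.add_self_eq_zero, R.zero42]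

theorem inv38 (w : K) : (R.X38 w)⁻¹ = R.X38 w := by
  rw [inv_eq_iff_mul_eq_one, ← R.add38, CharTwo.add_self_eq_zero, R.zero38]

theorem inv43 (w : K) : (R.X43 w)⁻¹ = R.X43 w := by
  rw [inv_eq_iff_mul_eq_one, ← R.add43, CharTwo.add_self_eq_zero, R.zero43]

theorem inv29 (w : K) : (R.X29 w)⁻¹ = R.X29 w := by
  rw [inv_eq_iff_mul_eq_one, ← R.add29, CharTwo.add_self_eq_zero, R.zero29]

theorem inv41 (w : K) : (R.X41 w)⁻¹ = R.X41 w := by
  rw [inv_eq_iff_mul_eq_one, ← R.add41, CharTwo.add_self_eq_zero, R.zero41]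

theorem inv44 (w : K) : (R.X44 w)⁻¹ = R.X44 w := by
  rw [inv_eq_iff_mul_eq_one, ← R.add44, CharTwo.add_self_eq_zero, R.zero44]

theorem inv47 (w : K) : (R.X47 w)⁻¹ = R.X47 w := by
  rw [inv_eq_iff_mul_eq_one, ← R.add47, CharTwo.add_self_eq_zero, R.zero47]

theorem inv39 (w : K) : (R.X39 w)⁻¹ = R.X39 w := by
  rw [inv_eq_iff_mul_eq_one, ← R.add39, CharTwo.add_self_eq_zero, R.zero39]

theorem inv45 (w : K) : (R.X45 w)⁻¹ = R.X45 w := by
  rw [inv_eq_iff_mul_eq_one, ← R.add45, CharTwo.add_self_eq_zero, R.zero45]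

theorem inv35 (w : K) : (R.X35 w)⁻¹ = R.X35 w := by
  rw [inv_eq_iff_mul_eq_one, ← R.add35, CharTwo.add_self_eq_zero, R.zero35]

theorem inv31 (w : K) : (R.X31 w)⁻¹ = R.X31 w := by
  rw [inv_eq_iff_mul_eq_one, ← R.add31, CharTwo.add_self_eq_zero, R.zero31]

theorem inv40 (w : K) : (R.X40 w)⁻¹ = R.X40 w := by
  rw [inv_eq_iff_mul_eq_one, ← R.add40, CharTwo.add_self_eq_zero, R.zero40]

theorem inv46 (w : K) : (R.X46 w)⁻¹ = R.X46 w := by
  rw [inv_eq_iff_mul_eq_one, ← R.add46, CharTwo.add_self_eq_zero, R.zero46]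

theorem inv37 (w : K) : (R.X37 w)⁻¹ = R.X37 w := by
  rw [inv_eq_iff_mul_eq_one, ← R.add37, CharTwo.add_self_eq_zero, R.zero37]

theorem inv32 (w : K) : (R.X32 w)⁻¹ = R.X32 w := by
  rw [inv_eq_iff_mul_eq_one, ← R.add32, CharTwo.add_self_eq_zero, R.zero32]

theorem inv27 (w : K) : (R.X27 w)⁻¹ = R.X27 w := by
  rw [inv_eq_iff_mul_eq_one, ← R.add27, CharTwo.add_self_eq_zero, R.zero27]

theorem inv25 (w : K) : (R.X25 w)⁻¹ = R.X25 w := by
  rw [inv_eq_iff_mul_eq_one, ← R.add25, CharTwo.add_self_eq_zero, R.zero25]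

theorem inv28 (w : K) : (R.X28 w)⁻¹ = R.X28 w := by
  rw [inv_eq_iff_mul_eq_one, ← R.add28, CharTwo.add_self_eq_zero, R.zero28]

theorem inv30 (w : K) : (R.X30 w)⁻¹ = R.X30 w := by
  rw [inv_eq_iff_mul_eq_one, ← R.add30, CharTwo.add_self_eq_zero, R.zero30]

end char2

end RelF4

end Cfsg.Agent.Helper4.F4Inv
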