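import Cfsg.Agent.Helper4.F4Inv.TwDefs

/-!
# Root elements of `F₄` acting on the two unipotent radicals (abstract form, characteristic two)

`RelF4N` extends `RelF4` by five negative root maps `X14, X23` (opposite to the class `{33, 24}`) and
`X20, X22, X19` (opposite to roots of the class `{27, 25, 28, 30}`) together with the commutator
relations between these (and `X33`, `X24`) and the root maps of the unipotent radical normalised by
them.  The rewriting lemmas move such an element to the right of a product.  This file is generated.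
-/

set_option autoImplicit false
set_option linter.unusedSimpArgs false

namespace Cfsg.Agent.Helper4.F4Inv

/-- root maps with the relations of `RelF4` and five negative root maps -/
structure RelF4N (K Γ : Type*) [Field K] [Group Γ] extends RelF4 K Γ where
  X14 : K → Γ
  X23 : K → Γ
  X20 : K → Γ
  X22 : K → Γ
  X19 : K → Γ
  k34_33 : ∀ t u, X33 u * X34 t = X34 t * X33 u
  k26_33 : ∀ t u, X33 u * X26 t = X26 t * X33 u
  k36_33 : ∀ t u, X33 u * X36 t = X36 t * X33 u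
  k42_33 : ∀ t u, X33 u * X42 t = X42 t * X33 u
  k38_33 : ∀ t u, X33 u * X38 t = X38 t * X33 u
  k43_33 : ∀ t u, X33 u * X43 t = X43 t * X33 u
  q29_33 : ∀ t u, X33 u * X29 t = X29 t * X33 u * X36 (t * u)
  k41_33 : ∀ t u, X33 u * X41 t = X41 t * X33 u
  k44_33 : ∀ t u, X33 u * X44 t = X44 t * X33 u
  k47_33 : ∀ t u, X33 u * X47 t = X47 t * X33 u
  k39_33 : ∀ t u, X33 u * X39 t = X39 t * X33 u
  k45_33 : ∀ t u, X33 u * X45 t = X45 t * X33 u
  k35_33 : ∀ t u, X33 u * X35 t = X35 t * X33 u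
  q31_33 : ∀ t u, X33 u * X31 t = X31 t * X33 u * X38 (t * u) * X42 (t * u ^ 2)
  q40_33 : ∀ t u, X33 u * X40 t = X40 t * X33 u * X44 (t * u)
  k46_33 : ∀ t u, X33 u * X46 t = X46 t * X33 u
  k37_33 : ∀ t u, X33 u * X37 t = X37 t * X33 u
  q32_33 : ∀ t u, X33 u * X32 t = X32 t * X33 u * X39 (t * u) * X43 (t * u ^ 2)
  q27_33 : ∀ t u, X33 u * X27 t = X27 t * X33 u * X34 (t * u)
  k25_33 : ∀ t u, X33 u * X25 t = X25 t * X33 u
  q28_33 : ∀ t u, X33 u * X28 t = X28 t * X33 u * X35 (t * u)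
  q30_33 : ∀ t u, X33 u * X30 t = X30 t * X33 u * X37 (t * u) * X41 (t * u ^ 2)
  k34_24 : ∀ t u, X24 u * X34 t = X34 t * X24 u
  k26_24 : ∀ t u, X24 u * X26 t = X26 t * X24 u
  k36_24 : ∀ t u, X24 u * X36 t = X36 t * X24 u
  k42_24 : ∀ t u, X24 u * X42 t = X42 t * X24 u
  k38_24 : ∀ t u, X24 u * X38 t = X38 t * X24 u
  k43_24 : ∀ t u, X24 u * X43 t = X43 t * X24 u
  k29_24 : ∀ t u, X24 u * X29 t = X29 t * X24 u
  q41_24 : ∀ t u, X24 u * X41 t = X41 t * X24 u * X42 (t * u)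
  k44_24 : ∀ t u, X24 u * X44 t = X44 t * X24 u
  k47_24 : ∀ t u, X24 u * X47 t = X47 t * X24 u
  k39_24 : ∀ t u, X24 u * X39 t = X39 t * X24 u
  k45_24 : ∀ t u, X24 u * X45 t = X45 t * X24 u
  q35_24 : ∀ t u, X24 u * X35 t = X35 t * X24 u * X36 (t * u) * X43 (t ^ 2 * u)
  k31_24 : ∀ t u, X24 u * X31 t = X31 t * X24 u
  k40_24 : ∀ t u, X24 u * X40 t = X40 t * X24 u
  q46_24 : ∀ t u, X24 u * X46 t = X46 t * X24 u * X47 (t * u)
  q37_24 : ∀ t u, X24 u * X37 t = X37 t * X24 u * X38 (t * u) * X45 (t ^ 2 * u)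
  k32_24 : ∀ t u, X24 u * X32 t = X32 t * X24 u
  k27_24 : ∀ t u, X24 u * X27 t = X27 t * X24 u
  q25_24 : ∀ t u, X24 u * X25 t = X25 t * X24 u * X26 (t * u)
  q28_24 : ∀ t u, X24 u * X28 t = X28 t * X24 u * X29 (t * u) * X32 (t ^ 2 * u)
  q30_24 : ∀ t u, X24 u * X30 t = X30 t * X24 u * X31 (t * u)
  q34_14 : ∀ t u, X14 u * X34 t = X34 t * X14 u * X27 (t * u)
  k26_14 : ∀ t u, X14 u * X26 t = X26 t * X14 u
  q36_14 : ∀ t u, X14 u * X36 t = X36 t * X14 u * X29 (t * u)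
  q42_14 : ∀ t u, X14 u * X42 t = X42 t * X14 u * X38 (t * u) * X31 (t * u ^ 2)
  k38_14 : ∀ t u, X14 u * X38 t = X38 t * X14 u
  q43_14 : ∀ t u, X14 u * X43 t = X43 t * X14 u * X39 (t * u) * X32 (t * u ^ 2)
  k29_14 : ∀ t u, X14 u * X29 t = X29 t * X14 u
  q41_14 : ∀ t u, X14 u * X41 t = X41 t * X14 u * X37 (t * u) * X30 (t * u ^ 2)
  q44_14 : ∀ t u, X14 u * X44 t = X44 t * X14 u * X40 (t * u)
  k47_14 : ∀ t u, X14 u * X47 t = X47 t * X14 u
  k39_14 : ∀ t u, X14 u * X39 t = X39 t * X14 u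
  k45_14 : ∀ t u, X14 u * X45 t = X45 t * X14 u
  q35_14 : ∀ t u, X14 u * X35 t = X35 t * X14 u * X28 (t * u)
  k31_14 : ∀ t u, X14 u * X31 t = X31 t * X14 u
  k40_14 : ∀ t u, X14 u * X40 t = X40 t * X14 u
  k46_14 : ∀ t u, X14 u * X46 t = X46 t * X14 u
  k37_14 : ∀ t u, X14 u * X37 t = X37 t * X14 u
  k32_14 : ∀ t u, X14 u * X32 t = X32 t * X14 u
  k27_14 : ∀ t u, X14 u * X27 t = X27 t * X14 u
  k25_14 : ∀ t u, X14 u * X25 t = X25 t * X14 u
  k28_14 : ∀ t u, X14 u * X28 t = X28 t * X14 u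
  k30_14 : ∀ t u, X14 u * X30 t = X30 t * X14 u
  k34_23 : ∀ t u, X23 u * X34 t = X34 t * X23 u
  q26_23 : ∀ t u, X23 u * X26 t = X26 t * X23 u * X25 (t * u)
  q36_23 : ∀ t u, X23 u * X36 t = X36 t * X23 u * X35 (t * u) * X43 (t ^ 2 * u)
  q42_23 : ∀ t u, X23 u * X42 t = X42 t * X23 u * X41 (t * u)
  q38_23 : ∀ t u, X23 u * X38 t = X38 t * X23 u * X37 (t * u) * X45 (t ^ 2 * u)
  k43_23 : ∀ t u, X23 u * X43 t = X43 t * X23 u
  q29_23 : ∀ t u, X23 u * X29 t = X29 t * X23 u * X28 (t * u) * X32 (t ^ 2 * u)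
  k41_23 : ∀ t u, X23 u * X41 t = X41 t * X23 u
  k44_23 : ∀ t u, X23 u * X44 t = X44 t * X23 u
  q47_23 : ∀ t u, X23 u * X47 t = X47 t * X23 u * X46 (t * u)
  k39_23 : ∀ t u, X23 u * X39 t = X39 t * X23 u
  k45_23 : ∀ t u, X23 u * X45 t = X45 t * X23 u
  k35_23 : ∀ t u, X23 u * X35 t = X35 t * X23 u
  q31_23 : ∀ t u, X23 u * X31 t = X31 t * X23 u * X30 (t * u)
  k40_23 : ∀ t u, X23 u * X40 t = X40 t * X23 u
  k46_23 : ∀ t u, X23 u * X46 t = X46 t * X23 u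
  k37_23 : ∀ t u, X23 u * X37 t = X37 t * X23 u
  k32_23 : ∀ t u, X23 u * X32 t = X32 t * X23 u
  k27_23 : ∀ t u, X23 u * X27 t = X27 t * X23 u
  k25_23 : ∀ t u, X23 u * X25 t = X25 t * X23 u
  k28_23 : ∀ t u, X23 u * X28 t = X28 t * X23 u
  k30_23 : ∀ t u, X23 u * X30 t = X30 t * X23 u
  k33_20 : ∀ t u, X20 u * X33 t = X33 t * X20 u
  k24_20 : ∀ t u, X20 u * X24 t = X24 t * X20 u
  q34_20 : ∀ t u, X20 u * X34 t = X34 t * X20 u * X33 (t * u)
  k26_20 : ∀ t u, X20 u * X26 t = X26 t * X20 u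
  k36_20 : ∀ t u, X20 u * X36 t = X36 t * X20 u
  k42_20 : ∀ t u, X20 u * X42 t = X42 t * X20 u
  q38_20 : ∀ t u, X20 u * X38 t = X38 t * X20 u * X36 (t * u)
  k43_20 : ∀ t u, X20 u * X43 t = X43 t * X20 u
  k29_20 : ∀ t u, X20 u * X29 t = X29 t * X20 u
  k41_20 : ∀ t u, X20 u * X41 t = X41 t * X20 u
  k44_20 : ∀ t u, X20 u * X44 t = X44 t * X20 u
  k47_20 : ∀ t u, X20 u * X47 t = X47 t * X20 u
  k39_20 : ∀ t u, X20 u * X39 t = X39 t * X20 u
  q45_20 : ∀ t u, X20 u * X45 t = X45 t * X20 u * X44 (t * u) * X43 (t * u ^ 2)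
  k35_20 : ∀ t u, X20 u * X35 t = X35 t * X20 u
  q31_20 : ∀ t u, X20 u * X31 t = X31 t * X20 u * X29 (t * u) * X26 (t * u ^ 2)
  q40_20 : ∀ t u, X20 u * X40 t = X40 t * X20 u * X39 (t * u)
  k46_20 : ∀ t u, X20 u * X46 t = X46 t * X20 u
  q37_20 : ∀ t u, X20 u * X37 t = X37 t * X20 u * X35 (t * u)
  k32_20 : ∀ t u, X20 u * X32 t = X32 t * X20 u
  k33_22 : ∀ t u, X22 u * X33 t = X33 t * X22 u
  k24_22 : ∀ t u, X22 u * X24 t = X24 t * X22 u
  k34_22 : ∀ t u, X22 u * X34 t = X34 t * X22 u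
  q26_22 : ∀ t u, X22 u * X26 t = X26 t * X22 u * X24 (t * u)
  k36_22 : ∀ t u, X22 u * X36 t = X36 t * X22 u
  k42_22 : ∀ t u, X22 u * X42 t = X42 t * X22 u
  k38_22 : ∀ t u, X22 u * X38 t = X38 t * X22 u
  q43_22 : ∀ t u, X22 u * X43 t = X43 t * X22 u * X42 (t * u)
  k29_22 : ∀ t u, X22 u * X29 t = X29 t * X22 u
  k41_22 : ∀ t u, X22 u * X41 t = X41 t * X22 u
  k44_22 : ∀ t u, X22 u * X44 t = X44 t * X22 u
  k47_22 : ∀ t u, X22 u * X47 t = X47 t * X22 u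
  q39_22 : ∀ t u, X22 u * X39 t = X39 t * X22 u * X38 (t * u) * X47 (t ^ 2 * u)
  k45_22 : ∀ t u, X22 u * X45 t = X45 t * X22 u
  q35_22 : ∀ t u, X22 u * X35 t = X35 t * X22 u * X34 (t * u) * X41 (t ^ 2 * u)
  k31_22 : ∀ t u, X22 u * X31 t = X31 t * X22 u
  k40_22 : ∀ t u, X22 u * X40 t = X40 t * X22 u
  q46_22 : ∀ t u, X22 u * X46 t = X46 t * X22 u * X45 (t * u)
  k37_22 : ∀ t u, X22 u * X37 t = X37 t * X22 u
  q32_22 : ∀ t u, X22 u * X32 t = X32 t * X22 u * X31 (t * u)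
  k33_19 : ∀ t u, X19 u * X33 t = X33 t * X19 u
  k24_19 : ∀ t u, X19 u * X24 t = X24 t * X19 u
  k34_19 : ∀ t u, X19 u * X34 t = X34 t * X19 u
  k26_19 : ∀ t u, X19 u * X26 t = X26 t * X19 u
  k36_19 : ∀ t u, X19 u * X36 t = X36 t * X19 u
  k42_19 : ∀ t u, X19 u * X42 t = X42 t * X19 u
  k38_19 : ∀ t u, X19 u * X38 t = X38 t * X19 u
  k43_19 : ∀ t u, X19 u * X43 t = X43 t * X19 u
  k29_19 : ∀ t u, X19 u * X29 t = X29 t * X19 u
  k41_19 : ∀ t u, X19 u * X41 t = X41 t * X19 u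
  k44_19 : ∀ t u, X19 u * X44 t = X44 t * X19 u
  k47_19 : ∀ t u, X19 u * X47 t = X47 t * X19 u
  q39_19 : ∀ t u, X19 u * X39 t = X39 t * X19 u * X36 (t * u)
  k45_19 : ∀ t u, X19 u * X45 t = X45 t * X19 u
  q35_19 : ∀ t u, X19 u * X35 t = X35 t * X19 u * X33 (t * u)
  k31_19 : ∀ t u, X19 u * X31 t = X31 t * X19 u
  q40_19 : ∀ t u, X19 u * X40 t = X40 t * X19 u * X38 (t * u)
  q46_19 : ∀ t u, X19 u * X46 t = X46 t * X19 u * X44 (t * u) * X42 (t * u ^ 2)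
  q37_19 : ∀ t u, X19 u * X37 t = X37 t * X19 u * X34 (t * u)
  q32_19 : ∀ t u, X19 u * X32 t = X32 t * X19 u * X29 (t * u) * X24 (t * u ^ 2)

variable {K Γ : Type*} [Field K] [Group Γ] (R : RelF4N K Γ)

namespace RelF4N

theorem tq34_33 (t u : K) (w : Γ) : R.X33 u * (R.X34 t * w) = R.X34 t * (R.X33 u * w) := by
  rw [← mul_assoc, R.k34_33, mul_assoc]

theorem tq26_33 (t u : K) (w : Γ) : R.X33 u * (R.X26 t * w) = R.X26 t * (R.X33 u * w) := by
  rw [← mul_assoc, R.k26_33, mul_assoc]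

theorem tq36_33 (t u : K) (w : Γ) : R.X33 u * (R.X36 t * w) = R.X36 t * (R.X33 u * w) := by
  rw [← mul_assoc, R.k36_33, mul_assoc]

theorem tq42_33 (t u : K) (w : Γ) : R.X33 u * (R.X42 t * w) = R.X42 t * (R.X33 u * w) := by
  rw [← mul_assoc, R.k42_33, mul_assoc]

theorem tq38_33 (t u : K) (w : Γ) : R.X33 u * (R.X38 t * w) = R.X38 t * (R.X33 u * w) := by
  rw [← mul_assoc, R.k38_33, mul_assoc]

theorem tq43_33 (t u : K) (w : Γ) : R.X33 u * (R.X43 t * w) = R.X43 t * (R.X33 u * w) := by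
  rw [← mul_assoc, R.k43_33, mul_assoc]

theorem tq29_33 (t u : K) (w : Γ) : R.X33 u * (R.X29 t * w) = R.X29 t * (R.X33 u * (R.X36 (t * u) * w)) := by
  rw [← mul_assoc, R.q29_33]; simp only [mul_assoc]

theorem tq41_33 (t u : K) (w : Γ) : R.X33 u * (R.X41 t * w) = R.X41 t * (R.X33 u * w) := by
  rw [← mul_assoc, R.k41_33, mul_assoc]

theorem tq44_33 (t u : K) (w : Γ) : R.X33 u * (R.X44 t * w) = R.X44 t * (R.X33 u * w) := by
  rw [← mul_assoc, R.k44_33, mul_assoc]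

theorem tq47_33 (t u : K) (w : Γ) : R.X33 u * (R.X47 t * w) = R.X47 t * (R.X33 u * w) := by
  rw [← mul_assoc, R.k47_33, mul_assoc]

theorem tq39_33 (t u : K) (w : Γ) : R.X33 u * (R.X39 t * w) = R.X39 t * (R.X33 u * w) := by
  rw [← mul_assoc, R.k39_33, mul_assoc]

theorem tq45_33 (t u : K) (w : Γ) : R.X33 u * (R.X45 t * w) = R.X45 t * (R.X33 u * w) := by
  rw [← mul_assoc, R.k45_33, mul_assoc]

theorem tq35_33 (t u : K) (w : Γ) : R.X33 u * (R.X35 t * w) = R.X35 t * (R.X33 u * w) := by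
  rw [← mul_assoc, R.k35_33, mul_assoc]

theorem tq31_33 (t u : K) (w : Γ) : R.X33 u * (R.X31 t * w) = R.X31 t * (R.X33 u * (R.X38 (t * u) * (R.X42 (t * u ^ 2) * w))) := by
  rw [← mul_assoc, R.q31_33]; simp only [mul_assoc]

theorem tq40_33 (t u : K) (w : Γ) : R.X33 u * (R.X40 t * w) = R.X40 t * (R.X33 u * (R.X44 (t * u) * w)) := by
  rw [← mul_assoc, R.q40_33]; simp only [mul_assoc]

theorem tq46_33 (t u : K) (w : Γ) : R.X33 u * (R.X46 t * w) = R.X46 t * (R.X33 u * w) := by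
  rw [← mul_assoc, R.k46_33, mul_assoc]

theorem tq37_33 (t u : K) (w : Γ) : R.X33 u * (R.X37 t * w) = R.X37 t * (R.X33 u * w) := by
  rw [← mul_assoc, R.k37_33, mul_assoc]

theorem tq32_33 (t u : K) (w : Γ) : R.X33 u * (R.X32 t * w) = R.X32 t * (R.X33 u * (R.X39 (t * u) * (R.X43 (t * u ^ 2) * w))) := by
  rw [← mul_assoc, R.q32_33]; simp only [mul_assoc]

theorem tq27_33 (t u : K) (w : Γ) : R.X33 u * (R.X27 t * w) = R.X27 t * (R.X33 u * (R.X34 (t * u) * w)) := by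
  rw [← mul_assoc, R.q27_33]; simp only [mul_assoc]

theorem tq25_33 (t u : K) (w : Γ) : R.X33 u * (R.X25 t * w) = R.X25 t * (R.X33 u * w) := by
  rw [← mul_assoc, R.k25_33, mul_assoc]

theorem tq28_33 (t u : K) (w : Γ) : R.X33 u * (R.X28 t * w) = R.X28 t * (R.X33 u * (R.X35 (t * u) * w)) := by
  rw [← mul_assoc, R.q28_33]; simp only [mul_assoc]

theorem tq30_33 (t u : K) (w : Γ) : R.X33 u * (R.X30 t * w) = R.X30 t * (R.X33 u * (R.X37 (t * u) * (R.X41 (t * u ^ 2) * w))) := by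
  rw [← mul_assoc, R.q30_33]; simp only [mul_assoc]

theorem tq34_24 (t u : K) (w : Γ) : R.X24 u * (R.X34 t * w) = R.X34 t * (R.X24 u * w) := by
  rw [← mul_assoc, R.k34_24, mul_assoc]

theorem tq26_24 (t u : K) (w : Γ) : R.X24 u * (R.X26 t * w) = R.X26 t * (R.X24 u * w) := by
  rw [← mul_assoc, R.k26_24, mul_assoc]

theorem tq36_24 (t u : K) (w : Γ) : R.X24 u * (R.X36 t * w) = R.X36 t * (R.X24 u * w) := by
  rw [← mul_assoc, R.k36_24, mul_assoc]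

theorem tq42_24 (t u : K) (w : Γ) : R.X24 u * (R.X42 t * w) = R.X42 t * (R.X24 u * w) := by
  rw [← mul_assoc, R.k42_24, mul_assoc]

theorem tq38_24 (t u : K) (w : Γ) : R.X24 u * (R.X38 t * w) = R.X38 t * (R.X24 u * w) := by
  rw [← mul_assoc, R.k38_24, mul_assoc]

theorem tq43_24 (t u : K) (w : Γ) : R.X24 u * (R.X43 t * w) = R.X43 t * (R.X24 u * w) := by
  rw [← mul_assoc, R.k43_24, mul_assoc]

theorem tq29_24 (t u : K) (w : Γ) : R.X24 u * (R.X29 t * w) = R.X29 t * (R.X24 u * w) := by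
  rw [← mul_assoc, R.k29_24, mul_assoc]

theorem tq41_24 (t u : K) (w : Γ) : R.X24 u * (R.X41 t * w) = R.X41 t * (R.X24 u * (R.X42 (t * u) * w)) := by
  rw [← mul_assoc, R.q41_24]; simp only [mul_assoc]

theorem tq44_24 (t u : K) (w : Γ) : R.X24 u * (R.X44 t * w) = R.X44 t * (R.X24 u * w) := by
  rw [← mul_assoc, R.k44_24, mul_assoc]

theorem tq47_24 (t u : K) (w : Γ) : R.X24 u * (R.X47 t * w) = R.X47 t * (R.X24 u * w) := by
  rw [← mul_assoc, R.k47_24, mul_assoc]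

theorem tq39_24 (t u : K) (w : Γ) : R.X24 u * (R.X39 t * w) = R.X39 t * (R.X24 u * w) := by
  rw [← mul_assoc, R.k39_24, mul_assoc]

theorem tq45_24 (t u : K) (w : Γ) : R.X24 u * (R.X45 t * w) = R.X45 t * (R.X24 u * w) := by
  rw [← mul_assoc, R.k45_24, mul_assoc]

theorem tq35_24 (t u : K) (w : Γ) : R.X24 u * (R.X35 t * w) = R.X35 t * (R.X24 u * (R.X36 (t * u) * (R.X43 (t ^ 2 * u) * w))) := by
  rw [← mul_assoc, R.q35_24]; simp only [mul_assoc]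

theorem tq31_24 (t u : K) (w : Γ) : R.X24 u * (R.X31 t * w) = R.X31 t * (R.X24 u * w) := by
  rw [← mul_assoc, R.k31_24, mul_assoc]

theorem tq40_24 (t u : K) (w : Γ) : R.X24 u * (R.X40 t * w) = R.X40 t * (R.X24 u * w) := by
  rw [← mul_assoc, R.k40_24, mul_assoc]

theorem tq46_24 (t u : K) (w : Γ) : R.X24 u * (R.X46 t * w) = R.X46 t * (R.X24 u * (R.X47 (t * u) * w)) := by
  rw [← mul_assoc, R.q46_24]; simp only [mul_assoc]

theorem tq37_24 (t u : K) (w : Γ) : R.X24 u * (R.X37 t * w) = R.X37 t * (R.X24 u * (R.X38 (t * u) * (R.X45 (t ^ 2 * u) * w))) := by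
  rw [← mul_assoc, R.q37_24]; simp only [mul_assoc]

theorem tq32_24 (t u : K) (w : Γ) : R.X24 u * (R.X32 t * w) = R.X32 t * (R.X24 u * w) := by
  rw [← mul_assoc, R.k32_24, mul_assoc]

theorem tq27_24 (t u : K) (w : Γ) : R.X24 u * (R.X27 t * w) = R.X27 t * (R.X24 u * w) := by
  rw [← mul_assoc, R.k27_24, mul_assoc]

theorem tq25_24 (t u : K) (w : Γ) : R.X24 u * (R.X25 t * w) = R.X25 t * (R.X24 u * (R.X26 (t * u) * w)) := by
  rw [← mul_assoc, R.q25_24]; simp only [mul_assoc]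

theorem tq28_24 (t u : K) (w : Γ) : R.X24 u * (R.X28 t * w) = R.X28 t * (R.X24 u * (R.X29 (t * u) * (R.X32 (t ^ 2 * u) * w))) := by
  rw [← mul_assoc, R.q28_24]; simp only [mul_assoc]

theorem tq30_24 (t u : K) (w : Γ) : R.X24 u * (R.X30 t * w) = R.X30 t * (R.X24 u * (R.X31 (t * u) * w)) := by
  rw [← mul_assoc, R.q30_24]; simp only [mul_assoc]

theorem tq34_14 (t u : K) (w : Γ) : R.X14 u * (R.X34 t * w) = R.X34 t * (R.X14 u * (R.X27 (t * u) * w)) := by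
  rw [← mul_assoc, R.q34_14]; simp only [mul_assoc]

theorem tq26_14 (t u : K) (w : Γ) : R.X14 u * (R.X26 t * w) = R.X26 t * (R.X14 u * w) := by
  rw [← mul_assoc, R.k26_14, mul_assoc]

theorem tq36_14 (t u : K) (w : Γ) : R.X14 u * (R.X36 t * w) = R.X36 t * (R.X14 u * (R.X29 (t * u) * w)) := by
  rw [← mul_assoc, R.q36_14]; simp only [mul_assoc]

theorem tq42_14 (t u : K) (w : Γ) : R.X14 u * (R.X42 t * w) = R.X42 t * (R.X14 u * (R.X38 (t * u) * (R.X31 (t * u ^ 2) * w))) := by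
  rw [← mul_assoc, R.q42_14]; simp only [mul_assoc]

theorem tq38_14 (t u : K) (w : Γ) : R.X14 u * (R.X38 t * w) = R.X38 t * (R.X14 u * w) := by
  rw [← mul_assoc, R.k38_14, mul_assoc]

theorem tq43_14 (t u : K) (w : Γ) : R.X14 u * (R.X43 t * w) = R.X43 t * (R.X14 u * (R.X39 (t * u) * (R.X32 (t * u ^ 2) * w))) := by
  rw [← mul_assoc, R.q43_14]; simp only [mul_assoc]

theorem tq29_14 (t u : K) (w : Γ) : R.X14 u * (R.X29 t * w) = R.X29 t * (R.X14 u * w) := by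
  rw [← mul_assoc, R.k29_14, mul_assoc]

theorem tq41_14 (t u : K) (w : Γ) : R.X14 u * (R.X41 t * w) = R.X41 t * (R.X14 u * (R.X37 (t * u) * (R.X30 (t * u ^ 2) * w))) := by
  rw [← mul_assoc, R.q41_14]; simp only [mul_assoc]

theorem tq44_14 (t u : K) (w : Γ) : R.X14 u * (R.X44 t * w) = R.X44 t * (R.X14 u * (R.X40 (t * u) * w)) := by
  rw [← mul_assoc, R.q44_14]; simp only [mul_assoc]

theorem tq47_14 (t u : K) (w : Γ) : R.X14 u * (R.X47 t * w) = R.X47 t * (R.X14 u * w) := by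
  rw [← mul_assoc, R.k47_14, mul_assoc]

theorem tq39_14 (t u : K) (w : Γ) : R.X14 u * (R.X39 t * w) = R.X39 t * (R.X14 u * w) := by
  rw [← mul_assoc, R.k39_14, mul_assoc]

theorem tq45_14 (t u : K) (w : Γ) : R.X14 u * (R.X45 t * w) = R.X45 t * (R.X14 u * w) := by
  rw [← mul_assoc, R.k45_14, mul_assoc]

theorem tq35_14 (t u : K) (w : Γ) : R.X14 u * (R.X35 t * w) = R.X35 t * (R.X14 u * (R.X28 (t * u) * w)) := by
  rw [← mul_assoc, R.q35_14]; simp only [mul_assoc]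

theorem tq31_14 (t u : K) (w : Γ) : R.X14 u * (R.X31 t * w) = R.X31 t * (R.X14 u * w) := by
  rw [← mul_assoc, R.k31_14, mul_assoc]

theorem tq40_14 (t u : K) (w : Γ) : R.X14 u * (R.X40 t * w) = R.X40 t * (R.X14 u * w) := by
  rw [← mul_assoc, R.k40_14, mul_assoc]

theorem tq46_14 (t u : K) (w : Γ) : R.X14 u * (R.X46 t * w) = R.X46 t * (R.X14 u * w) := by
  rw [← mul_assoc, R.k46_14, mul_assoc]

theorem tq37_14 (t u : K) (w : Γ) : R.X14 u * (R.X37 t * w) = R.X37 t * (R.X14 u * w) := by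
  rw [← mul_assoc, R.k37_14, mul_assoc]

theorem tq32_14 (t u : K) (w : Γ) : R.X14 u * (R.X32 t * w) = R.X32 t * (R.X14 u * w) := by
  rw [← mul_assoc, R.k32_14, mul_assoc]

theorem tq27_14 (t u : K) (w : Γ) : R.X14 u * (R.X27 t * w) = R.X27 t * (R.X14 u * w) := by
  rw [← mul_assoc, R.k27_14, mul_assoc]

theorem tq25_14 (t u : K) (w : Γ) : R.X14 u * (R.X25 t * w) = R.X25 t * (R.X14 u * w) := by
  rw [← mul_assoc, R.k25_14, mul_assoc]

theorem tq28_14 (t u : K) (w : Γ) : R.X14 u * (R.X28 t * w) = R.X28 t * (R.X14 u * w) := by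
  rw [← mul_assoc, R.k28_14, mul_assoc]

theorem tq30_14 (t u : K) (w : Γ) : R.X14 u * (R.X30 t * w) = R.X30 t * (R.X14 u * w) := by
  rw [← mul_assoc, R.k30_14, mul_assoc]

theorem tq34_23 (t u : K) (w : Γ) : R.X23 u * (R.X34 t * w) = R.X34 t * (R.X23 u * w) := by
  rw [← mul_assoc, R.k34_23, mul_assoc]

theorem tq26_23 (t u : K) (w : Γ) : R.X23 u * (R.X26 t * w) = R.X26 t * (R.X23 u * (R.X25 (t * u) * w)) := by
  rw [← mul_assoc, R.q26_23]; simp only [mul_assoc]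

theorem tq36_23 (t u : K) (w : Γ) : R.X23 u * (R.X36 t * w) = R.X36 t * (R.X23 u * (R.X35 (t * u) * (R.X43 (t ^ 2 * u) * w))) := by
  rw [← mul_assoc, R.q36_23]; simp only [mul_assoc]

theorem tq42_23 (t u : K) (w : Γ) : R.X23 u * (R.X42 t * w) = R.X42 t * (R.X23 u * (R.X41 (t * u) * w)) := by
  rw [← mul_assoc, R.q42_23]; simp only [mul_assoc]

theorem tq38_23 (t u : K) (w : Γ) : R.X23 u * (R.X38 t * w) = R.X38 t * (R.X23 u * (R.X37 (t * u) * (R.X45 (t ^ 2 * u) * w))) := by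
  rw [← mul_assoc, R.q38_23]; simp only [mul_assoc]

theorem tq43_23 (t u : K) (w : Γ) : R.X23 u * (R.X43 t * w) = R.X43 t * (R.X23 u * w) := by
  rw [← mul_assoc, R.k43_23, mul_assoc]

theorem tq29_23 (t u : K) (w : Γ) : R.X23 u * (R.X29 t * w) = R.X29 t * (R.X23 u * (R.X28 (t * u) * (R.X32 (t ^ 2 * u) * w))) := by
  rw [← mul_assoc, R.q29_23]; simp only [mul_assoc]

theorem tq41_23 (t u : K) (w : Γ) : R.X23 u * (R.X41 t * w) = R.X41 t * (R.X23 u * w) := by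
  rw [← mul_assoc, R.k41_23, mul_assoc]

theorem tq44_23 (t u : K) (w : Γ) : R.X23 u * (R.X44 t * w) = R.X44 t * (R.X23 u * w) := by
  rw [← mul_assoc, R.k44_23, mul_assoc]

theorem tq47_23 (t u : K) (w : Γ) : R.X23 u * (R.X47 t * w) = R.X47 t * (R.X23 u * (R.X46 (t * u) * w)) := by
  rw [← mul_assoc, R.q47_23]; simp only [mul_assoc]

theorem tq39_23 (t u : K) (w : Γ) : R.X23 u * (R.X39 t * w) = R.X39 t * (R.X23 u * w) := by
  rw [← mul_assoc, R.k39_23, mul_assoc]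

theorem tq45_23 (t u : K) (w : Γ) : R.X23 u * (R.X45 t * w) = R.X45 t * (R.X23 u * w) := by
  rw [← mul_assoc, R.k45_23, mul_assoc]

theorem tq35_23 (t u : K) (w : Γ) : R.X23 u * (R.X35 t * w) = R.X35 t * (R.X23 u * w) := by
  rw [← mul_assoc, R.k35_23, mul_assoc]

theorem tq31_23 (t u : K) (w : Γ) : R.X23 u * (R.X31 t * w) = R.X31 t * (R.X23 u * (R.X30 (t * u) * w)) := by
  rw [← mul_assoc, R.q31_23]; simp only [mul_assoc]

theorem tq40_23 (t u : K) (w : Γ) : R.X23 u * (R.X40 t * w) = R.X40 t * (R.X23 u * w) := by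
  rw [← mul_assoc, R.k40_23, mul_assoc]

theorem tq46_23 (t u : K) (w : Γ) : R.X23 u * (R.X46 t * w) = R.X46 t * (R.X23 u * w) := by
  rw [← mul_assoc, R.k46_23, mul_assoc]

theorem tq37_23 (t u : K) (w : Γ) : R.X23 u * (R.X37 t * w) = R.X37 t * (R.X23 u * w) := by
  rw [← mul_assoc, R.k37_23, mul_assoc]

theorem tq32_23 (t u : K) (w : Γ) : R.X23 u * (R.X32 t * w) = R.X32 t * (R.X23 u * w) := by
  rw [← mul_assoc, R.k32_23, mul_assoc]

theorem tq27_23 (t u : K) (w : Γ) : R.X23 u * (R.X27 t * w) = R.X27 t * (R.X23 u * w) := by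
  rw [← mul_assoc, R.k27_23, mul_assoc]

theorem tq25_23 (t u : K) (w : Γ) : R.X23 u * (R.X25 t * w) = R.X25 t * (R.X23 u * w) := by
  rw [← mul_assoc, R.k25_23, mul_assoc]

theorem tq28_23 (t u : K) (w : Γ) : R.X23 u * (R.X28 t * w) = R.X28 t * (R.X23 u * w) := by
  rw [← mul_assoc, R.k28_23, mul_assoc]

theorem tq30_23 (t u : K) (w : Γ) : R.X23 u * (R.X30 t * w) = R.X30 t * (R.X23 u * w) := by
  rw [← mul_assoc, R.k30_23, mul_assoc]

theorem tq33_20 (t u : K) (w : Γ) : R.X20 u * (R.X33 t * w) = R.X33 t * (R.X20 u * w) := by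
  rw [← mul_assoc, R.k33_20, mul_assoc]

theorem tq24_20 (t u : K) (w : Γ) : R.X20 u * (R.X24 t * w) = R.X24 t * (R.X20 u * w) := by
  rw [← mul_assoc, R.k24_20, mul_assoc]

theorem tq34_20 (t u : K) (w : Γ) : R.X20 u * (R.X34 t * w) = R.X34 t * (R.X20 u * (R.X33 (t * u) * w)) := by
  rw [← mul_assoc, R.q34_20]; simp only [mul_assoc]

theorem tq26_20 (t u : K) (w : Γ) : R.X20 u * (R.X26 t * w) = R.X26 t * (R.X20 u * w) := by
  rw [← mul_assoc, R.k26_20, mul_assoc]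

theorem tq36_20 (t u : K) (w : Γ) : R.X20 u * (R.X36 t * w) = R.X36 t * (R.X20 u * w) := by
  rw [← mul_assoc, R.k36_20, mul_assoc]

theorem tq42_20 (t u : K) (w : Γ) : R.X20 u * (R.X42 t * w) = R.X42 t * (R.X20 u * w) := by
  rw [← mul_assoc, R.k42_20, mul_assoc]

theorem tq38_20 (t u : K) (w : Γ) : R.X20 u * (R.X38 t * w) = R.X38 t * (R.X20 u * (R.X36 (t * u) * w)) := by
  rw [← mul_assoc, R.q38_20]; simp only [mul_assoc]

theorem tq43_20 (t u : K) (w : Γ) : R.X20 u * (R.X43 t * w) = R.X43 t * (R.X20 u * w) := by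
  rw [← mul_assoc, R.k43_20, mul_assoc]

theorem tq29_20 (t u : K) (w : Γ) : R.X20 u * (R.X29 t * w) = R.X29 t * (R.X20 u * w) := by
  rw [← mul_assoc, R.k29_20, mul_assoc]

theorem tq41_20 (t u : K) (w : Γ) : R.X20 u * (R.X41 t * w) = R.X41 t * (R.X20 u * w) := by
  rw [← mul_assoc, R.k41_20, mul_assoc]

theorem tq44_20 (t u : K) (w : Γ) : R.X20 u * (R.X44 t * w) = R.X44 t * (R.X20 u * w) := by
  rw [← mul_assoc, R.k44_20, mul_assoc]

theorem tq47_20 (t u : K) (w : Γ) : R.X20 u * (R.X47 t * w) = R.X47 t * (R.X20 u * w) := by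
  rw [← mul_assoc, R.k47_20, mul_assoc]

theorem tq39_20 (t u : K) (w : Γ) : R.X20 u * (R.X39 t * w) = R.X39 t * (R.X20 u * w) := by
  rw [← mul_assoc, R.k39_20, mul_assoc]

theorem tq45_20 (t u : K) (w : Γ) : R.X20 u * (R.X45 t * w) = R.X45 t * (R.X20 u * (R.X44 (t * u) * (R.X43 (t * u ^ 2) * w))) := by
  rw [← mul_assoc, R.q45_20]; simp only [mul_assoc]

theorem tq35_20 (t u : K) (w : Γ) : R.X20 u * (R.X35 t * w) = R.X35 t * (R.X20 u * w) := by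
  rw [← mul_assoc, R.k35_20, mul_assoc]

theorem tq31_20 (t u : K) (w : Γ) : R.X20 u * (R.X31 t * w) = R.X31 t * (R.X20 u * (R.X29 (t * u) * (R.X26 (t * u ^ 2) * w))) := by
  rw [← mul_assoc, R.q31_20]; simp only [mul_assoc]

theorem tq40_20 (t u : K) (w : Γ) : R.X20 u * (R.X40 t * w) = R.X40 t * (R.X20 u * (R.X39 (t * u) * w)) := by
  rw [← mul_assoc, R.q40_20]; simp only [mul_assoc]

theorem tq46_20 (t u : K) (w : Γ) : R.X20 u * (R.X46 t * w) = R.X46 t * (R.X20 u * w) := by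
  rw [← mul_assoc, R.k46_20, mul_assoc]

theorem tq37_20 (t u : K) (w : Γ) : R.X20 u * (R.X37 t * w) = R.X37 t * (R.X20 u * (R.X35 (t * u) * w)) := by
  rw [← mul_assoc, R.q37_20]; simp only [mul_assoc]

theorem tq32_20 (t u : K) (w : Γ) : R.X20 u * (R.X32 t * w) = R.X32 t * (R.X20 u * w) := by
  rw [← mul_assoc, R.k32_20, mul_assoc]

theorem tq33_22 (t u : K) (w : Γ) : R.X22 u * (R.X33 t * w) = R.X33 t * (R.X22 u * w) := by
  rw [← mul_assoc, R.k33_22, mul_assoc]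

theorem tq24_22 (t u : K) (w : Γ) : R.X22 u * (R.X24 t * w) = R.X24 t * (R.X22 u * w) := by
  rw [← mul_assoc, R.k24_22, mul_assoc]

theorem tq34_22 (t u : K) (w : Γ) : R.X22 u * (R.X34 t * w) = R.X34 t * (R.X22 u * w) := by
  rw [← mul_assoc, R.k34_22, mul_assoc]

theorem tq26_22 (t u : K) (w : Γ) : R.X22 u * (R.X26 t * w) = R.X26 t * (R.X22 u * (R.X24 (t * u) * w)) := by
  rw [← mul_assoc, R.q26_22]; simp only [mul_assoc]

theorem tq36_22 (t u : K) (w : Γ) : R.X22 u * (R.X36 t * w) = R.X36 t * (R.X22 u * w) := by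
  rw [← mul_assoc, R.k36_22, mul_assoc]

theorem tq42_22 (t u : K) (w : Γ) : R.X22 u * (R.X42 t * w) = R.X42 t * (R.X22 u * w) := by
  rw [← mul_assoc, R.k42_22, mul_assoc]

theorem tq38_22 (t u : K) (w : Γ) : R.X22 u * (R.X38 t * w) = R.X38 t * (R.X22 u * w) := by
  rw [← mul_assoc, R.k38_22, mul_assoc]

theorem tq43_22 (t u : K) (w : Γ) : R.X22 u * (R.X43 t * w) = R.X43 t * (R.X22 u * (R.X42 (t * u) * w)) := by
  rw [← mul_assoc, R.q43_22]; simp only [mul_assoc]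

theorem tq29_22 (t u : K) (w : Γ) : R.X22 u * (R.X29 t * w) = R.X29 t * (R.X22 u * w) := by
  rw [← mul_assoc, R.k29_22, mul_assoc]

theorem tq41_22 (t u : K) (w : Γ) : R.X22 u * (R.X41 t * w) = R.X41 t * (R.X22 u * w) := by
  rw [← mul_assoc, R.k41_22, mul_assoc]

theorem tq44_22 (t u : K) (w : Γ) : R.X22 u * (R.X44 t * w) = R.X44 t * (R.X22 u * w) := by
  rw [← mul_assoc, R.k44_22, mul_assoc]

theorem tq47_22 (t u : K) (w : Γ) : R.X22 u * (R.X47 t * w) = R.X47 t * (R.X22 u * w) := by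
  rw [← mul_assoc, R.k47_22, mul_assoc]

theorem tq39_22 (t u : K) (w : Γ) : R.X22 u * (R.X39 t * w) = R.X39 t * (R.X22 u * (R.X38 (t * u) * (R.X47 (t ^ 2 * u) * w))) := by
  rw [← mul_assoc, R.q39_22]; simp only [mul_assoc]

theorem tq45_22 (t u : K) (w : Γ) : R.X22 u * (R.X45 t * w) = R.X45 t * (R.X22 u * w) := by
  rw [← mul_assoc, R.k45_22, mul_assoc]

theorem tq35_22 (t u : K) (w : Γ) : R.X22 u * (R.X35 t * w) = R.X35 t * (R.X22 u * (R.X34 (t * u) * (R.X41 (t ^ 2 * u) * w))) := by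
  rw [← mul_assoc, R.q35_22]; simp only [mul_assoc]

theorem tq31_22 (t u : K) (w : Γ) : R.X22 u * (R.X31 t * w) = R.X31 t * (R.X22 u * w) := by
  rw [← mul_assoc, R.k31_22, mul_assoc]

theorem tq40_22 (t u : K) (w : Γ) : R.X22 u * (R.X40 t * w) = R.X40 t * (R.X22 u * w) := by
  rw [← mul_assoc, R.k40_22, mul_assoc]

theorem tq46_22 (t u : K) (w : Γ) : R.X22 u * (R.X46 t * w) = R.X46 t * (R.X22 u * (R.X45 (t * u) * w)) := by
  rw [← mul_assoc, R.q46_22]; simp only [mul_assoc]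

theorem tq37_22 (t u : K) (w : Γ) : R.X22 u * (R.X37 t * w) = R.X37 t * (R.X22 u * w) := by
  rw [← mul_assoc, R.k37_22, mul_assoc]

theorem tq32_22 (t u : K) (w : Γ) : R.X22 u * (R.X32 t * w) = R.X32 t * (R.X22 u * (R.X31 (t * u) * w)) := by
  rw [← mul_assoc, R.q32_22]; simp only [mul_assoc]

theorem tq33_19 (t u : K) (w : Γ) : R.X19 u * (R.X33 t * w) = R.X33 t * (R.X19 u * w) := by
  rw [← mul_assoc, R.k33_19, mul_assoc]

theorem tq24_19 (t u : K) (w : Γ) : R.X19 u * (R.X24 t * w) = R.X24 t * (R.X19 u * w) := by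
  rw [← mul_assoc, R.k24_19, mul_assoc]

theorem tq34_19 (t u : K) (w : Γ) : R.X19 u * (R.X34 t * w) = R.X34 t * (R.X19 u * w) := by
  rw [← mul_assoc, R.k34_19, mul_assoc]

theorem tq26_19 (t u : K) (w : Γ) : R.X19 u * (R.X26 t * w) = R.X26 t * (R.X19 u * w) := by
  rw [← mul_assoc, R.k26_19, mul_assoc]

theorem tq36_19 (t u : K) (w : Γ) : R.X19 u * (R.X36 t * w) = R.X36 t * (R.X19 u * w) := by
  rw [← mul_assoc, R.k36_19, mul_assoc]

theorem tq42_19 (t u : K) (w : Γ) : R.X19 u * (R.X42 t * w) = R.X42 t * (R.X19 u * w) := by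
  rw [← mul_assoc, R.k42_19, mul_assoc]

theorem tq38_19 (t u : K) (w : Γ) : R.X19 u * (R.X38 t * w) = R.X38 t * (R.X19 u * w) := by
  rw [← mul_assoc, R.k38_19, mul_assoc]

theorem tq43_19 (t u : K) (w : Γ) : R.X19 u * (R.X43 t * w) = R.X43 t * (R.X19 u * w) := by
  rw [← mul_assoc, R.k43_19, mul_assoc]

theorem tq29_19 (t u : K) (w : Γ) : R.X19 u * (R.X29 t * w) = R.X29 t * (R.X19 u * w) := by
  rw [← mul_assoc, R.k29_19, mul_assoc]

theorem tq41_19 (t u : K) (w : Γ) : R.X19 u * (R.X41 t * w) = R.X41 t * (R.X19 u * w) := by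
  rw [← mul_assoc, R.k41_19, mul_assoc]

theorem tq44_19 (t u : K) (w : Γ) : R.X19 u * (R.X44 t * w) = R.X44 t * (R.X19 u * w) := by
  rw [← mul_assoc, R.k44_19, mul_assoc]

theorem tq47_19 (t u : K) (w : Γ) : R.X19 u * (R.X47 t * w) = R.X47 t * (R.X19 u * w) := by
  rw [← mul_assoc, R.k47_19, mul_assoc]

theorem tq39_19 (t u : K) (w : Γ) : R.X19 u * (R.X39 t * w) = R.X39 t * (R.X19 u * (R.X36 (t * u) * w)) := by
  rw [← mul_assoc, R.q39_19]; simp only [mul_assoc]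

theorem tq45_19 (t u : K) (w : Γ) : R.X19 u * (R.X45 t * w) = R.X45 t * (R.X19 u * w) := by
  rw [← mul_assoc, R.k45_19, mul_assoc]

theorem tq35_19 (t u : K) (w : Γ) : R.X19 u * (R.X35 t * w) = R.X35 t * (R.X19 u * (R.X33 (t * u) * w)) := by
  rw [← mul_assoc, R.q35_19]; simp only [mul_assoc]

theorem tq31_19 (t u : K) (w : Γ) : R.X19 u * (R.X31 t * w) = R.X31 t * (R.X19 u * w) := by
  rw [← mul_assoc, R.k31_19, mul_assoc]

theorem tq40_19 (t u : K) (w : Γ) : R.X19 u * (R.X40 t * w) = R.X40 t * (R.X19 u * (R.X38 (t * u) * w)) := by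
  rw [← mul_assoc, R.q40_19]; simp only [mul_assoc]

theorem tq46_19 (t u : K) (w : Γ) : R.X19 u * (R.X46 t * w) = R.X46 t * (R.X19 u * (R.X44 (t * u) * (R.X42 (t * u ^ 2) * w))) := by
  rw [← mul_assoc, R.q46_19]; simp only [mul_assoc]

theorem tq37_19 (t u : K) (w : Γ) : R.X19 u * (R.X37 t * w) = R.X37 t * (R.X19 u * (R.X34 (t * u) * w)) := by
  rw [← mul_assoc, R.q37_19]; simp only [mul_assoc]

theorem tq32_19 (t u : K) (w : Γ) : R.X19 u * (R.X32 t * w) = R.X32 t * (R.X19 u * (R.X29 (t * u) * (R.X24 (t * u ^ 2) * w))) := by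
  rw [← mul_assoc, R.q32_19]; simp only [mul_assoc]

/-- ordered product of root elements followed by `f` -/
def RNF7s (f : Γ) (x34 x26 x36 x42 x38 x43 x29 x41 x44 x47 x39 x45 x35 x31 x40 x46 x37 x32 x27 x25 x28 x30 : K) : Γ :=
  R.X34 x34 * (R.X26 x26 * (R.X36 x36 * (R.X42 x42 * (R.X38 x38 * (R.X43 x43 * (R.X29 x29 * (R.X41 x41 * (R.X44 x44 * (R.X47 x47 * (R.X39 x39 * (R.X45 x45 * (R.X35 x35 * (R.X31 x31 * (R.X40 x40 * (R.X46 x46 * (R.X37 x37 * (R.X32 x32 * (R.X27 x27 * (R.X25 x25 * (R.X28 x28 * (R.X30 x30 * f)))))))))))))))))))))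

theorem RNF7s_eq (f : Γ) (x34 x26 x36 x42 x38 x43 x29 x41 x44 x47 x39 x45 x35 x31 x40 x46 x37 x32 x27 x25 x28 x30 : K) : R.RNF7s f x34 x26 x36 x42 x38 x43 x29 x41 x44 x47 x39 x45 x35 x31 x40 x46 x37 x32 x27 x25 x28 x30 = R.toRelF4.RNF7 x34 x26 x36 x42 x38 x43 x29 x41 x44 x47 x39 x45 x35 x31 x40 x46 x37 x32 x27 x25 x28 x30 * f := by
  unfold RNF7s RelF4.RNF7; simp only [mul_assoc]

/-- ordered product of root elements followed by `f` -/
def RNF1s (f : Γ) (x33 x24 x34 x26 x36 x42 x38 x43 x29 x41 x44 x47 x39 x45 x35 x31 x40 x46 x37 x32 : K) : Γ :=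
  R.X33 x33 * (R.X24 x24 * (R.X34 x34 * (R.X26 x26 * (R.X36 x36 * (R.X42 x42 * (R.X38 x38 * (R.X43 x43 * (R.X29 x29 * (R.X41 x41 * (R.X44 x44 * (R.X47 x47 * (R.X39 x39 * (R.X45 x45 * (R.X35 x35 * (R.X31 x31 * (R.X40 x40 * (R.X46 x46 * (R.X37 x37 * (R.X32 x32 * f)))))))))))))))))))

theorem RNF1s_eq (f : Γ) (x33 x24 x34 x26 x36 x42 x38 x43 x29 x41 x44 x47 x39 x45 x35 x31 x40 x46 x37 x32 : K) : R.RNF1s f x33 x24 x34 x26 x36 x42 x38 x43 x29 x41 x44 x47 x39 x45 x35 x31 x40 x46 x37 x32 = R.toRelF4.RNF1 x33 x24 x34 x26 x36 x42 x38 x43 x29 x41 x44 x47 x39 x45 x35 x31 x40 x46 x37 x32 * f := by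
  unfold RNF1s RelF4.RNF1; simp only [mul_assoc]

/-- `g y = y' g` -/
def Push (g y y' : Γ) : Prop := g * y = y' * g

theorem Push.comp {g k y y' y'' : Γ} (h1 : Push g y y') (h2 : Push k y' y'') : Push (k * g) y y'' := by
  unfold Push at *
  rw [mul_assoc, h1, ← mul_assoc, h2, mul_assoc]

theorem Push.conj {g y y' : Γ} (h : Push g y y') : g * y * g⁻¹ = y' := by
  unfold Push at h
  rw [h, mul_assoc, mul_inv_cancel, mul_one]

/-- the Weyl element of the class `{33, 24}` -/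
def n1 : Γ := R.X33 1 * (R.X24 1 * (R.X14 1 * (R.X23 1 * (R.X33 1 * R.X24 1))))

/-- the Weyl element of the class `{27, 25, 28, 30}` -/
def n8 : Γ := R.X28 1 * (R.X25 1 * (R.X27 1 * (R.X20 1 * (R.X22 1 * (R.X19 1 * (R.X28 1 * R.X30 1))))))

end RelF4N

end Cfsg.Agent.Helper4.F4Inv
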