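import Cfsg.Agent.Helper4.F4Inv.Conc3
import Cfsg.Agent.S2179
import Cfsg.Agent.Helper18.TwF4.L1
import Cfsg.Agent.Helper18.Levi
import Cfsg.Agent.Helper36.LeviBruhat
import Cfsg.Agent.Helper6.BN4

/-!
# Centralisers of the two involutions of `²F₄(q)` lie in the two maximal parabolic subgroups

From the centralisers in `F₄(q)` (`Cfsg.Agent.S2179.result`): these lie in the parabolic subgroups
`P_{p₂,p₃}` and `P_{p₁,p₄}` of `F₄(q)`, which normalise their unipotent radicals; the normaliser in
`²F₄(q)` of the intersection with the radical contains `B¹`, hence is a parabolic subgroup of the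
`(B, N)`-pair of `²F₄(q)`, and it does not contain the fundamental reflection whose root subgroup lies
in the radical.
-/

set_option autoImplicit false
set_option maxRecDepth 100000
set_option linter.unusedSimpArgs false
set_option linter.unusedVariables false
set_option linter.unusedSectionVars false

namespace Cfsg.Agent.Helper4.F4Inv

open Cfsg Cfsg.Lie Cfsg.Agent.Helper18 Cfsg.Agent.Helper18.TwF4 Cfsg.Agent.Helper18.Aut
  Cfsg.Agent.Helper19.Twist Cfsg.Agent.Helper6
  Cfsg.Agent.Helper36.F4Class Cfsg.Agent.Helper36.SigmaF4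

section

variable {K : Type*} [Field K] [CharP K 2] [Fintype K] {m : ℕ}

local notation "Gt" => twistedF4 K (2 ^ m)

/-- an element of `²F₄(q)` lying in the parabolic subgroup `P_J` of `F₄(q)` whose radical contains the
root subgroup of the fundamental reflection `s a` lies in the parabolic subgroup of the other reflection -/
theorem mem_parabolic_of_mem_para (J : Set ℕ) (P : BNPair ↥Gt) (s : Fin 2 → ↥Gt)
    (hmemB : ∀ b : ↥Gt, b ∈ P.B ↔ (b : GL chevF4.Idx K) ∈ chevF4.borelSubgroup K)
    (hS : P.S = Set.range s)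
    (hR : ∀ a : Fin 2, RankOne P.B (V1 K m) (U1 K m) (Xp K m a) (Xm K m a) (s a))
    (a a' : Fin 2) (haa : ∀ i : Fin 2, i = a ∨ i = a')
    (hXJ : listSubgroup chevF4 K (XF4 a.val) ≤ chevF4.unipotentRadical K J)
    (c : ↥Gt) (hc : (c : GL chevF4.Idx K) ∈ chevF4.parabolicSubgroup K J) :
    c ∈ P.parabolic {s a'} := by
  have h25 : CommHyp chevF4 K :=
    fun r s hr hs h1 h2 t u => Cfsg.Agent.S1025.result chevF4 hF4 r s hr hs h1 h2 t u
  have hnorm := (levi_decomp (F := K) chevF4 hF4 h25 J).1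
  set Q : Subgroup ↥Gt := (chevF4.unipotentRadical K J).subgroupOf Gt with hQ
  have hmemN : ∀ g : ↥Gt, (g : GL chevF4.Idx K) ∈ chevF4.parabolicSubgroup K J →
      g ∈ Subgroup.normalizer (Q : Set ↥Gt) := by
    intro g hg
    have h1 := hnorm hg
    rw [Subgroup.mem_normalizer_iff] at h1 ⊢
    intro h
    rw [hQ, Subgroup.mem_subgroupOf, Subgroup.mem_subgroupOf]
    exact h1 (h : GL chevF4.Idx K)
  have hBM : P.B ≤ Subgroup.normalizer (Q : Set ↥Gt) := by
    intro b hb
    apply hmemN
    exact le_sup_left (α := Subgroup (GL chevF4.Idx K)) ((hmemB b).mp hb)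
  have hMp := overgroup_eq_parabolic (P := P) _ hBM
  have hcM : c ∈ Subgroup.normalizer (Q : Set ↥Gt) := hmemN c hc
  rw [hMp] at hcM
  have hsub : {t | t ∈ P.S ∧ t ∈ Subgroup.normalizer (Q : Set ↥Gt)} ⊆ ({s a'} : Set ↥Gt) := by
    rintro t ⟨htS, htM⟩
    rw [hS] at htS
    obtain ⟨i, rfl⟩ := htS
    rcases haa i with rfl | rfl
    · exfalso
      have R := hR i
      obtain ⟨x, hx, hx1⟩ := R.exists_ne
      have hxQ : x ∈ Q := by
        rw [hQ, Subgroup.mem_subgroupOf]
        exact hXJ (Subgroup.mem_subgroupOf.mp hx)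
      have h1 : s i * x * (s i)⁻¹ ∈ Q := ((Subgroup.mem_normalizer_iff.mp htM) x).mp hxQ
      have h2 : s i * x * (s i)⁻¹ ∈ U1 K m := by
        rw [hQ, Subgroup.mem_subgroupOf] at h1
        exact Subgroup.mem_subgroupOf.mpr
          (Cfsg.Agent.Helper36.LeviBruhat.radical_le_pos chevF4 J h1)
      have h3 : s i * x * (s i)⁻¹ ∈ P.B ⊓ V1 K m :=
        Subgroup.mem_inf.mpr ⟨R.hUB h2, R.hXmV (R.h1 x hx)⟩
      rw [R.hBV, Subgroup.mem_bot] at h3
      apply hx1
      have : x = (s i)⁻¹ * (s i * x * (s i)⁻¹) * s i := by group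
      rw [this, h3]; group
    · rfl
  have hmono : P.parabolic {t | t ∈ P.S ∧ t ∈ Subgroup.normalizer (Q : Set ↥Gt)} ≤ P.parabolic {s a'} := by
    unfold BNPair.parabolic
    exact sup_le_sup_left (Subgroup.closure_mono hsub) _
  exact hmono hcM

end

end Cfsg.Agent.Helper4.F4Inv
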