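import Cfsg.Agent.Helper4.F4Inv.CentPara

/-!
# `C(z) ≤ P₈` and `C(v) ≤ P₁` in `²F₄(q)`
-/

set_option autoImplicit false
set_option maxRecDepth 100000
set_option linter.unusedSimpArgs false
set_option linter.unusedVariables false
set_option linter.unusedSectionVars false

namespace Cfsg.Agent.Helper4.F4Inv

open Cfsg Cfsg.Lie Cfsg.Agent.Helper18 Cfsg.Agent.Helper18.TwF4 Cfsg.Agent.Helper18.Aut
  Cfsg.Agent.Helper19.Twist Cfsg.Agent.Helper6
  Cfsg.Agent.Helper36.F4Class Cfsg.Agent.Helper36.SigmaF4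

section

variable {K : Type*} [Field K] [CharP K 2] [Fintype K] {m : ℕ}

local notation "Gt" => twistedF4 K (2 ^ m)
local notation "R0" => (f4Rel (K := K))
local notation "θ" => (phi (K := K) m)

omit [CharP K 2] [Fintype K] in
theorem rootSubgroup_le_levi (J : Set ℕ) (r : ℕ) (hr : chevF4.InRootSub J r) :
    chevF4.rootSubgroup K r ≤ chevF4.leviSubgroup K J := by
  unfold ChevalleyDatum.rootSubgroup ChevalleyDatum.leviSubgroup
  refine le_trans ?_ le_sup_right
  apply Subgroup.closure_mono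
  rintro g ⟨t, hg⟩
  exact ⟨r, t, hr, hg⟩

omit [CharP K 2] [Fintype K] in
theorem rootSubgroup_le_pos (r : ℕ) (hr : chevF4.IsPosRoot r) :
    chevF4.rootSubgroup K r ≤ chevF4.posUnipotent K := by
  unfold ChevalleyDatum.rootSubgroup ChevalleyDatum.posUnipotent
  apply Subgroup.closure_mono
  rintro g ⟨t, hg⟩
  exact ⟨r, t, hr, hg⟩

omit [CharP K 2] [Fintype K] in
theorem pos_le_para (J : Set ℕ) : chevF4.posUnipotent K ≤ chevF4.parabolicSubgroup K J := by
  unfold ChevalleyDatum.parabolicSubgroup ChevalleyDatum.borelSubgroup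
  exact le_trans le_sup_left le_sup_left

theorem in12_20 : chevF4.InRootSub ({1, 2} : Set ℕ) 20 := by
  refine ⟨by decide, ?_⟩
  intro i hi hiJ
  have h4 : i < 4 := hi
  interval_cases i
  · decide
  · exact absurd (by simp) hiJ
  · exact absurd (by simp) hiJ
  · decide

theorem in12_22 : chevF4.InRootSub ({1, 2} : Set ℕ) 22 := by
  refine ⟨by decide, ?_⟩
  intro i hi hiJ
  have h4 : i < 4 := hi
  interval_cases i
  · decide
  · exact absurd (by simp) hiJ
  · exact absurd (by simp) hiJ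
  · decide

theorem in03_14 : chevF4.InRootSub ({0, 3} : Set ℕ) 14 := by
  refine ⟨by decide, ?_⟩
  intro i hi hiJ
  have h4 : i < 4 := hi
  interval_cases i
  · exact absurd (by simp) hiJ
  · decide
  · decide
  · exact absurd (by simp) hiJ

theorem in03_23 : chevF4.InRootSub ({0, 3} : Set ℕ) 23 := by
  refine ⟨by decide, ?_⟩
  intro i hi hiJ
  have h4 : i < 4 := hi
  interval_cases i
  · exact absurd (by simp) hiJ
  · decide
  · decide
  · exact absurd (by simp) hiJ

omit [CharP K 2] [Fintype K] in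
/-- the radical of `P_{p₂,p₃}` contains the root subgroups of `p₁`, `p₄` -/
theorem list0_le_rad12 : listSubgroup chevF4 K (XF4 0) ≤ chevF4.unipotentRadical K ({1, 2} : Set ℕ) := by
  unfold listSubgroup ChevalleyDatum.unipotentRadical
  apply Subgroup.closure_mono
  rintro g ⟨r, t, hr, hg⟩
  have hr' : r = 33 ∨ r = 24 := by
    have : r ∈ [33, 24] := hr
    simpa using this
  rcases hr' with rfl | rfl
  · refine ⟨33, t, by decide, ?_, hg⟩
    intro h
    have := h.2 0 (by decide) (by simp)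
    revert this
    decide
  · refine ⟨24, t, by decide, ?_, hg⟩
    intro h
    have := h.2 3 (by decide) (by simp)
    revert this
    decide

omit [CharP K 2] [Fintype K] in
/-- the radical of `P_{p₁,p₄}` contains the root subgroups of `p₂`, `p₃`, `p₂+p₃`, `2p₂+p₃` -/
theorem list1_le_rad03 : listSubgroup chevF4 K (XF4 1) ≤ chevF4.unipotentRadical K ({0, 3} : Set ℕ) := by
  unfold listSubgroup ChevalleyDatum.unipotentRadical
  apply Subgroup.closure_mono
  rintro g ⟨r, t, hr, hg⟩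
  have hr' : r = 27 ∨ r = 25 ∨ r = 28 ∨ r = 30 := by
    have : r ∈ [27, 25, 28, 30] := hr
    simpa using this
  rcases hr' with rfl | rfl | rfl | rfl
  · refine ⟨27, t, by decide, ?_, hg⟩
    intro h
    have := h.2 1 (by decide) (by simp)
    revert this
    decide
  · refine ⟨25, t, by decide, ?_, hg⟩
    intro h
    have := h.2 2 (by decide) (by simp)
    revert this
    decide
  · refine ⟨28, t, by decide, ?_, hg⟩
    intro h
    have := h.2 1 (by decide) (by simp)
    revert this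
    decide
  · refine ⟨30, t, by decide, ?_, hg⟩
    intro h
    have := h.2 1 (by decide) (by simp)
    revert this
    decide

variable (hK : Fintype.card K = 2 ^ (2 * m + 1))

include hK in
/-- `C(z) ≤ P_{s 1}` -/
theorem cent_z_le (P : BNPair ↥Gt) (s : Fin 2 → ↥Gt)
    (hmemB : ∀ b : ↥Gt, b ∈ P.B ↔ (b : GL chevF4.Idx K) ∈ chevF4.borelSubgroup K)
    (hS : P.S = Set.range s)
    (hR : ∀ a : Fin 2, RankOne P.B (V1 K m) (U1 K m) (Xp K m a) (Xm K m a) (s a))
    (c : ↥Gt) (hc : Commute (zG hK) c) : c ∈ P.parabolic {s 1} := by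
  have htri := triOK_of_mem chevF4 hF4
  obtain ⟨σ, cc, hσ, hG1, -⟩ := exists_data_F4 (m := m) hK
  have hzw : (((zG hK : ↥Gt) : GL chevF4.Idx K) : Matrix chevF4.Idx chevF4.Idx K) =
      chevF4.x K 47 1 * chevF4.x K 44 1 := by
    show ((RelF4.SD R0 θ 0 1 : GL chevF4.Idx K) : Matrix chevF4.Idx chevF4.Idx K) = _
    rw [z_eq (m := m)]
    have e : xGL chevF4 K 44 (1 : K) * xGL chevF4 K 47 1 = xGL chevF4 K 47 1 * xGL chevF4 K 44 1 :=
      ((f4Rel (K := K)).c44_47 1 1).symm
    rw [e, Units.val_mul, xGL_val chevF4 _ htri, xGL_val chevF4 _ htri]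
  have hv0 : ((xGL chevF4 K 39 (1 : K) * xGL chevF4 K 45 1 : GL chevF4.Idx K) :
      Matrix chevF4.Idx chevF4.Idx K) = chevF4.x K 39 1 * chevF4.x K 45 1 := by
    rw [Units.val_mul, xGL_val chevF4 _ htri, xGL_val chevF4 _ htri]
  have h79 := (Cfsg.Agent.S2179.result (F := K) ((zG hK : ↥Gt) : GL chevF4.Idx K) _ hzw hv0).1
  have hcmem : (c : GL chevF4.Idx K) ∈ chevF4.group K ⊓ Subgroup.centralizer {((zG hK : ↥Gt) : GL chevF4.Idx K)} := by
    refine Subgroup.mem_inf.mpr ⟨hG1 c.2, ?_⟩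
    rw [Subgroup.mem_centralizer_iff]
    intro x hx
    rw [Set.mem_singleton_iff] at hx
    subst hx
    have := congrArg (fun z : ↥Gt => (z : GL chevF4.Idx K)) hc.eq
    simpa using this
  rw [h79] at hcmem
  have hle : chevF4.posUnipotent K ⊔ chevF4.rootSubgroup K 20 ⊔ chevF4.rootSubgroup K 22 ≤
      chevF4.parabolicSubgroup K ({1, 2} : Set ℕ) := by
    have hL := Cfsg.Agent.Helper36.LeviBruhat.levi_le_parabolic (K := K) chevF4 hF4 ({1, 2} : Set ℕ)
    refine sup_le (sup_le (pos_le_para _) ?_) ?_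
    · exact le_trans (rootSubgroup_le_levi _ 20 in12_20) hL
    · exact le_trans (rootSubgroup_le_levi _ 22 in12_22) hL
  exact mem_parabolic_of_mem_para ({1, 2} : Set ℕ) P s hmemB hS hR 0 1
    (by intro i; fin_cases i <;> simp) list0_le_rad12 c (hle hcmem)

include hK in
/-- `C(v) ≤ P_{s 0}` -/
theorem cent_v_le (P : BNPair ↥Gt) (s : Fin 2 → ↥Gt)
    (hmemB : ∀ b : ↥Gt, b ∈ P.B ↔ (b : GL chevF4.Idx K) ∈ chevF4.borelSubgroup K)
    (hS : P.S = Set.range s)
    (hR : ∀ a : Fin 2, RankOne P.B (V1 K m) (U1 K m) (Xp K m a) (Xm K m a) (s a))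
    (c : ↥Gt) (hc : Commute (vG hK) c) : c ∈ P.parabolic {s 0} := by
  have htri := triOK_of_mem chevF4 hF4
  obtain ⟨σ, cc, hσ, hG1, -⟩ := exists_data_F4 (m := m) hK
  have hvw : (((vG hK : ↥Gt) : GL chevF4.Idx K) : Matrix chevF4.Idx chevF4.Idx K) =
      chevF4.x K 39 1 * chevF4.x K 45 1 := by
    show ((RelF4.PE R0 θ 1 : GL chevF4.Idx K) : Matrix chevF4.Idx chevF4.Idx K) = _
    rw [v_eq (m := m), Units.val_mul, xGL_val chevF4 _ htri, xGL_val chevF4 _ htri]
  have hz0 : ((xGL chevF4 K 47 (1 : K) * xGL chevF4 K 44 1 : GL chevF4.Idx K) :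
      Matrix chevF4.Idx chevF4.Idx K) = chevF4.x K 47 1 * chevF4.x K 44 1 := by
    rw [Units.val_mul, xGL_val chevF4 _ htri, xGL_val chevF4 _ htri]
  have h79 := (Cfsg.Agent.S2179.result (F := K) _ ((vG hK : ↥Gt) : GL chevF4.Idx K) hz0 hvw).2
  have hcmem : (c : GL chevF4.Idx K) ∈ chevF4.group K ⊓ Subgroup.centralizer {((vG hK : ↥Gt) : GL chevF4.Idx K)} := by
    refine Subgroup.mem_inf.mpr ⟨hG1 c.2, ?_⟩
    rw [Subgroup.mem_centralizer_iff]
    intro x hx
    rw [Set.mem_singleton_iff] at hx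
    subst hx
    have := congrArg (fun z : ↥Gt => (z : GL chevF4.Idx K)) hc.eq
    simpa using this
  rw [h79] at hcmem
  have hle : chevF4.rootSubgroup K 33 ⊔ chevF4.rootSubgroup K 14 ⊔ chevF4.rootSubgroup K 24 ⊔
      chevF4.rootSubgroup K 23 ⊔
      Subgroup.closure {g : GL chevF4.Idx K | ∃ (r : ℕ) (c : K), chevF4.IsPosRoot r ∧
        r ∉ [27, 25, 34, 26] ∧ (g : Matrix chevF4.Idx chevF4.Idx K) = chevF4.x K r c} ≤
      chevF4.parabolicSubgroup K ({0, 3} : Set ℕ) := by
    have hL := Cfsg.Agent.Helper36.LeviBruhat.levi_le_parabolic (K := K) chevF4 hF4 ({0, 3} : Set ℕ)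
    refine sup_le (sup_le (sup_le (sup_le ?_ ?_) ?_) ?_) ?_
    · exact le_trans (rootSubgroup_le_pos 33 (by decide)) (pos_le_para _)
    · exact le_trans (rootSubgroup_le_levi _ 14 in03_14) hL
    · exact le_trans (rootSubgroup_le_pos 24 (by decide)) (pos_le_para _)
    · exact le_trans (rootSubgroup_le_levi _ 23 in03_23) hL
    · refine le_trans ?_ (pos_le_para _)
      unfold ChevalleyDatum.posUnipotent
      apply Subgroup.closure_mono
      rintro g ⟨r, t, hr, -, hg⟩
      exact ⟨r, t, hr, hg⟩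
  exact mem_parabolic_of_mem_para ({0, 3} : Set ℕ) P s hmemB hS hR 1 0
    (by intro i; fin_cases i <;> simp) list1_le_rad03 c (hle hcmem)

end

end Cfsg.Agent.Helper4.F4Inv
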