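import Mathlib

/-!
# Two abstract lemmas on a rank one parabolic subgroup

* the index of `B` in a subgroup `H = B ∪ B s ∪ B Y` (`Y` a subgroup meeting `B` trivially);
* an element of prime order `p` of `H` is conjugate into `B` when `p` does not divide the index.
-/

set_option autoImplicit false

namespace Cfsg.Agent.Helper4.F4Inv

/-- index of `B` in a rank one parabolic `H = B ∪ B s ∪ B Y` -/
theorem index_rankOne {G : Type*} [Group G] (B H Y : Subgroup G) [Finite Y] (s : G)
    (hBH : B ≤ H) (hYH : Y ≤ H) (hsH : s ∈ H)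
    (hcov : ∀ g ∈ H, g ∈ B ∨ (∃ b ∈ B, g = b * s) ∨ (∃ b ∈ B, ∃ y ∈ Y, g = b * y))
    (hBY : ∀ y ∈ Y, y ∈ B → y = 1)
    (hs : ∀ y ∈ Y, ∀ b ∈ B, y ≠ b * s) :
    (B.subgroupOf H).index = Nat.card Y + 1 := by
  classical
  let f : Option Y → H ⧸ B.subgroupOf H := fun o =>
    match o with
    | none => QuotientGroup.mk (⟨s⁻¹, H.inv_mem hsH⟩ : H)
    | some y => QuotientGroup.mk (⟨(y : G), hYH y.2⟩ : H)
  have hf : Function.Bijective f := by
    constructor
    · intro o o' h
      cases o with
      | none =>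
        cases o' with
        | none => rfl
        | some y' =>
          exfalso
          have h1 : (⟨s⁻¹, H.inv_mem hsH⟩ : H)⁻¹ * ⟨(y' : G), hYH y'.2⟩ ∈ B.subgroupOf H :=
            QuotientGroup.eq.mp h
          rw [Subgroup.mem_subgroupOf] at h1
          have h2 : s * (y' : G) ∈ B := by simpa using h1
          apply hs ((y' : G)⁻¹) (Y.inv_mem y'.2) ((s * (y' : G))⁻¹) (B.inv_mem h2)
          group
      | some y =>
        cases o' with
        | none =>
          exfalso
          have h1 : (⟨(y : G), hYH y.2⟩ : H)⁻¹ * ⟨s⁻¹, H.inv_mem hsH⟩ ∈ B.subgroupOf H :=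
            QuotientGroup.eq.mp h
          rw [Subgroup.mem_subgroupOf] at h1
          have h2 : (y : G)⁻¹ * s⁻¹ ∈ B := by simpa using h1
          apply hs ((y : G)⁻¹) (Y.inv_mem y.2) ((y : G)⁻¹ * s⁻¹) h2
          group
        | some y' =>
          have h1 : (⟨(y : G), hYH y.2⟩ : H)⁻¹ * ⟨(y' : G), hYH y'.2⟩ ∈ B.subgroupOf H :=
            QuotientGroup.eq.mp h
          rw [Subgroup.mem_subgroupOf] at h1
          have h2 : (y : G)⁻¹ * (y' : G) ∈ B := by simpa using h1
          have h3 := hBY _ (Y.mul_mem (Y.inv_mem y.2) y'.2) h2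
          have h4 : (y : G) = (y' : G) := by
            have := inv_mul_eq_one.mp h3
            exact this
          exact congrArg some (Subtype.ext h4)
    · intro q
      obtain ⟨g, rfl⟩ := QuotientGroup.mk_surjective q
      have hg' : (g : G)⁻¹ ∈ H := H.inv_mem g.2
      rcases hcov _ hg' with hB | ⟨b, hb, e⟩ | ⟨b, hb, y, hy, e⟩
      · refine ⟨some 1, ?_⟩
        show QuotientGroup.mk (⟨((1 : Y) : G), hYH (1 : Y).2⟩ : H) = QuotientGroup.mk g
        rw [QuotientGroup.eq, Subgroup.mem_subgroupOf]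
        have : (g : G) ∈ B := by
          have := B.inv_mem hB
          simpa using this
        simpa using this
      · refine ⟨none, ?_⟩
        show QuotientGroup.mk (⟨s⁻¹, H.inv_mem hsH⟩ : H) = QuotientGroup.mk g
        rw [QuotientGroup.eq, Subgroup.mem_subgroupOf]
        have e' : (g : G) = s⁻¹ * b⁻¹ := by
          have := congrArg (fun z => z⁻¹) e
          simpa using this
        have : s * (g : G) ∈ B := by
          rw [e']
          have : s * (s⁻¹ * b⁻¹) = b⁻¹ := by group
          rw [this]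
          exact B.inv_mem hb
        simpa using this
      · refine ⟨some ⟨y⁻¹, Y.inv_mem hy⟩, ?_⟩
        show QuotientGroup.mk (⟨(y⁻¹ : G), hYH (Y.inv_mem hy)⟩ : H) = QuotientGroup.mk g
        rw [QuotientGroup.eq, Subgroup.mem_subgroupOf]
        have e' : (g : G) = y⁻¹ * b⁻¹ := by
          have := congrArg (fun z => z⁻¹) e
          simpa using this
        have : y * (g : G) ∈ B := by
          rw [e']
          have : y * (y⁻¹ * b⁻¹) = b⁻¹ := by group
          rw [this]
          exact B.inv_mem hb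
        simpa using this
  rw [Subgroup.index, ← Nat.card_congr (Equiv.ofBijective f hf)]
  exact Finite.card_option

/-- an element of prime order `p` of `H` is conjugate (in `H`) into `B` when `p` does not divide the
index of `B` in `H` -/
theorem conj_into_of_not_dvd_index {G : Type*} [Group G] (B H : Subgroup G) (p : ℕ) [Fact p.Prime]
    (c : G) (hc : c ∈ H) (hp : orderOf c = p) (hidx : ¬ p ∣ (B.subgroupOf H).index) :
    ∃ h ∈ H, h⁻¹ * c * h ∈ B := by
  set c' : H := ⟨c, hc⟩ with hc'
  have hord : orderOf c' = p := by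
    rw [← hp, hc']
    exact Subgroup.orderOf_mk c hc
  have hPG : IsPGroup p (Subgroup.zpowers c') := by
    apply IsPGroup.of_card (n := 1)
    rw [Nat.card_zpowers, hord, pow_one]
  obtain ⟨q, hq⟩ := hPG.nonempty_fixed_point_of_prime_not_dvd_card (H ⧸ B.subgroupOf H) hidx
  obtain ⟨h, rfl⟩ := QuotientGroup.mk_surjective q
  have h1 := hq ⟨c', Subgroup.mem_zpowers c'⟩
  have h2 : (QuotientGroup.mk (c' * h) : H ⧸ B.subgroupOf H) = QuotientGroup.mk h := h1
  rw [QuotientGroup.eq, Subgroup.mem_subgroupOf] at h2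
  refine ⟨(h : G), h.2, ?_⟩
  have h3 : ((c' * h)⁻¹ * h : H) = ((h : G)⁻¹ * c * h)⁻¹ := by
    simp [hc', mul_assoc]
  have h4 := B.inv_mem h2
  rw [h3, inv_inv] at h4
  exact h4

end Cfsg.Agent.Helper4.F4Inv
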