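import Cfsg.Agent.Helper4.F4Inv.Conc3
import Cfsg.Agent.Helper31.F4Inv.SUR
import Cfsg.Agent.Helper31.F4Inv.NC
import Cfsg.Agent.Helper53.F4InvTOR

/-!
# `²F₄(q)`, `q = 2 ^ (2 m + 1)`, has exactly two conjugacy classes of involutions
-/

set_option autoImplicit false

namespace Cfsg.Agent.Helper4.F4Inv

open Cfsg Cfsg.Lie

/-- **`²F₄(2^(2m+1))` has exactly two classes of involutions.** -/
theorem part1 {K : Type*} [Field K] [Fintype K] (m : ℕ) (hK : Fintype.card K = 2 ^ (2 * m + 1)) :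
    (ConjClasses.mk '' {g : ↥(twistedF4 K (2 ^ m)) | orderOf g = 2}).ncard = 2 := by
  haveI := Cfsg.Agent.Helper36.SigmaF4.charP_two hK
  have hsur := Cfsg.Agent.Helper31.F4Inv.pieceSUR K m
  exact two_classes hK hsur (Cfsg.Agent.Helper53.F4Inv.pieceTOR hsur) (Cfsg.Agent.Helper31.F4Inv.pieceNC K)

end Cfsg.Agent.Helper4.F4Inv
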