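import Cfsg.Agent.Helper4.F4Inv.CentPara2
import Cfsg.Agent.Helper4.F4Inv.ParaFix
import Cfsg.Agent.Helper4.F4Inv.Part1
import Cfsg.Agent.Helper18.TwF4.P_Param
import Cfsg.Agent.Helper18.TwF4.G_Torus
import Cfsg.Agent.Helper18.TwF4.P_Borel
import Cfsg.Agent.S1090

/-!
# Elements of `²F₄(q)` commuting with an involution: the primes dividing their orders divide `q (q⁴ - 1)`
-/

set_option autoImplicit false
set_option maxRecDepth 100000
set_option linter.unusedSimpArgs false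
set_option linter.unusedVariables false
set_option linter.unusedSectionVars false

namespace Cfsg.Agent.Helper4.F4Inv

open Cfsg Cfsg.Lie Cfsg.Agent.Helper18 Cfsg.Agent.Helper18.TwF4 Cfsg.Agent.Helper18.Aut
  Cfsg.Agent.Helper19.Twist Cfsg.Agent.Helper6
  Cfsg.Agent.Helper36.F4Class Cfsg.Agent.Helper36.SigmaF4

/-- powers in a product `U T` with `T` normalising `U` -/
theorem pow_mul_mem {G : Type*} [Group G] (U : Subgroup G) (u t : G) (hu : u ∈ U)
    (hn : ∀ k : ℕ, ∀ x ∈ U, t ^ k * x * (t ^ k)⁻¹ ∈ U) (n : ℕ) :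
    ∃ u' ∈ U, (u * t) ^ n = u' * t ^ n := by
  induction n with
  | zero => exact ⟨1, U.one_mem, by simp⟩
  | succ n ih =>
    obtain ⟨u', hu', e⟩ := ih
    refine ⟨u' * (t ^ n * u * (t ^ n)⁻¹), U.mul_mem hu' (hn n u hu), ?_⟩
    rw [pow_succ, e, pow_succ]
    group

theorem dvd_q4 (q : ℕ) (hq : 1 ≤ q) : (q + 1) ∣ q ^ 4 - 1 ∧ (q ^ 2 + 1) ∣ q ^ 4 - 1 ∧ (q - 1) ∣ q ^ 4 - 1 := by
  obtain ⟨r, rfl⟩ : ∃ r, q = r + 1 := ⟨q - 1, by omega⟩
  have e : (r + 1) ^ 4 - 1 = (r + 1 + 1) * ((r + 1) ^ 2 + 1) * r := by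
    have : (r + 1) ^ 4 = (r + 1 + 1) * ((r + 1) ^ 2 + 1) * r + 1 := by ring
    omega
  refine ⟨?_, ?_, ?_⟩
  · rw [e]; exact ⟨((r + 1) ^ 2 + 1) * r, by ring⟩
  · rw [e]; exact ⟨(r + 1 + 1) * r, by ring⟩
  · rw [e]; exact ⟨(r + 1 + 1) * ((r + 1) ^ 2 + 1), by simp; ring⟩

section

variable {K : Type*} [Field K] [CharP K 2] [Fintype K] {m : ℕ}

local notation "Gt" => twistedF4 K (2 ^ m)

variable (hK : Fintype.card K = 2 ^ (2 * m + 1))

include hK in
theorem card_Xp0 : Nat.card ↥(Xp K m 0) = 2 ^ (2 * m + 1) := by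
  have hmem : ∀ t : K, (xP m t : ↥Gt) ∈ Xp K m 0 := fun t => (mem_Xp0 hK (xP m t)).mpr ⟨t, rfl⟩
  have hbij : Function.Bijective (fun t : K => (⟨xP m t, hmem t⟩ : ↥(Xp K m 0))) := by
    constructor
    · intro t t' h
      have h' : xP m t = xP m t' := Subtype.mk.inj h
      exact xP_inj t t' h'
    · rintro ⟨x, hx⟩
      obtain ⟨t, ht⟩ := (mem_Xp0 hK x).mp hx
      exact ⟨t, Subtype.ext ht.symm⟩
  rw [← Nat.card_congr (Equiv.ofBijective _ hbij), Nat.card_eq_fintype_card, hK]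

include hK in
theorem card_Xp1 : Nat.card ↥(Xp K m 1) = (2 ^ (2 * m + 1)) ^ 2 := by
  have hmem : ∀ t : K × K, (xS m t.1 t.2 : ↥Gt) ∈ Xp K m 1 :=
    fun t => (mem_Xp1 hK (xS m t.1 t.2)).mpr ⟨t.1, t.2, rfl⟩
  have hbij : Function.Bijective (fun t : K × K => (⟨xS m t.1 t.2, hmem t⟩ : ↥(Xp K m 1))) := by
    constructor
    · rintro ⟨t, u⟩ ⟨t', u'⟩ h
      have h' : xS m t u = xS m t' u' := Subtype.mk.inj h
      obtain ⟨h1, h2⟩ := xS_inj t u t' u' h'
      rw [h1, h2]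
    · rintro ⟨x, hx⟩
      obtain ⟨t, u, ht⟩ := (mem_Xp1 hK x).mp hx
      exact ⟨(t, u), Subtype.ext ht.symm⟩
  rw [← Nat.card_congr (Equiv.ofBijective _ hbij), Nat.card_eq_fintype_card, Fintype.card_prod, hK, pow_two]

/-- `|Xm| = |Xp|` in the rank one situation -/
theorem card_Xm_eq {G : Type*} [Group G] {B V U X Y : Subgroup G} {s : G}
    (R : RankOne B V U X Y s) : Nat.card ↥Y = Nat.card ↥X := by
  apply Nat.card_congr
  exact
    { toFun := fun y => ⟨s⁻¹ * y.1 * s, R.h1' _ y.2⟩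
      invFun := fun x => ⟨s * x.1 * s⁻¹, R.h1 _ x.2⟩
      left_inv := fun y => Subtype.ext (by show s * (s⁻¹ * y.1 * s) * s⁻¹ = y.1; group)
      right_inv := fun x => Subtype.ext (by show s⁻¹ * (s * x.1 * s⁻¹) * s = x.1; group) }

include hK in
/-- an element of prime order of `B¹`: the prime divides `q (q - 1)` -/
theorem prime_dvd_of_mem_B (c : ↥Gt) (hc : (c : GL chevF4.Idx K) ∈ chevF4.borelSubgroup K)
    (p : ℕ) (hp : p.Prime) (hcp : orderOf c = p) :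
    p ∣ 2 ^ (2 * m + 1) * ((2 ^ (2 * m + 1)) ^ 4 - 1) := by
  obtain ⟨u, hu, t, ht, e⟩ := B1_decomp_F4 hK c hc
  have htd : (t : GL chevF4.Idx K) ∈ chevF4.diagonalSubgroup K := Subgroup.mem_subgroupOf.mp ht
  have ht1 := T_pow_card hK t htd
  have hn : ∀ k : ℕ, ∀ x ∈ U1 K m, t ^ k * x * (t ^ k)⁻¹ ∈ U1 K m := by
    intro k x hx
    have htk : ((t ^ k : ↥Gt) : GL chevF4.Idx K) ∈ chevF4.borelSubgroup K := by
      rw [Subgroup.coe_pow]
      exact pow_mem (Subgroup.mem_sup_right htd) k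
    have := U_norm_F4 (m := m) (t ^ k) htk
    rw [← this]
    exact conj_mem_cjg hx
  obtain ⟨u', hu', e'⟩ := pow_mul_mem (U1 K m) u t hu hn (2 ^ (2 * m + 1) - 1)
  rw [← e, ht1, mul_one] at e'
  have hcardU : Nat.card ↥(U1 K m) = (2 ^ (2 * m + 1)) ^ 12 := by
    have h1 : Nat.card ↥(U1 K m) = Nat.card ↥(chevF4.posUnipotent K ⊓ twistedF4 K (2 ^ m)) := by
      unfold U1
      rw [← Subgroup.inf_subgroupOf_right (chevF4.posUnipotent K) (twistedF4 K (2 ^ m))]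
      exact Nat.card_congr (Subgroup.subgroupOfEquivOfLe
        (inf_le_right : chevF4.posUnipotent K ⊓ twistedF4 K (2 ^ m) ≤ twistedF4 K (2 ^ m))).toEquiv
    rw [h1, Cfsg.Agent.S1090.result hK]
  have hu1 : u' ^ ((2 ^ (2 * m + 1)) ^ 12) = 1 := by
    have h := pow_card_eq_one' (G := ↥(U1 K m)) (x := ⟨u', hu'⟩)
    rw [hcardU] at h
    have := congrArg Subtype.val h
    simpa using this
  have hc1 : c ^ ((2 ^ (2 * m + 1) - 1) * (2 ^ (2 * m + 1)) ^ 12) = 1 := by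
    rw [pow_mul, e', hu1]
  have hdvd := orderOf_dvd_of_pow_eq_one hc1
  rw [hcp] at hdvd
  rcases (hp.dvd_mul).mp hdvd with h | h
  · exact dvd_mul_of_dvd_right (dvd_trans h (dvd_q4 _ Nat.one_le_two_pow).2.2) _
  · exact dvd_mul_of_dvd_left (hp.dvd_of_dvd_pow h) _

include hK in
/-- an element of prime order of a rank one parabolic subgroup: the prime divides `q (q⁴ - 1)` -/
theorem prime_dvd_of_mem_para (P : BNPair ↥Gt) (s : Fin 2 → ↥Gt) (n₀ : ↥Gt)
    (hmemB : ∀ b : ↥Gt, b ∈ P.B ↔ (b : GL chevF4.Idx K) ∈ chevF4.borelSubgroup K)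
    (hL1 : L1Hyp P 2 (U1 K m) (V1 K m) s (Xp K m) (Xm K m) n₀ id)
    (hR : ∀ a : Fin 2, RankOne P.B (V1 K m) (U1 K m) (Xp K m a) (Xm K m a) (s a))
    (i : Fin 2) (hcard : Nat.card ↥(Xp K m i) + 1 ∣ (2 ^ (2 * m + 1)) ^ 4 - 1)
    (c : ↥Gt) (hc : c ∈ P.parabolic {s i}) (p : ℕ) (hp : p.Prime) (hcp : orderOf c = p) :
    p ∣ 2 ^ (2 * m + 1) * ((2 ^ (2 * m + 1)) ^ 4 - 1) := by
  have : Fact p.Prime := ⟨hp⟩
  have R := hR i
  have hsH : s i ∈ P.parabolic {s i} :=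
    closure_le_parabolic P _ (Subgroup.subset_closure (Set.mem_singleton _))
  have hidx : (P.B.subgroupOf (P.parabolic {s i})).index = Nat.card ↥(Xm K m i) + 1 := by
    apply index_rankOne P.B (P.parabolic {s i}) (Xm K m i) (s i) (B_le_parabolic P _) (hL1.Xm_le_P i) hsH
      (hL1.para i)
    · intro y hy hyB
      have : y ∈ P.B ⊓ V1 K m := Subgroup.mem_inf.mpr ⟨hyB, R.hXmV hy⟩
      rw [R.hBV, Subgroup.mem_bot] at this
      exact this
    · intro y hy b hb e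
      exact R.cell_ne_one hy hb e
  rw [card_Xm_eq R] at hidx
  by_cases hdvd : p ∣ (P.B.subgroupOf (P.parabolic {s i})).index
  · rw [hidx] at hdvd
    exact dvd_mul_of_dvd_right (dvd_trans hdvd hcard) _
  · obtain ⟨h, hh, hcB⟩ := conj_into_of_not_dvd_index P.B (P.parabolic {s i}) p c hc hcp hdvd
    have hord : orderOf (h⁻¹ * c * h) = p := by
      have := (MulAut.conj h⁻¹).orderOf_eq c
      rw [MulAut.conj_apply, inv_inv] at this
      rw [this, hcp]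
    exact prime_dvd_of_mem_B hK _ ((hmemB _).mp hcB) p hp hord

include hK in
/-- **the primes dividing the order of an element commuting with an involution of `²F₄(q)` divide
`q (q⁴ - 1)`** -/
theorem primeFactors_of_commute_invol (a b : ↥Gt) (ha : orderOf a = 2) (hab : Commute a b) :
    (orderOf b).primeFactors ⊆ (2 ^ (2 * m + 1) * ((2 ^ (2 * m + 1)) ^ 4 - 1)).primeFactors := by
  have hsur := Cfsg.Agent.Helper31.F4Inv.pieceSUR K m
  have htor := Cfsg.Agent.Helper53.F4Inv.pieceTOR hsur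
  have : Fact (Nat.Prime 2) := ⟨Nat.prime_two⟩
  obtain ⟨P, s, n₀, hmemB, hmemN, hs, hn0, hL1, hR⟩ := twF4_L1Hyp (m := m) hK
  have hq1 : 1 ≤ 2 ^ (2 * m + 1) := Nat.one_le_two_pow
  have hq2 : 2 ≤ 2 ^ (2 * m + 1) := by
    calc 2 = 2 ^ 1 := by norm_num
      _ ≤ 2 ^ (2 * m + 1) := Nat.pow_le_pow_right (by norm_num) (by omega)
  have hne : 2 ^ (2 * m + 1) * ((2 ^ (2 * m + 1)) ^ 4 - 1) ≠ 0 := by
    have h4 : 2 ^ 4 ≤ (2 ^ (2 * m + 1)) ^ 4 := Nat.pow_le_pow_left hq2 4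
    have : 0 < (2 ^ (2 * m + 1)) ^ 4 - 1 := by omega
    positivity
  intro p hp
  rw [Nat.mem_primeFactors] at hp ⊢
  obtain ⟨hpp, hpb, hb0⟩ := hp
  refine ⟨hpp, ?_, hne⟩
  -- an element of order `p` commuting with `a`
  set c : ↥Gt := b ^ (orderOf b / p) with hcdef
  have hcp : orderOf c = p := orderOf_pow_orderOf_div hb0 hpb
  have hac : Commute a c := hab.pow_right _
  have hcard0 : Nat.card ↥(Xp K m 0) + 1 ∣ (2 ^ (2 * m + 1)) ^ 4 - 1 := by
    rw [card_Xp0 hK]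
    exact (dvd_q4 _ hq1).1
  have hcard1 : Nat.card ↥(Xp K m 1) + 1 ∣ (2 ^ (2 * m + 1)) ^ 4 - 1 := by
    rw [card_Xp1 hK]
    exact (dvd_q4 _ hq1).2.1
  rcases invol_class hK hsur htor a ha with hz | hv
  · rw [ConjClasses.mk_eq_mk_iff_isConj, isConj_iff] at hz
    obtain ⟨k, hk⟩ := hz
    have hcomm : Commute (zG hK) (k * c * k⁻¹) := by
      rw [← hk]
      show k * a * k⁻¹ * (k * c * k⁻¹) = k * c * k⁻¹ * (k * a * k⁻¹)
      have e := hac.eq
      calc k * a * k⁻¹ * (k * c * k⁻¹) = k * (a * c) * k⁻¹ := by group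
        _ = k * (c * a) * k⁻¹ := by rw [e]
        _ = k * c * k⁻¹ * (k * a * k⁻¹) := by group
    have hord : orderOf (k * c * k⁻¹) = p := by
      have := (MulAut.conj k).orderOf_eq c
      rw [MulAut.conj_apply] at this
      rw [this, hcp]
    have hmem := cent_z_le hK P s hmemB hL1.S_eq hR _ hcomm
    exact prime_dvd_of_mem_para hK P s n₀ hmemB hL1 hR 1 hcard1 _ hmem p hpp hord
  · rw [ConjClasses.mk_eq_mk_iff_isConj, isConj_iff] at hv
    obtain ⟨k, hk⟩ := hv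
    have hcomm : Commute (vG hK) (k * c * k⁻¹) := by
      rw [← hk]
      show k * a * k⁻¹ * (k * c * k⁻¹) = k * c * k⁻¹ * (k * a * k⁻¹)
      have e := hac.eq
      calc k * a * k⁻¹ * (k * c * k⁻¹) = k * (a * c) * k⁻¹ := by group
        _ = k * (c * a) * k⁻¹ := by rw [e]
        _ = k * c * k⁻¹ * (k * a * k⁻¹) := by group
    have hord : orderOf (k * c * k⁻¹) = p := by
      have := (MulAut.conj k).orderOf_eq c
      rw [MulAut.conj_apply] at this
      rw [this, hcp]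
    have hmem := cent_v_le hK P s hmemB hL1.S_eq hR _ hcomm
    exact prime_dvd_of_mem_para hK P s n₀ hmemB hL1 hR 0 hcard0 _ hmem p hpp hord

end

end Cfsg.Agent.Helper4.F4Inv
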