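import Cfsg.Agent.Helper4.F4Inv.Red

/-!
# Uniqueness of the normal form in the twisted unipotent group of `²F₄` (abstract form)

If a normal form which is trivial has trivial first and last class components, then (using the two
Weyl elements) all its components are trivial.
-/

set_option autoImplicit false
set_option maxHeartbeats 1000000
set_option linter.unusedSimpArgs false
set_option linter.unusedVariables false
set_option linter.unusedSectionVars false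

namespace Cfsg.Agent.Helper4.F4Inv

variable {K Γ : Type*} [Field K] [Group Γ] {R : RelF4 K Γ} {th : K →+* K}

namespace TwN

section char2

variable [CharP K 2] (T : TwN R th)

include T

theorem step_n1 (b b1 c d d1 e f f1 g h h1 : K)
    (h0 : R.NF th 0 b b1 c d d1 e f f1 g h h1 = 1) :
    R.NF th 0 (h) (h1) (b * h * th h ^ 2 + b * th h1 ^ 2 + f * h + g) (b * th h ^ 2 + f) (th b * g + b * th f * th h ^ 2 + b * th g * th h + b * th b * th h * h1 + b * th b * h * th h ^ 2 + b1 * th h * h1 + b1 * h * th h ^ 2 + b1 * th h1 ^ 2 + th c * h * th h + th c * h1 + th d * th f * th h + th d * th g + th e * th h + f1) (th b ^ 2 * g + b * th b ^ 2 * th h1 ^ 2 + th b1 ^ 2 * th h1 ^ 2 + c * th h ^ 2 + d * f + e) (th b ^ 2 * h + d) (th b * b1 * h1 + th b * th c * h + th b * th d * th f + th b * th e + b * d * th h + b * th b ^ 2 * h1 + th b1 ^ 2 * h * th h + th b1 ^ 2 * h1 + b1 * th g + th c * th f + c * th h + d1) (b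 * d + th b1 ^ 2 * h + c) (b) (b1) = 1 := by
  rw [T.NF_a0] at h0 ⊢
  rw [← T.conj_n1, h0]; group

theorem step_n8 (a b b1 c d d1 e f f1 g : K)
    (h0 : R.NF th a b b1 c d d1 e f f1 g 0 0 = 1) :
    R.NF th (g) (f) (th b * g + th d * th g + f1) (a * th g ^ 2 + th b ^ 2 * g + d * f + e) (d) (th a * th b * g + th a * th d * th g + th a * f * th f + th a * f1 + a * th f * th g + th b * th d * th f + th b * th e + b1 * th g + th c * th f + d1) (th a ^ 2 * g + a * th f ^ 2 + b * d + c) (b) (th a * th d + a * th f + b1) (a) 0 0 = 1 := by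
  rw [T.NF_h0] at h0 ⊢
  rw [← T.conj_n8, h0]; group

theorem inj_of_strip
    (hA : ∀ a b b1 c d d1 e f f1 g h h1 : K, R.NF th a b b1 c d d1 e f f1 g h h1 = 1 → a = 0)
    (hH : ∀ a b b1 c d d1 e f f1 g h h1 : K, R.NF th a b b1 c d d1 e f f1 g h h1 = 1 →
      h = 0 ∧ h1 = 0)
    (a b b1 c d d1 e f f1 g h h1 : K) (h0 : R.NF th a b b1 c d d1 e f f1 g h h1 = 1) :
    a = 0 ∧ b = 0 ∧ b1 = 0 ∧ c = 0 ∧ d = 0 ∧ d1 = 0 ∧ e = 0 ∧ f = 0 ∧ f1 = 0 ∧ g = 0 ∧ h = 0 ∧ h1 = 0 := by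
  have ha := hA _ _ _ _ _ _ _ _ _ _ _ _ h0
  obtain ⟨hh, hh1⟩ := hH _ _ _ _ _ _ _ _ _ _ _ _ h0
  subst ha hh hh1
  -- `b`, `b1`
  have s1 := T.step_n1 _ _ _ _ _ _ _ _ _ _ _ h0
  obtain ⟨hb, hb1⟩ := hH _ _ _ _ _ _ _ _ _ _ _ _ s1
  subst hb hb1
  -- `g`
  have s2 := T.step_n8 _ _ _ _ _ _ _ _ _ _ h0
  have hg := hA _ _ _ _ _ _ _ _ _ _ _ _ s2
  subst hg
  -- `f`, `f1`
  have s3 := T.step_n8 _ _ _ _ _ _ _ _ _ _ h0
  simp only [map_zero, mul_zero, zero_mul, add_zero, zero_add, ne_eq, OfNat.ofNat_ne_zero,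
    not_false_eq_true, zero_pow] at s3
  have s4 := T.step_n1 _ _ _ _ _ _ _ _ _ _ _ s3
  obtain ⟨hf, hf1⟩ := hH _ _ _ _ _ _ _ _ _ _ _ _ s4
  subst hf hf1
  -- `c`
  have t3 := T.step_n1 _ _ _ _ _ _ _ _ _ _ _ h0
  simp only [map_zero, mul_zero, zero_mul, add_zero, zero_add, ne_eq, OfNat.ofNat_ne_zero,
    not_false_eq_true, zero_pow] at t3
  have t4 := T.step_n8 _ _ _ _ _ _ _ _ _ _ t3
  have hc := hA _ _ _ _ _ _ _ _ _ _ _ _ t4
  subst hc
  -- `d`, `d1`
  have u1 := T.step_n1 _ _ _ _ _ _ _ _ _ _ _ h0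
  simp only [map_zero, mul_zero, zero_mul, add_zero, zero_add, ne_eq, OfNat.ofNat_ne_zero,
    not_false_eq_true, zero_pow] at u1
  have u2 := T.step_n8 _ _ _ _ _ _ _ _ _ _ u1
  simp only [map_zero, mul_zero, zero_mul, add_zero, zero_add, ne_eq, OfNat.ofNat_ne_zero,
    not_false_eq_true, zero_pow] at u2
  have u3 := T.step_n1 _ _ _ _ _ _ _ _ _ _ _ u2
  simp only [map_zero, mul_zero, zero_mul, add_zero, zero_add, ne_eq, OfNat.ofNat_ne_zero,
    not_false_eq_true, zero_pow] at u3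
  obtain ⟨hd, hd1⟩ := hH _ _ _ _ _ _ _ _ _ _ _ _ u3
  subst hd hd1
  -- `e`
  have v1 := T.step_n8 _ _ _ _ _ _ _ _ _ _ h0
  simp only [map_zero, mul_zero, zero_mul, add_zero, zero_add, ne_eq, OfNat.ofNat_ne_zero,
    not_false_eq_true, zero_pow] at v1
  have v2 := T.step_n1 _ _ _ _ _ _ _ _ _ _ _ v1
  simp only [map_zero, mul_zero, zero_mul, add_zero, zero_add, ne_eq, OfNat.ofNat_ne_zero,
    not_false_eq_true, zero_pow] at v2
  have v3 := T.step_n8 _ _ _ _ _ _ _ _ _ _ v2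
  have he := hA _ _ _ _ _ _ _ _ _ _ _ _ v3
  subst he
  exact ⟨rfl, rfl, rfl, rfl, rfl, rfl, rfl, rfl, rfl, rfl, rfl, rfl⟩

end char2

end TwN

end Cfsg.Agent.Helper4.F4Inv
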