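import Cfsg.Agent.Helper4.F4Inv.TwMul
import Cfsg.Agent.Helper4.F4Inv.Inj

/-!
# The normal form of the twisted unipotent group of `²F₄` is injective (abstract form)

From the product formula `mul_NF` the normal forms are closed under multiplication; in a finite group
they are closed under inverses, and the uniqueness "`NF x = 1 → x = 0`" gives injectivity of `NF`.
-/

set_option autoImplicit false
set_option maxHeartbeats 1000000
set_option linter.unusedSimpArgs false
set_option linter.unusedVariables false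
set_option linter.unusedSectionVars false

namespace Cfsg.Agent.Helper4.F4Inv

variable {K Γ : Type*} [Field K] [Group Γ] {R : RelF4 K Γ} {th : K →+* K}

/-- the set of normal forms -/
def nfSet (R : RelF4 K Γ) (th : K →+* K) : Set Γ :=
  {y | ∃ a b b1 c d d1 e f f1 g h h1 : K, y = R.NF th a b b1 c d d1 e f f1 g h h1}

section char2

variable [CharP K 2]

theorem NF_zero (R : RelF4 K Γ) (th : K →+* K) : R.NF th 0 0 0 0 0 0 0 0 0 0 0 0 = 1 := by
  unfold RelF4.NF RelF4.PA RelF4.SB RelF4.PC RelF4.SD RelF4.PE RelF4.SF RelF4.PG RelF4.SH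
  simp only [map_zero, mul_zero, add_zero, ne_eq, OfNat.ofNat_ne_zero, not_false_eq_true, zero_pow,
    R.zero33, R.zero24, R.zero34, R.zero26, R.zero36, R.zero42, R.zero38, R.zero43, R.zero29, R.zero41,
    R.zero44, R.zero47, R.zero39, R.zero45, R.zero35, R.zero31, R.zero40, R.zero46, R.zero37, R.zero32,
    R.zero27, R.zero25, R.zero28, R.zero30, mul_one]

/-- the normal forms are a submonoid -/
def nfMonoid (R : RelF4 K Γ) (th : K →+* K) (hth : ∀ x, th (th x) ^ 2 = x) : Submonoid Γ where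
  carrier := nfSet R th
  mul_mem' := by
    rintro x y ⟨a, b, b1, c, d, d1, e, f, f1, g, h, h1, rfl⟩ ⟨A, B, B1, C, D, D1, E, F, F1, G, H, H1, rfl⟩
    exact ⟨_, _, _, _, _, _, _, _, _, _, _, _, R.mul_NF th hth _ _ _ _ _ _ _ _ _ _ _ _ _ _ _ _ _ _ _ _ _ _ _ _⟩
  one_mem' := ⟨0, 0, 0, 0, 0, 0, 0, 0, 0, 0, 0, 0, (NF_zero R th).symm⟩

/-- in a finite group every normal form has a left inverse which is a normal form -/
theorem exists_left_inv [Finite Γ] (R : RelF4 K Γ) (th : K →+* K) (hth : ∀ x, th (th x) ^ 2 = x)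
    (y : Γ) (hy : y ∈ nfSet R th) : ∃ z ∈ nfSet R th, z * y = 1 := by
  have hn : 0 < orderOf y := orderOf_pos y
  refine ⟨y ^ (orderOf y - 1), (nfMonoid R th hth).pow_mem hy _, ?_⟩
  rw [← pow_succ, Nat.sub_add_cancel hn, pow_orderOf_eq_one]

/-- injectivity of the normal form -/
theorem NF_injective [Finite Γ] (R : RelF4 K Γ) (th : K →+* K) (hth : ∀ x, th (th x) ^ 2 = x)
    (hinj : ∀ a b b1 c d d1 e f f1 g h h1 : K, R.NF th a b b1 c d d1 e f f1 g h h1 = 1 →
      a = 0 ∧ b = 0 ∧ b1 = 0 ∧ c = 0 ∧ d = 0 ∧ d1 = 0 ∧ e = 0 ∧ f = 0 ∧ f1 = 0 ∧ g = 0 ∧ h = 0 ∧ h1 = 0)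
    (A B B1 C D D1 E F F1 G H H1 A' B' B1' C' D' D1' E' F' F1' G' H' H1' : K)
    (heq : R.NF th A B B1 C D D1 E F F1 G H H1 = R.NF th A' B' B1' C' D' D1' E' F' F1' G' H' H1') :
    A = A' ∧ B = B' ∧ B1 = B1' ∧ C = C' ∧ D = D' ∧ D1 = D1' ∧ E = E' ∧ F = F' ∧ F1 = F1' ∧ G = G' ∧
      H = H' ∧ H1 = H1' := by
  obtain ⟨z, ⟨a, b, b1, c, d, d1, e, f, f1, g, h, h1, rfl⟩, hz⟩ :=
    exists_left_inv R th hth _ ⟨A, B, B1, C, D, D1, E, F, F1, G, H, H1, rfl⟩
  have hz' := hz
  rw [heq] at hz'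
  obtain ⟨e1, e2, e3, e4, e5, e6, e7, e8, e9, e10, e11, e12⟩ := hinj _ _ _ _ _ _ _ _ _ _ _ _
    ((R.mul_NF th hth _ _ _ _ _ _ _ _ _ _ _ _ _ _ _ _ _ _ _ _ _ _ _ _).symm.trans hz)
  obtain ⟨e1', e2', e3', e4', e5', e6', e7', e8', e9', e10', e11', e12'⟩ := hinj _ _ _ _ _ _ _ _ _ _ _ _
    ((R.mul_NF th hth _ _ _ _ _ _ _ _ _ _ _ _ _ _ _ _ _ _ _ _ _ _ _ _).symm.trans hz')
  have hA : A = A' := by linear_combination e1 - e1'
  subst hA
  have hB : B = B' := by linear_combination e2 - e2'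
  subst hB
  have hB1 : B1 = B1' := by linear_combination e3 - e3'
  subst hB1
  have hC : C = C' := by linear_combination e4 - e4'
  subst hC
  have hD : D = D' := by linear_combination e5 - e5'
  subst hD
  have hD1 : D1 = D1' := by linear_combination e6 - e6'
  subst hD1
  have hE : E = E' := by linear_combination e7 - e7'
  subst hE
  have hF : F = F' := by linear_combination e8 - e8'
  subst hF
  have hF1 : F1 = F1' := by linear_combination e9 - e9'
  subst hF1
  have hG : G = G' := by linear_combination e10 - e10'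
  subst hG
  have hH : H = H' := by linear_combination e11 - e11'
  subst hH
  have hH1 : H1 = H1' := by linear_combination e12 - e12'
  subst hH1
  exact ⟨rfl, rfl, rfl, rfl, rfl, rfl, rfl, rfl, rfl, rfl, rfl, rfl⟩

end char2

end Cfsg.Agent.Helper4.F4Inv
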