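import Cfsg.Agent.Helper4.F4Inv.AbsN

/-! Moving the root element `X23 1` through a product of root elements of the radical. (Generated.) -/

set_option autoImplicit false
set_option maxHeartbeats 4000000
set_option maxRecDepth 100000
set_option linter.unusedSimpArgs false
set_option linter.unusedVariables false
set_option linter.unusedTactic false
set_option linter.unreachableTactic false

namespace Cfsg.Agent.Helper4.F4Inv

variable {K Γ : Type*} [Field K] [Group Γ] (R : RelF4N K Γ) [CharP K 2]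

namespace RelF4N

theorem st23 (x34 x26 x36 x42 x38 x43 x29 x41 x44 x47 x39 x45 x35 x31 x40 x46 x37 x32 x27 x25 x28 x30 : K) :
    R.X23 1 * R.toRelF4.RNF7 x34 x26 x36 x42 x38 x43 x29 x41 x44 x47 x39 x45 x35 x31 x40 x46 x37 x32 x27 x25 x28 x30 = R.toRelF4.RNF7 (x34) (x26) (x36) (x42) (x38) (x26 * x42 + x36 ^ 2 + x43) (x29) (x41 + x42) (x29 * x42 + x36 * x38 + x44) (x26 * x38 ^ 2 + x29 ^ 2 * x42 + x47) (x26 * x38 + x29 * x36 + x39) (x38 ^ 2 + x45) (x35 + x36) (x31) (x29 * x38 + x40) (x26 * x38 ^ 2 + x26 * x45 + x29 ^ 2 * x41 + x46 + x47) (x37 + x38) (x26 * x31 + x29 ^ 2 + x32) (x27) (x25 + x26) (x26 * x27 + x28 + x29) (x26 * x27 ^ 2 + x30 + x31) * R.X23 1 := by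
  have h2 : (2 : K) = 0 := CharTwo.two_eq_zero
  have h4 : (4 : K) = 0 := by linear_combination 2 * h2
  have h6 : (6 : K) = 0 := by linear_combination 3 * h2
  have h8 : (8 : K) = 0 := by linear_combination 4 * h2
  have h10 : (10 : K) = 0 := by linear_combination 5 * h2
  have h12 : (12 : K) = 0 := by linear_combination 6 * h2
  have h14 : (14 : K) = 0 := by linear_combination 7 * h2
  have h16 : (16 : K) = 0 := by linear_combination 8 * h2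
  have h18 : (18 : K) = 0 := by linear_combination 9 * h2
  have h20 : (20 : K) = 0 := by linear_combination 10 * h2
  have h22 : (22 : K) = 0 := by linear_combination 11 * h2
  have h24 : (24 : K) = 0 := by linear_combination 12 * h2
  have h26 : (26 : K) = 0 := by linear_combination 13 * h2
  have h28 : (28 : K) = 0 := by linear_combination 14 * h2
  have h30 : (30 : K) = 0 := by linear_combination 15 * h2
  have h32 : (32 : K) = 0 := by linear_combination 16 * h2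
  rw [← R.RNF7s_eq]
  unfold RNF7s RelF4.RNF7
  simp only [mul_assoc, R.toRelF4.t34_26, R.toRelF4.t34_36, R.toRelF4.t34_42, R.toRelF4.t34_38, R.toRelF4.t34_43, R.toRelF4.t34_29, R.toRelF4.t34_41,
    R.toRelF4.t34_44, R.toRelF4.t34_47, R.toRelF4.t34_39, R.toRelF4.t34_45, R.toRelF4.t34_35, R.toRelF4.t34_31, R.toRelF4.t34_40, R.toRelF4.t34_46,
    R.toRelF4.t34_37, R.toRelF4.t34_32, R.toRelF4.t34_27, R.toRelF4.t34_25, R.toRelF4.t34_28, R.toRelF4.t34_30, R.toRelF4.t26_36, R.toRelF4.t26_42,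
    R.toRelF4.t26_38, R.toRelF4.t26_43, R.toRelF4.t26_29, R.toRelF4.t26_41, R.toRelF4.t26_44, R.toRelF4.t26_47, R.toRelF4.t26_39, R.toRelF4.t26_45,
    R.toRelF4.t26_35, R.toRelF4.t26_31, R.toRelF4.t26_40, R.toRelF4.t26_46, R.toRelF4.t26_37, R.toRelF4.t26_32, R.toRelF4.t26_27, R.toRelF4.t26_25,
    R.toRelF4.t26_28, R.toRelF4.t26_30, R.toRelF4.t36_42, R.toRelF4.t36_38, R.toRelF4.t36_43, R.toRelF4.t36_29, R.toRelF4.t36_41, R.toRelF4.t36_44,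
    R.toRelF4.t36_47, R.toRelF4.t36_39, R.toRelF4.t36_45, R.toRelF4.t36_35, R.toRelF4.t36_31, R.toRelF4.t36_40, R.toRelF4.t36_46, R.toRelF4.t36_37,
    R.toRelF4.t36_32, R.toRelF4.t36_27, R.toRelF4.t36_25, R.toRelF4.t36_28, R.toRelF4.t36_30, R.toRelF4.t42_38, R.toRelF4.t42_43, R.toRelF4.t42_29,
    R.toRelF4.t42_41, R.toRelF4.t42_44, R.toRelF4.t42_47, R.toRelF4.t42_39, R.toRelF4.t42_45, R.toRelF4.t42_35, R.toRelF4.t42_31, R.toRelF4.t42_40,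
    R.toRelF4.t42_46, R.toRelF4.t42_37, R.toRelF4.t42_32, R.toRelF4.t42_27, R.toRelF4.t42_25, R.toRelF4.t42_28, R.toRelF4.t42_30, R.toRelF4.t38_43,
    R.toRelF4.t38_29, R.toRelF4.t38_41, R.toRelF4.t38_44, R.toRelF4.t38_47, R.toRelF4.t38_39, R.toRelF4.t38_45, R.toRelF4.t38_35, R.toRelF4.t38_31,
    R.toRelF4.t38_40, R.toRelF4.t38_46, R.toRelF4.t38_37, R.toRelF4.t38_32, R.toRelF4.t38_27, R.toRelF4.t38_25, R.toRelF4.t38_28, R.toRelF4.t38_30,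
    R.toRelF4.t43_29, R.toRelF4.t43_41, R.toRelF4.t43_44, R.toRelF4.t43_47, R.toRelF4.t43_39, R.toRelF4.t43_45, R.toRelF4.t43_35, R.toRelF4.t43_31,
    R.toRelF4.t43_40, R.toRelF4.t43_46, R.toRelF4.t43_37, R.toRelF4.t43_32, R.toRelF4.t43_27, R.toRelF4.t43_25, R.toRelF4.t43_28, R.toRelF4.t43_30,
    R.toRelF4.t29_41, R.toRelF4.t29_44, R.toRelF4.t29_47, R.toRelF4.t29_39, R.toRelF4.t29_45, R.toRelF4.t29_35, R.toRelF4.t29_31, R.toRelF4.t29_40,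
    R.toRelF4.t29_46, R.toRelF4.t29_37, R.toRelF4.t29_32, R.toRelF4.t29_27, R.toRelF4.t29_25, R.toRelF4.t29_28, R.toRelF4.t29_30, R.toRelF4.t41_44,
    R.toRelF4.t41_47, R.toRelF4.t41_39, R.toRelF4.t41_45, R.toRelF4.t41_35, R.toRelF4.t41_31, R.toRelF4.t41_40, R.toRelF4.t41_46, R.toRelF4.t41_37,
    R.toRelF4.t41_32, R.toRelF4.t41_27, R.toRelF4.t41_25, R.toRelF4.t41_28, R.toRelF4.t41_30, R.toRelF4.t44_47, R.toRelF4.t44_39, R.toRelF4.t44_45,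
    R.toRelF4.t44_35, R.toRelF4.t44_31, R.toRelF4.t44_40, R.toRelF4.t44_46, R.toRelF4.t44_37, R.toRelF4.t44_32, R.toRelF4.t44_27, R.toRelF4.t44_25,
    R.toRelF4.t44_28, R.toRelF4.t44_30, R.toRelF4.t47_39, R.toRelF4.t47_45, R.toRelF4.t47_35, R.toRelF4.t47_31, R.toRelF4.t47_40, R.toRelF4.t47_46,
    R.toRelF4.t47_37, R.toRelF4.t47_32, R.toRelF4.t47_27, R.toRelF4.t47_25, R.toRelF4.t47_28, R.toRelF4.t47_30, R.toRelF4.t39_45, R.toRelF4.t39_35,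
    R.toRelF4.t39_31, R.toRelF4.t39_40, R.toRelF4.t39_46, R.toRelF4.t39_37, R.toRelF4.t39_32, R.toRelF4.t39_27, R.toRelF4.t39_25, R.toRelF4.t39_28,
    R.toRelF4.t39_30, R.toRelF4.t45_35, R.toRelF4.t45_31, R.toRelF4.t45_40, R.toRelF4.t45_46, R.toRelF4.t45_37, R.toRelF4.t45_32, R.toRelF4.t45_27,
    R.toRelF4.t45_25, R.toRelF4.t45_28, R.toRelF4.t45_30, R.toRelF4.t35_31, R.toRelF4.t35_40, R.toRelF4.t35_46, R.toRelF4.t35_37, R.toRelF4.t35_32,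
    R.toRelF4.t35_27, R.toRelF4.t35_25, R.toRelF4.t35_28, R.toRelF4.t35_30, R.toRelF4.t31_40, R.toRelF4.t31_46, R.toRelF4.t31_37, R.toRelF4.t31_32,
    R.toRelF4.t31_27, R.toRelF4.t31_25, R.toRelF4.t31_28, R.toRelF4.t31_30, R.toRelF4.t40_46, R.toRelF4.t40_37, R.toRelF4.t40_32, R.toRelF4.t40_27,
    R.toRelF4.t40_25, R.toRelF4.t40_28, R.toRelF4.t40_30, R.toRelF4.t46_37, R.toRelF4.t46_32, R.toRelF4.t46_27, R.toRelF4.t46_25, R.toRelF4.t46_28,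
    R.toRelF4.t46_30, R.toRelF4.t37_32, R.toRelF4.t37_27, R.toRelF4.t37_25, R.toRelF4.t37_28, R.toRelF4.t37_30, R.toRelF4.t32_27, R.toRelF4.t32_25,
    R.toRelF4.t32_28, R.toRelF4.t32_30, R.toRelF4.t27_25, R.toRelF4.t27_28, R.toRelF4.t27_30, R.toRelF4.t25_28, R.toRelF4.t25_30, R.toRelF4.t28_30,
    R.toRelF4.m34, R.toRelF4.m26, R.toRelF4.m36, R.toRelF4.m42, R.toRelF4.m38, R.toRelF4.m43, R.toRelF4.m29, R.toRelF4.m41,
    R.toRelF4.m44, R.toRelF4.m47, R.toRelF4.m39, R.toRelF4.m45, R.toRelF4.m35, R.toRelF4.m31, R.toRelF4.m40, R.toRelF4.m46,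
    R.toRelF4.m37, R.toRelF4.m32, R.toRelF4.m27, R.toRelF4.m25, R.toRelF4.m28, R.toRelF4.m30, R.toRelF4.r34_26, R.toRelF4.c34_36,
    R.toRelF4.c34_42, R.toRelF4.c34_38, R.toRelF4.c34_43, R.toRelF4.r34_29, R.toRelF4.c34_41, R.toRelF4.c34_44, R.toRelF4.c34_47, R.toRelF4.r34_39,
    R.toRelF4.c34_45, R.toRelF4.c34_35, R.toRelF4.c34_31, R.toRelF4.c34_40, R.toRelF4.c34_46, R.toRelF4.c34_37, R.toRelF4.r34_32, R.toRelF4.c34_27,
    R.toRelF4.r34_25, R.toRelF4.r34_28, R.toRelF4.c34_30, R.toRelF4.c26_36, R.toRelF4.c26_42, R.toRelF4.c26_38, R.toRelF4.c26_43, R.toRelF4.c26_29,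
    R.toRelF4.r26_41, R.toRelF4.c26_44, R.toRelF4.c26_47, R.toRelF4.c26_39, R.toRelF4.r26_45, R.toRelF4.c26_35, R.toRelF4.c26_31, R.toRelF4.c26_40,
    R.toRelF4.c26_46, R.toRelF4.r26_37, R.toRelF4.c26_32, R.toRelF4.r26_27, R.toRelF4.c26_25, R.toRelF4.c26_28, R.toRelF4.r26_30, R.toRelF4.c36_42,
    R.toRelF4.c36_38, R.toRelF4.c36_43, R.toRelF4.c36_29, R.toRelF4.c36_41, R.toRelF4.c36_44, R.toRelF4.c36_47, R.toRelF4.c36_39, R.toRelF4.c36_45,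
    R.toRelF4.c36_35, R.toRelF4.c36_31, R.toRelF4.c36_40, R.toRelF4.c36_46, R.toRelF4.r36_37, R.toRelF4.c36_32, R.toRelF4.r36_27, R.toRelF4.c36_25,
    R.toRelF4.r36_28, R.toRelF4.r36_30, R.toRelF4.c42_38, R.toRelF4.c42_43, R.toRelF4.c42_29, R.toRelF4.c42_41, R.toRelF4.c42_44, R.toRelF4.c42_47,
    R.toRelF4.c42_39, R.toRelF4.c42_45, R.toRelF4.c42_35, R.toRelF4.c42_31, R.toRelF4.c42_40, R.toRelF4.c42_46, R.toRelF4.c42_37, R.toRelF4.r42_32,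
    R.toRelF4.c42_27, R.toRelF4.r42_25, R.toRelF4.r42_28, R.toRelF4.r42_30, R.toRelF4.c38_43, R.toRelF4.c38_29, R.toRelF4.c38_41, R.toRelF4.c38_44,
    R.toRelF4.c38_47, R.toRelF4.c38_39, R.toRelF4.c38_45, R.toRelF4.r38_35, R.toRelF4.c38_31, R.toRelF4.c38_40, R.toRelF4.c38_46, R.toRelF4.c38_37,
    R.toRelF4.c38_32, R.toRelF4.c38_27, R.toRelF4.r38_25, R.toRelF4.r38_28, R.toRelF4.c38_30, R.toRelF4.c43_29, R.toRelF4.c43_41, R.toRelF4.c43_44,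
    R.toRelF4.c43_47, R.toRelF4.c43_39, R.toRelF4.c43_45, R.toRelF4.c43_35, R.toRelF4.r43_31, R.toRelF4.c43_40, R.toRelF4.c43_46, R.toRelF4.c43_37,
    R.toRelF4.c43_32, R.toRelF4.r43_27, R.toRelF4.c43_25, R.toRelF4.c43_28, R.toRelF4.r43_30, R.toRelF4.r29_41, R.toRelF4.c29_44, R.toRelF4.c29_47,
    R.toRelF4.c29_39, R.toRelF4.c29_45, R.toRelF4.r29_35, R.toRelF4.c29_31, R.toRelF4.c29_40, R.toRelF4.c29_46, R.toRelF4.r29_37, R.toRelF4.c29_32,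
    R.toRelF4.c29_27, R.toRelF4.c29_25, R.toRelF4.c29_28, R.toRelF4.c29_30, R.toRelF4.c41_44, R.toRelF4.c41_47, R.toRelF4.c41_39, R.toRelF4.c41_45,
    R.toRelF4.c41_35, R.toRelF4.r41_31, R.toRelF4.c41_40, R.toRelF4.c41_46, R.toRelF4.c41_37, R.toRelF4.r41_32, R.toRelF4.c41_27, R.toRelF4.c41_25,
    R.toRelF4.c41_28, R.toRelF4.c41_30, R.toRelF4.c44_47, R.toRelF4.c44_39, R.toRelF4.c44_45, R.toRelF4.c44_35, R.toRelF4.c44_31, R.toRelF4.c44_40,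
    R.toRelF4.c44_46, R.toRelF4.c44_37, R.toRelF4.c44_32, R.toRelF4.c44_27, R.toRelF4.c44_25, R.toRelF4.c44_28, R.toRelF4.c44_30, R.toRelF4.c47_39,
    R.toRelF4.c47_45, R.toRelF4.c47_35, R.toRelF4.c47_31, R.toRelF4.c47_40, R.toRelF4.c47_46, R.toRelF4.c47_37, R.toRelF4.c47_32, R.toRelF4.c47_27,
    R.toRelF4.c47_25, R.toRelF4.c47_28, R.toRelF4.c47_30, R.toRelF4.c39_45, R.toRelF4.c39_35, R.toRelF4.c39_31, R.toRelF4.c39_40, R.toRelF4.c39_46,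
    R.toRelF4.c39_37, R.toRelF4.c39_32, R.toRelF4.r39_27, R.toRelF4.c39_25, R.toRelF4.c39_28, R.toRelF4.c39_30, R.toRelF4.c45_35, R.toRelF4.c45_31,
    R.toRelF4.c45_40, R.toRelF4.c45_46, R.toRelF4.c45_37, R.toRelF4.c45_32, R.toRelF4.c45_27, R.toRelF4.r45_25, R.toRelF4.c45_28, R.toRelF4.c45_30,
    R.toRelF4.r35_31, R.toRelF4.c35_40, R.toRelF4.c35_46, R.toRelF4.c35_37, R.toRelF4.c35_32, R.toRelF4.r35_27, R.toRelF4.c35_25, R.toRelF4.c35_28,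
    R.toRelF4.c35_30, R.toRelF4.c31_40, R.toRelF4.c31_46, R.toRelF4.c31_37, R.toRelF4.c31_32, R.toRelF4.c31_27, R.toRelF4.r31_25, R.toRelF4.c31_28,
    R.toRelF4.c31_30, R.toRelF4.c40_46, R.toRelF4.c40_37, R.toRelF4.c40_32, R.toRelF4.c40_27, R.toRelF4.c40_25, R.toRelF4.c40_28, R.toRelF4.c40_30,
    R.toRelF4.c46_37, R.toRelF4.c46_32, R.toRelF4.c46_27, R.toRelF4.c46_25, R.toRelF4.c46_28, R.toRelF4.c46_30, R.toRelF4.c37_32, R.toRelF4.c37_27,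
    R.toRelF4.c37_25, R.toRelF4.c37_28, R.toRelF4.c37_30, R.toRelF4.c32_27, R.toRelF4.c32_25, R.toRelF4.c32_28, R.toRelF4.c32_30, R.toRelF4.r27_25,
    R.toRelF4.c27_28, R.toRelF4.c27_30, R.toRelF4.c25_28, R.toRelF4.c25_30, R.toRelF4.c28_30, ← R.toRelF4.add34, ← R.toRelF4.add26, ← R.toRelF4.add36,
    ← R.toRelF4.add42, ← R.toRelF4.add38, ← R.toRelF4.add43, ← R.toRelF4.add29, ← R.toRelF4.add41, ← R.toRelF4.add44, ← R.toRelF4.add47, ← R.toRelF4.add39,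
    ← R.toRelF4.add45, ← R.toRelF4.add35, ← R.toRelF4.add31, ← R.toRelF4.add40, ← R.toRelF4.add46, ← R.toRelF4.add37, ← R.toRelF4.add32, ← R.toRelF4.add27,
    ← R.toRelF4.add25, ← R.toRelF4.add28, ← R.toRelF4.add30, R.tq34_23, R.tq26_23, R.tq36_23, R.tq42_23, R.tq38_23,
    R.tq43_23, R.tq29_23, R.tq41_23, R.tq44_23, R.tq47_23, R.tq39_23, R.tq45_23, R.tq35_23,
    R.tq31_23, R.tq40_23, R.tq46_23, R.tq37_23, R.tq32_23, R.tq27_23, R.tq25_23, R.tq28_23,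
    R.tq30_23, R.k34_23, R.q26_23, R.q36_23, R.q42_23, R.q38_23, R.k43_23, R.q29_23,
    R.k41_23, R.k44_23, R.q47_23, R.k39_23, R.k45_23, R.k35_23, R.q31_23, R.k40_23,
    R.k46_23, R.k37_23, R.k32_23, R.k27_23, R.k25_23, R.k28_23, R.k30_23]
  change R.RNF7s _ _ _ _ _ _ _ _ _ _ _ _ _ _ _ _ _ _ _ _ _ _ _ = R.RNF7s _ _ _ _ _ _ _ _ _ _ _ _ _ _ _ _ _ _ _ _ _ _ _
  congr 1 <;> (first | rfl | ring1 | (rw [← sub_eq_zero]; ring_nf; simp only [h2, h4, h6, h8, h10, h12, h14, h16, h18, h20, h22, h24, h26, h28, h30, h32, mul_zero, zero_mul, add_zero, zero_add, neg_zero, sub_zero, sub_self]))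

end RelF4N

end Cfsg.Agent.Helper4.F4Inv
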