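import Cfsg.Agent.Helper4.F4Inv.AbsN
import Cfsg.Agent.Helper4.F4Inv.NSt19
import Cfsg.Agent.Helper4.F4Inv.NSt20
import Cfsg.Agent.Helper4.F4Inv.NSt22
import Cfsg.Agent.Helper4.F4Inv.NSt25
import Cfsg.Agent.Helper4.F4Inv.NSt27
import Cfsg.Agent.Helper4.F4Inv.NSt28
import Cfsg.Agent.Helper4.F4Inv.NSt30

/-! The action of the Weyl element `n8` on root elements. (Generated.) -/

set_option autoImplicit false
set_option maxHeartbeats 4000000
set_option maxRecDepth 100000
set_option linter.unusedSimpArgs false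
set_option linter.unusedVariables false
set_option linter.unusedTactic false
set_option linter.unreachableTactic false

namespace Cfsg.Agent.Helper4.F4Inv

variable {K Γ : Type*} [Field K] [Group Γ] (R : RelF4N K Γ) [CharP K 2]

namespace RelF4N

theorem n8_33 (t : K) : R.n8 * R.X33 t * (R.n8)⁻¹ = R.X37 t := by
  have h2 : (2 : K) = 0 := CharTwo.two_eq_zero
  have h4 : (4 : K) = 0 := by linear_combination 2 * h2
  have h6 : (6 : K) = 0 := by linear_combination 3 * h2
  have h8 : (8 : K) = 0 := by linear_combination 4 * h2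
  have h10 : (10 : K) = 0 := by linear_combination 5 * h2
  have h12 : (12 : K) = 0 := by linear_combination 6 * h2
  have h14 : (14 : K) = 0 := by linear_combination 7 * h2
  have h16 : (16 : K) = 0 := by linear_combination 8 * h2
  have h18 : (18 : K) = 0 := by linear_combination 9 * h2
  have h20 : (20 : K) = 0 := by linear_combination 10 * h2
  have h22 : (22 : K) = 0 := by linear_combination 11 * h2
  have h24 : (24 : K) = 0 := by linear_combination 12 * h2
  have h26 : (26 : K) = 0 := by linear_combination 13 * h2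
  have h28 : (28 : K) = 0 := by linear_combination 14 * h2
  have h30 : (30 : K) = 0 := by linear_combination 15 * h2
  have h32 : (32 : K) = 0 := by linear_combination 16 * h2
  have e0 : R.X33 t = R.toRelF4.RNF1 (t) (0) (0) (0) (0) (0) (0) (0) (0) (0) (0) (0) (0) (0) (0) (0) (0) (0) (0) (0) := by
    unfold RelF4.RNF1; simp only [RelF4.zero33, RelF4.zero24, RelF4.zero34, RelF4.zero26, RelF4.zero36, RelF4.zero42, RelF4.zero38, RelF4.zero43, RelF4.zero29, RelF4.zero41, RelF4.zero44, RelF4.zero47, RelF4.zero39, RelF4.zero45, RelF4.zero35, RelF4.zero31, RelF4.zero40, RelF4.zero46, RelF4.zero37, RelF4.zero32, one_mul, mul_one]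
  have e9 : R.X37 t = R.toRelF4.RNF1 (0) (0) (0) (0) (0) (0) (0) (0) (0) (0) (0) (0) (0) (0) (0) (0) (0) (0) (t) (0) := by
    unfold RelF4.RNF1; simp only [RelF4.zero33, RelF4.zero24, RelF4.zero34, RelF4.zero26, RelF4.zero36, RelF4.zero42, RelF4.zero38, RelF4.zero43, RelF4.zero29, RelF4.zero41, RelF4.zero44, RelF4.zero47, RelF4.zero39, RelF4.zero45, RelF4.zero35, RelF4.zero31, RelF4.zero40, RelF4.zero46, RelF4.zero37, RelF4.zero32, one_mul, mul_one]
  have p1 : Push (R.X30 1) (R.toRelF4.RNF1 (t) (0) (0) (0) (0) (0) (0) (0) (0) (0) (0) (0) (0) (0) (0) (0) (0) (0) (0) (0)) (R.toRelF4.RNF1 (t) (0) (0) (0) (0) (0) (0) (0) (0) (t ^ 2) (0) (0) (0) (0) (0) (0) (0) (0) (t) (0)) := by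
    unfold Push; rw [R.st30]; congr 2 <;> (first | rfl | (simp only [mul_zero, zero_mul, add_zero, zero_add, ne_eq, OfNat.ofNat_ne_zero, not_false_eq_true, zero_pow, one_pow, mul_one, one_mul, CharTwo.add_self_eq_zero]; done) | (simp only [mul_zero, zero_mul, add_zero, zero_add, ne_eq, OfNat.ofNat_ne_zero, not_false_eq_true, zero_pow, one_pow, mul_one, one_mul, CharTwo.add_self_eq_zero]; (first | rfl | ring1 | (rw [← sub_eq_zero]; ring_nf; simp only [h2, h4, h6, h8, h10, h12, h14, h16, h18, h20, h22, h24, h26, h28, h30, h32, mul_zero, zero_mul, add_zero, zero_add, neg_zero, sub_zero, sub_self]))) | (first | rfl | ring1 | (rw [← sub_eq_zero]; ring_nf; simp only [h2, h4, h6, h8, h10, h12, h14, h16, h18, h20, h22, h24, h26, h28, h30, h32, mul_zero, zero_mul, add_zero, zero_add, neg_zero, sub_zero, sub_self])))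
  have p2 : Push (R.X28 1) (R.toRelF4.RNF1 (t) (0) (0) (0) (0) (0) (0) (0) (0) (t ^ 2) (0) (0) (0) (0) (0) (0) (0) (0) (t) (0)) (R.toRelF4.RNF1 (t) (0) (0) (0) (0) (0) (0) (0) (0) (t ^ 2) (0) (0) (0) (0) (t) (0) (0) (0) (t) (0)) := by
    unfold Push; rw [R.st28]; congr 2 <;> (first | rfl | (simp only [mul_zero, zero_mul, add_zero, zero_add, ne_eq, OfNat.ofNat_ne_zero, not_false_eq_true, zero_pow, one_pow, mul_one, one_mul, CharTwo.add_self_eq_zero]; done) | (simp only [mul_zero, zero_mul, add_zero, zero_add, ne_eq, OfNat.ofNat_ne_zero, not_false_eq_true, zero_pow, one_pow, mul_one, one_mul, CharTwo.add_self_eq_zero]; (first | rfl | ring1 | (rw [← sub_eq_zero]; ring_nf; simp only [h2, h4, h6, h8, h10, h12, h14, h16, h18, h20, h22, h24, h26, h28, h30, h32, mul_zero, zero_mul, add_zero, zero_add, neg_zero, sub_zero, sub_self]))) | (first | rfl | ring1 | (rw [← sub_eq_zero]; ring_nf; simp only [h2, h4, h6, h8, h10, h12, h14, h16, h18, h20, h22, h24, h26, h28, h30, h32,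 mul_zero, zero_mul, add_zero, zero_add, neg_zero, sub_zero, sub_self])))
  have p3 : Push (R.X19 1) (R.toRelF4.RNF1 (t) (0) (0) (0) (0) (0) (0) (0) (0) (t ^ 2) (0) (0) (0) (0) (t) (0) (0) (0) (t) (0)) (R.toRelF4.RNF1 (0) (0) (t) (0) (0) (0) (0) (0) (0) (t ^ 2) (0) (0) (0) (0) (t) (0) (0) (0) (t) (0)) := by
    unfold Push; rw [R.st19]; congr 2 <;> (first | rfl | (simp only [mul_zero, zero_mul, add_zero, zero_add, ne_eq, OfNat.ofNat_ne_zero, not_false_eq_true, zero_pow, one_pow, mul_one, one_mul, CharTwo.add_self_eq_zero]; done) | (simp only [mul_zero, zero_mul, add_zero, zero_add, ne_eq, OfNat.ofNat_ne_zero, not_false_eq_true, zero_pow, one_pow, mul_one, one_mul, CharTwo.add_self_eq_zero]; (first | rfl | ring1 | (rw [← sub_eq_zero]; ring_nf; simp only [h2, h4, h6, h8, h10, h12, h14, h16, h18, h20, h22, h24, h26, h28, h30, h32, mul_zero, zero_mul, add_zero, zero_add, neg_zero, sub_zero, sub_self]))) | (first | rfl | ring1 | (rw [← sub_eq_zero]; ring_nf; simp only [h2,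 h4, h6, h8, h10, h12, h14, h16, h18, h20, h22, h24, h26, h28, h30, h32, mul_zero, zero_mul, add_zero, zero_add, neg_zero, sub_zero, sub_self])))
  have p4 : Push (R.X22 1) (R.toRelF4.RNF1 (0) (0) (t) (0) (0) (0) (0) (0) (0) (t ^ 2) (0) (0) (0) (0) (t) (0) (0) (0) (t) (0)) (R.toRelF4.RNF1 (0) (0) (0) (0) (0) (0) (0) (0) (0) (0) (0) (0) (0) (0) (t) (0) (0) (0) (t) (0)) := by
    unfold Push; rw [R.st22]; congr 2 <;> (first | rfl | (simp only [mul_zero, zero_mul, add_zero, zero_add, ne_eq, OfNat.ofNat_ne_zero, not_false_eq_true, zero_pow, one_pow, mul_one, one_mul, CharTwo.add_self_eq_zero]; done) | (simp only [mul_zero, zero_mul, add_zero, zero_add, ne_eq, OfNat.ofNat_ne_zero, not_false_eq_true, zero_pow, one_pow, mul_one, one_mul, CharTwo.add_self_eq_zero]; (first | rfl | ring1 | (rw [← sub_eq_zero]; ring_nf; simp only [h2, h4, h6, h8, h10, h12, h14, h16, h18, h20, h22, h24, h26, h28, h30, h32, mul_zero, zero_mul, add_zero, zero_add, neg_zero, sub_zero, sub_self])))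 | (first | rfl | ring1 | (rw [← sub_eq_zero]; ring_nf; simp only [h2, h4, h6, h8, h10, h12, h14, h16, h18, h20, h22, h24, h26, h28, h30, h32, mul_zero, zero_mul, add_zero, zero_add, neg_zero, sub_zero, sub_self])))
  have p5 : Push (R.X20 1) (R.toRelF4.RNF1 (0) (0) (0) (0) (0) (0) (0) (0) (0) (0) (0) (0) (0) (0) (t) (0) (0) (0) (t) (0)) (R.toRelF4.RNF1 (0) (0) (0) (0) (0) (0) (0) (0) (0) (0) (0) (0) (0) (0) (0) (0) (0) (0) (t) (0)) := by
    unfold Push; rw [R.st20]; congr 2 <;> (first | rfl | (simp only [mul_zero, zero_mul, add_zero, zero_add, ne_eq, OfNat.ofNat_ne_zero, not_false_eq_true, zero_pow, one_pow, mul_one, one_mul, CharTwo.add_self_eq_zero]; done) | (simp only [mul_zero, zero_mul, add_zero, zero_add, ne_eq, OfNat.ofNat_ne_zero, not_false_eq_true, zero_pow, one_pow, mul_one, one_mul, CharTwo.add_self_eq_zero]; (first | rfl | ring1 | (rw [← sub_eq_zero]; ring_nf; simp only [h2, h4, h6, h8, h10, h12, h14, h16, h18, h20, h22, h24, h26, h28, h30, h32, mul_zero,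 zero_mul, add_zero, zero_add, neg_zero, sub_zero, sub_self]))) | (first | rfl | ring1 | (rw [← sub_eq_zero]; ring_nf; simp only [h2, h4, h6, h8, h10, h12, h14, h16, h18, h20, h22, h24, h26, h28, h30, h32, mul_zero, zero_mul, add_zero, zero_add, neg_zero, sub_zero, sub_self])))
  have p6 : Push (R.X27 1) (R.toRelF4.RNF1 (0) (0) (0) (0) (0) (0) (0) (0) (0) (0) (0) (0) (0) (0) (0) (0) (0) (0) (t) (0)) (R.toRelF4.RNF1 (0) (0) (0) (0) (0) (0) (0) (0) (0) (0) (0) (0) (0) (0) (0) (0) (0) (0) (t) (0)) := by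
    unfold Push; rw [R.st27]; congr 2 <;> (first | rfl | (simp only [mul_zero, zero_mul, add_zero, zero_add, ne_eq, OfNat.ofNat_ne_zero, not_false_eq_true, zero_pow, one_pow, mul_one, one_mul, CharTwo.add_self_eq_zero]; done) | (simp only [mul_zero, zero_mul, add_zero, zero_add, ne_eq, OfNat.ofNat_ne_zero, not_false_eq_true, zero_pow, one_pow, mul_one, one_mul, CharTwo.add_self_eq_zero]; (first | rfl | ring1 | (rw [← sub_eq_zero]; ring_nf; simp only [h2, h4, h6, h8, h10, h12, h14, h16, h18, h20, h22, h24, h26, h28, h30, h32, mul_zero, zero_mul, add_zero, zero_add, neg_zero, sub_zero, sub_self]))) | (first | rfl | ring1 | (rw [← sub_eq_zero]; ring_nf; simp only [h2, h4, h6, h8, h10, h12, h14, h16, h18, h20, h22, h24, h26, h28, h30, h32, mul_zero, zero_mul, add_zero, zero_add, neg_zero, sub_zero, sub_self])))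
  have p7 : Push (R.X25 1) (R.toRelF4.RNF1 (0) (0) (0) (0) (0) (0) (0) (0) (0) (0) (0) (0) (0) (0) (0) (0) (0) (0) (t) (0)) (R.toRelF4.RNF1 (0) (0) (0) (0) (0) (0) (0) (0) (0) (0) (0) (0) (0) (0) (0) (0) (0) (0) (t) (0)) := by
    unfold Push; rw [R.st25]; congr 2 <;> (first | rfl | (simp only [mul_zero, zero_mul, add_zero, zero_add, ne_eq, OfNat.ofNat_ne_zero, not_false_eq_true, zero_pow, one_pow, mul_one, one_mul, CharTwo.add_self_eq_zero]; done) | (simp only [mul_zero, zero_mul, add_zero, zero_add, ne_eq, OfNat.ofNat_ne_zero, not_false_eq_true, zero_pow, one_pow, mul_one, one_mul, CharTwo.add_self_eq_zero]; (first | rfl | ring1 | (rw [← sub_eq_zero]; ring_nf; simp only [h2, h4, h6, h8, h10, h12, h14, h16, h18, h20, h22, h24, h26, h28, h30, h32, mul_zero, zero_mul, add_zero, zero_add, neg_zero, sub_zero, sub_self]))) | (first | rfl | ring1 | (rw [← sub_eq_zero]; ring_nf; simp only [h2, h4, h6, h8, h10, h12, h14, h16, h18, h20, h22, h24, h26, h28, h30, h32, mul_zero,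 zero_mul, add_zero, zero_add, neg_zero, sub_zero, sub_self])))
  have p8 : Push (R.X28 1) (R.toRelF4.RNF1 (0) (0) (0) (0) (0) (0) (0) (0) (0) (0) (0) (0) (0) (0) (0) (0) (0) (0) (t) (0)) (R.toRelF4.RNF1 (0) (0) (0) (0) (0) (0) (0) (0) (0) (0) (0) (0) (0) (0) (0) (0) (0) (0) (t) (0)) := by
    unfold Push; rw [R.st28]; congr 2 <;> (first | rfl | (simp only [mul_zero, zero_mul, add_zero, zero_add, ne_eq, OfNat.ofNat_ne_zero, not_false_eq_true, zero_pow, one_pow, mul_one, one_mul, CharTwo.add_self_eq_zero]; done) | (simp only [mul_zero, zero_mul, add_zero, zero_add, ne_eq, OfNat.ofNat_ne_zero, not_false_eq_true, zero_pow, one_pow, mul_one, one_mul, CharTwo.add_self_eq_zero]; (first | rfl | ring1 | (rw [← sub_eq_zero]; ring_nf; simp only [h2, h4, h6, h8, h10, h12, h14, h16, h18, h20, h22, h24, h26, h28, h30, h32, mul_zero, zero_mul, add_zero, zero_add, neg_zero, sub_zero, sub_self]))) | (first | rfl | ring1 | (rw [← sub_eq_zero]; ring_nf; simp only [h2, h4, h6, h8, h10,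 h12, h14, h16, h18, h20, h22, h24, h26, h28, h30, h32, mul_zero, zero_mul, add_zero, zero_add, neg_zero, sub_zero, sub_self])))
  have p := (((((((p1).comp p2).comp p3).comp p4).comp p5).comp p6).comp p7).comp p8
  have hc := Push.conj (g := R.n8) (by unfold n8; simpa only [mul_assoc] using p)
  exact (congrArg (fun y => R.n8 * y * (R.n8)⁻¹) e0).trans (hc.trans e9.symm)

theorem n8_24 (t : K) : R.n8 * R.X24 t * (R.n8)⁻¹ = R.X32 t := by
  have h2 : (2 : K) = 0 := CharTwo.two_eq_zero
  have h4 : (4 : K) = 0 := by linear_combination 2 * h2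
  have h6 : (6 : K) = 0 := by linear_combination 3 * h2
  have h8 : (8 : K) = 0 := by linear_combination 4 * h2
  have h10 : (10 : K) = 0 := by linear_combination 5 * h2
  have h12 : (12 : K) = 0 := by linear_combination 6 * h2
  have h14 : (14 : K) = 0 := by linear_combination 7 * h2
  have h16 : (16 : K) = 0 := by linear_combination 8 * h2
  have h18 : (18 : K) = 0 := by linear_combination 9 * h2
  have h20 : (20 : K) = 0 := by linear_combination 10 * h2
  have h22 : (22 : K) = 0 := by linear_combination 11 * h2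
  have h24 : (24 : K) = 0 := by linear_combination 12 * h2
  have h26 : (26 : K) = 0 := by linear_combination 13 * h2
  have h28 : (28 : K) = 0 := by linear_combination 14 * h2
  have h30 : (30 : K) = 0 := by linear_combination 15 * h2
  have h32 : (32 : K) = 0 := by linear_combination 16 * h2
  have e0 : R.X24 t = R.toRelF4.RNF1 (0) (t) (0) (0) (0) (0) (0) (0) (0) (0) (0) (0) (0) (0) (0) (0) (0) (0) (0) (0) := by
    unfold RelF4.RNF1; simp only [RelF4.zero33, RelF4.zero24, RelF4.zero34, RelF4.zero26, RelF4.zero36, RelF4.zero42, RelF4.zero38, RelF4.zero43, RelF4.zero29, RelF4.zero41, RelF4.zero44, RelF4.zero47, RelF4.zero39, RelF4.zero45, RelF4.zero35, RelF4.zero31, RelF4.zero40, RelF4.zero46, RelF4.zero37, RelF4.zero32, one_mul, mul_one]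
  have e9 : R.X32 t = R.toRelF4.RNF1 (0) (0) (0) (0) (0) (0) (0) (0) (0) (0) (0) (0) (0) (0) (0) (0) (0) (0) (0) (t) := by
    unfold RelF4.RNF1; simp only [RelF4.zero33, RelF4.zero24, RelF4.zero34, RelF4.zero26, RelF4.zero36, RelF4.zero42, RelF4.zero38, RelF4.zero43, RelF4.zero29, RelF4.zero41, RelF4.zero44, RelF4.zero47, RelF4.zero39, RelF4.zero45, RelF4.zero35, RelF4.zero31, RelF4.zero40, RelF4.zero46, RelF4.zero37, RelF4.zero32, one_mul, mul_one]
  have p1 : Push (R.X30 1) (R.toRelF4.RNF1 (0) (t) (0) (0) (0) (0) (0) (0) (0) (0) (0) (0) (0) (0) (0) (0) (0) (0) (0) (0)) (R.toRelF4.RNF1 (0) (t) (0) (0) (0) (0) (0) (0) (0) (0) (0) (0) (0) (0) (0) (t) (0) (0) (0) (0)) := by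
    unfold Push; rw [R.st30]; congr 2 <;> (first | rfl | (simp only [mul_zero, zero_mul, add_zero, zero_add, ne_eq, OfNat.ofNat_ne_zero, not_false_eq_true, zero_pow, one_pow, mul_one, one_mul, CharTwo.add_self_eq_zero]; done) | (simp only [mul_zero, zero_mul, add_zero, zero_add, ne_eq, OfNat.ofNat_ne_zero, not_false_eq_true, zero_pow, one_pow, mul_one, one_mul, CharTwo.add_self_eq_zero]; (first | rfl | ring1 | (rw [← sub_eq_zero]; ring_nf; simp only [h2, h4, h6, h8, h10, h12, h14, h16, h18, h20, h22, h24, h26, h28, h30, h32, mul_zero, zero_mul, add_zero, zero_add, neg_zero, sub_zero, sub_self]))) | (first | rfl | ring1 | (rw [← sub_eq_zero]; ring_nf; simp only [h2, h4, h6, h8, h10, h12, h14, h16, h18, h20, h22, h24, h26, h28, h30, h32, mul_zero, zero_mul, add_zero, zero_add, neg_zero, sub_zero, sub_self])))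
  have p2 : Push (R.X28 1) (R.toRelF4.RNF1 (0) (t) (0) (0) (0) (0) (0) (0) (0) (0) (0) (0) (0) (0) (0) (t) (0) (0) (0) (0)) (R.toRelF4.RNF1 (0) (t) (0) (0) (0) (0) (0) (0) (t) (0) (0) (0) (0) (0) (0) (t) (0) (0) (0) (t)) := by
    unfold Push; rw [R.st28]; congr 2 <;> (first | rfl | (simp only [mul_zero, zero_mul, add_zero, zero_add, ne_eq, OfNat.ofNat_ne_zero, not_false_eq_true, zero_pow, one_pow, mul_one, one_mul, CharTwo.add_self_eq_zero]; done) | (simp only [mul_zero, zero_mul, add_zero, zero_add, ne_eq, OfNat.ofNat_ne_zero, not_false_eq_true, zero_pow, one_pow, mul_one, one_mul, CharTwo.add_self_eq_zero]; (first | rfl | ring1 | (rw [← sub_eq_zero]; ring_nf; simp only [h2, h4, h6, h8, h10, h12, h14, h16, h18, h20, h22, h24, h26, h28, h30, h32, mul_zero, zero_mul, add_zero, zero_add, neg_zero, sub_zero, sub_self]))) | (first | rfl | ring1 | (rw [← sub_eq_zero]; ring_nf; simp only [h2, h4, h6, h8, h10, h12, h14, h16, h18, h20, h22, h24, h26, h28, h30, h32, mul_zero,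 zero_mul, add_zero, zero_add, neg_zero, sub_zero, sub_self])))
  have p3 : Push (R.X19 1) (R.toRelF4.RNF1 (0) (t) (0) (0) (0) (0) (0) (0) (t) (0) (0) (0) (0) (0) (0) (t) (0) (0) (0) (t)) (R.toRelF4.RNF1 (0) (0) (0) (0) (0) (0) (0) (0) (0) (0) (0) (0) (0) (0) (0) (t) (0) (0) (0) (t)) := by
    unfold Push; rw [R.st19]; congr 2 <;> (first | rfl | (simp only [mul_zero, zero_mul, add_zero, zero_add, ne_eq, OfNat.ofNat_ne_zero, not_false_eq_true, zero_pow, one_pow, mul_one, one_mul, CharTwo.add_self_eq_zero]; done) | (simp only [mul_zero, zero_mul, add_zero, zero_add, ne_eq, OfNat.ofNat_ne_zero, not_false_eq_true, zero_pow, one_pow, mul_one, one_mul, CharTwo.add_self_eq_zero]; (first | rfl | ring1 | (rw [← sub_eq_zero]; ring_nf; simp only [h2, h4, h6, h8, h10, h12, h14, h16, h18, h20, h22, h24, h26, h28, h30, h32, mul_zero, zero_mul, add_zero, zero_add, neg_zero, sub_zero, sub_self]))) | (first | rfl | ring1 | (rw [← sub_eq_zero]; ring_nf; simp only [h2, h4, h6, h8, h10,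 h12, h14, h16, h18, h20, h22, h24, h26, h28, h30, h32, mul_zero, zero_mul, add_zero, zero_add, neg_zero, sub_zero, sub_self])))
  have p4 : Push (R.X22 1) (R.toRelF4.RNF1 (0) (0) (0) (0) (0) (0) (0) (0) (0) (0) (0) (0) (0) (0) (0) (t) (0) (0) (0) (t)) (R.toRelF4.RNF1 (0) (0) (0) (0) (0) (0) (0) (0) (0) (0) (0) (0) (0) (0) (0) (0) (0) (0) (0) (t)) := by
    unfold Push; rw [R.st22]; congr 2 <;> (first | rfl | (simp only [mul_zero, zero_mul, add_zero, zero_add, ne_eq, OfNat.ofNat_ne_zero, not_false_eq_true, zero_pow, one_pow, mul_one, one_mul, CharTwo.add_self_eq_zero]; done) | (simp only [mul_zero, zero_mul, add_zero, zero_add, ne_eq, OfNat.ofNat_ne_zero, not_false_eq_true, zero_pow, one_pow, mul_one, one_mul, CharTwo.add_self_eq_zero]; (first | rfl | ring1 | (rw [← sub_eq_zero]; ring_nf; simp only [h2, h4, h6, h8, h10, h12, h14, h16, h18, h20, h22, h24, h26, h28, h30, h32, mul_zero, zero_mul, add_zero, zero_add, neg_zero, sub_zero, sub_self]))) | (first | rfl | ring1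 | (rw [← sub_eq_zero]; ring_nf; simp only [h2, h4, h6, h8, h10, h12, h14, h16, h18, h20, h22, h24, h26, h28, h30, h32, mul_zero, zero_mul, add_zero, zero_add, neg_zero, sub_zero, sub_self])))
  have p5 : Push (R.X20 1) (R.toRelF4.RNF1 (0) (0) (0) (0) (0) (0) (0) (0) (0) (0) (0) (0) (0) (0) (0) (0) (0) (0) (0) (t)) (R.toRelF4.RNF1 (0) (0) (0) (0) (0) (0) (0) (0) (0) (0) (0) (0) (0) (0) (0) (0) (0) (0) (0) (t)) := by
    unfold Push; rw [R.st20]; congr 2 <;> (first | rfl | (simp only [mul_zero, zero_mul, add_zero, zero_add, ne_eq, OfNat.ofNat_ne_zero, not_false_eq_true, zero_pow, one_pow, mul_one, one_mul, CharTwo.add_self_eq_zero]; done) | (simp only [mul_zero, zero_mul, add_zero, zero_add, ne_eq, OfNat.ofNat_ne_zero, not_false_eq_true, zero_pow, one_pow, mul_one, one_mul, CharTwo.add_self_eq_zero]; (first | rfl | ring1 | (rw [← sub_eq_zero]; ring_nf; simp only [h2, h4, h6, h8, h10, h12, h14, h16, h18, h20, h22, h24, h26, h28, h30, h32, mul_zero, zero_mul, add_zero,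 zero_add, neg_zero, sub_zero, sub_self]))) | (first | rfl | ring1 | (rw [← sub_eq_zero]; ring_nf; simp only [h2, h4, h6, h8, h10, h12, h14, h16, h18, h20, h22, h24, h26, h28, h30, h32, mul_zero, zero_mul, add_zero, zero_add, neg_zero, sub_zero, sub_self])))
  have p6 : Push (R.X27 1) (R.toRelF4.RNF1 (0) (0) (0) (0) (0) (0) (0) (0) (0) (0) (0) (0) (0) (0) (0) (0) (0) (0) (0) (t)) (R.toRelF4.RNF1 (0) (0) (0) (0) (0) (0) (0) (0) (0) (0) (0) (0) (0) (0) (0) (0) (0) (0) (0) (t)) := by
    unfold Push; rw [R.st27]; congr 2 <;> (first | rfl | (simp only [mul_zero, zero_mul, add_zero, zero_add, ne_eq, OfNat.ofNat_ne_zero, not_false_eq_true, zero_pow, one_pow, mul_one, one_mul, CharTwo.add_self_eq_zero]; done) | (simp only [mul_zero, zero_mul, add_zero, zero_add, ne_eq, OfNat.ofNat_ne_zero, not_false_eq_true, zero_pow, one_pow, mul_one, one_mul, CharTwo.add_self_eq_zero]; (first | rfl | ring1 | (rw [← sub_eq_zero]; ring_nf; simp only [h2, h4, h6, h8, h10, h12, h14, h16, h18,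 h20, h22, h24, h26, h28, h30, h32, mul_zero, zero_mul, add_zero, zero_add, neg_zero, sub_zero, sub_self]))) | (first | rfl | ring1 | (rw [← sub_eq_zero]; ring_nf; simp only [h2, h4, h6, h8, h10, h12, h14, h16, h18, h20, h22, h24, h26, h28, h30, h32, mul_zero, zero_mul, add_zero, zero_add, neg_zero, sub_zero, sub_self])))
  have p7 : Push (R.X25 1) (R.toRelF4.RNF1 (0) (0) (0) (0) (0) (0) (0) (0) (0) (0) (0) (0) (0) (0) (0) (0) (0) (0) (0) (t)) (R.toRelF4.RNF1 (0) (0) (0) (0) (0) (0) (0) (0) (0) (0) (0) (0) (0) (0) (0) (0) (0) (0) (0) (t)) := by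
    unfold Push; rw [R.st25]; congr 2 <;> (first | rfl | (simp only [mul_zero, zero_mul, add_zero, zero_add, ne_eq, OfNat.ofNat_ne_zero, not_false_eq_true, zero_pow, one_pow, mul_one, one_mul, CharTwo.add_self_eq_zero]; done) | (simp only [mul_zero, zero_mul, add_zero, zero_add, ne_eq, OfNat.ofNat_ne_zero, not_false_eq_true, zero_pow, one_pow, mul_one, one_mul, CharTwo.add_self_eq_zero]; (first | rfl | ring1 | (rw [← sub_eq_zero]; ring_nf; simp only [h2, h4, h6, h8, h10, h12, h14, h16, h18, h20, h22, h24, h26, h28, h30, h32, mul_zero, zero_mul, add_zero, zero_add, neg_zero, sub_zero, sub_self]))) | (first | rfl | ring1 | (rw [← sub_eq_zero]; ring_nf; simp only [h2, h4, h6, h8, h10, h12, h14, h16, h18, h20, h22, h24, h26, h28, h30, h32, mul_zero, zero_mul, add_zero, zero_add, neg_zero, sub_zero, sub_self])))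
  have p8 : Push (R.X28 1) (R.toRelF4.RNF1 (0) (0) (0) (0) (0) (0) (0) (0) (0) (0) (0) (0) (0) (0) (0) (0) (0) (0) (0) (t)) (R.toRelF4.RNF1 (0) (0) (0) (0) (0) (0) (0) (0) (0) (0) (0) (0) (0) (0) (0) (0) (0) (0) (0) (t)) := by
    unfold Push; rw [R.st28]; congr 2 <;> (first | rfl | (simp only [mul_zero, zero_mul, add_zero, zero_add, ne_eq, OfNat.ofNat_ne_zero, not_false_eq_true, zero_pow, one_pow, mul_one, one_mul, CharTwo.add_self_eq_zero]; done) | (simp only [mul_zero, zero_mul, add_zero, zero_add, ne_eq, OfNat.ofNat_ne_zero, not_false_eq_true, zero_pow, one_pow, mul_one, one_mul, CharTwo.add_self_eq_zero]; (first | rfl | ring1 | (rw [← sub_eq_zero]; ring_nf; simp only [h2, h4, h6, h8, h10, h12, h14, h16, h18, h20, h22, h24, h26, h28, h30, h32, mul_zero, zero_mul, add_zero, zero_add, neg_zero, sub_zero, sub_self]))) | (first | rfl | ring1 | (rw [← sub_eq_zero]; ring_nf; simp only [h2, h4, h6, h8, h10, h12, h14, h16, h18, h20, h22, h24, h26, h28, h30, h32, mul_zero,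 zero_mul, add_zero, zero_add, neg_zero, sub_zero, sub_self])))
  have p := (((((((p1).comp p2).comp p3).comp p4).comp p5).comp p6).comp p7).comp p8
  have hc := Push.conj (g := R.n8) (by unfold n8; simpa only [mul_assoc] using p)
  exact (congrArg (fun y => R.n8 * y * (R.n8)⁻¹) e0).trans (hc.trans e9.symm)

theorem n8_34 (t : K) : R.n8 * R.X34 t * (R.n8)⁻¹ = R.X35 t := by
  have h2 : (2 : K) = 0 := CharTwo.two_eq_zero
  have h4 : (4 : K) = 0 := by linear_combination 2 * h2
  have h6 : (6 : K) = 0 := by linear_combination 3 * h2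
  have h8 : (8 : K) = 0 := by linear_combination 4 * h2
  have h10 : (10 : K) = 0 := by linear_combination 5 * h2
  have h12 : (12 : K) = 0 := by linear_combination 6 * h2
  have h14 : (14 : K) = 0 := by linear_combination 7 * h2
  have h16 : (16 : K) = 0 := by linear_combination 8 * h2
  have h18 : (18 : K) = 0 := by linear_combination 9 * h2
  have h20 : (20 : K) = 0 := by linear_combination 10 * h2
  have h22 : (22 : K) = 0 := by linear_combination 11 * h2
  have h24 : (24 : K) = 0 := by linear_combination 12 * h2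
  have h26 : (26 : K) = 0 := by linear_combination 13 * h2
  have h28 : (28 : K) = 0 := by linear_combination 14 * h2
  have h30 : (30 : K) = 0 := by linear_combination 15 * h2
  have h32 : (32 : K) = 0 := by linear_combination 16 * h2
  have e0 : R.X34 t = R.toRelF4.RNF1 (0) (0) (t) (0) (0) (0) (0) (0) (0) (0) (0) (0) (0) (0) (0) (0) (0) (0) (0) (0) := by
    unfold RelF4.RNF1; simp only [RelF4.zero33, RelF4.zero24, RelF4.zero34, RelF4.zero26, RelF4.zero36, RelF4.zero42, RelF4.zero38, RelF4.zero43, RelF4.zero29, RelF4.zero41, RelF4.zero44, RelF4.zero47, RelF4.zero39, RelF4.zero45, RelF4.zero35, RelF4.zero31, RelF4.zero40, RelF4.zero46, RelF4.zero37, RelF4.zero32, one_mul, mul_one]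
  have e9 : R.X35 t = R.toRelF4.RNF1 (0) (0) (0) (0) (0) (0) (0) (0) (0) (0) (0) (0) (0) (0) (t) (0) (0) (0) (0) (0) := by
    unfold RelF4.RNF1; simp only [RelF4.zero33, RelF4.zero24, RelF4.zero34, RelF4.zero26, RelF4.zero36, RelF4.zero42, RelF4.zero38, RelF4.zero43, RelF4.zero29, RelF4.zero41, RelF4.zero44, RelF4.zero47, RelF4.zero39, RelF4.zero45, RelF4.zero35, RelF4.zero31, RelF4.zero40, RelF4.zero46, RelF4.zero37, RelF4.zero32, one_mul, mul_one]
  have p1 : Push (R.X30 1) (R.toRelF4.RNF1 (0) (0) (t) (0) (0) (0) (0) (0) (0) (0) (0) (0) (0) (0) (0) (0) (0) (0) (0) (0)) (R.toRelF4.RNF1 (0) (0) (t) (0) (0) (0) (0) (0) (0) (0) (0) (0) (0) (0) (0) (0) (0) (0) (0) (0)) := by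
    unfold Push; rw [R.st30]; congr 2 <;> (first | rfl | (simp only [mul_zero, zero_mul, add_zero, zero_add, ne_eq, OfNat.ofNat_ne_zero, not_false_eq_true, zero_pow, one_pow, mul_one, one_mul, CharTwo.add_self_eq_zero]; done) | (simp only [mul_zero, zero_mul, add_zero, zero_add, ne_eq, OfNat.ofNat_ne_zero, not_false_eq_true, zero_pow, one_pow, mul_one, one_mul, CharTwo.add_self_eq_zero]; (first | rfl | ring1 | (rw [← sub_eq_zero]; ring_nf; simp only [h2, h4, h6, h8, h10, h12, h14, h16, h18, h20, h22, h24, h26, h28, h30, h32, mul_zero, zero_mul, add_zero, zero_add, neg_zero, sub_zero, sub_self]))) | (first | rfl | ring1 | (rw [← sub_eq_zero]; ring_nf; simp only [h2, h4, h6, h8, h10, h12, h14, h16, h18, h20, h22, h24, h26, h28, h30, h32, mul_zero, zero_mul, add_zero, zero_add, neg_zero, sub_zero, sub_self])))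
  have p2 : Push (R.X28 1) (R.toRelF4.RNF1 (0) (0) (t) (0) (0) (0) (0) (0) (0) (0) (0) (0) (0) (0) (0) (0) (0) (0) (0) (0)) (R.toRelF4.RNF1 (0) (0) (t) (0) (0) (0) (0) (0) (0) (0) (0) (0) (0) (0) (0) (0) (0) (0) (t) (0)) := by
    unfold Push; rw [R.st28]; congr 2 <;> (first | rfl | (simp only [mul_zero, zero_mul, add_zero, zero_add, ne_eq, OfNat.ofNat_ne_zero, not_false_eq_true, zero_pow, one_pow, mul_one, one_mul, CharTwo.add_self_eq_zero]; done) | (simp only [mul_zero, zero_mul, add_zero, zero_add, ne_eq, OfNat.ofNat_ne_zero, not_false_eq_true, zero_pow, one_pow, mul_one, one_mul, CharTwo.add_self_eq_zero]; (first | rfl | ring1 | (rw [← sub_eq_zero]; ring_nf; simp only [h2, h4, h6, h8, h10, h12, h14, h16, h18, h20, h22, h24, h26, h28, h30, h32, mul_zero, zero_mul, add_zero, zero_add, neg_zero, sub_zero, sub_self]))) | (first | rfl | ring1 | (rw [← sub_eq_zero]; ring_nf; simp only [h2, h4, h6, h8, h10, h12, h14, h16, h18, h20, h22, h24, h26, h28, h30, h32, mul_zero,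 zero_mul, add_zero, zero_add, neg_zero, sub_zero, sub_self])))
  have p3 : Push (R.X19 1) (R.toRelF4.RNF1 (0) (0) (t) (0) (0) (0) (0) (0) (0) (0) (0) (0) (0) (0) (0) (0) (0) (0) (t) (0)) (R.toRelF4.RNF1 (0) (0) (0) (0) (0) (0) (0) (0) (0) (0) (0) (0) (0) (0) (0) (0) (0) (0) (t) (0)) := by
    unfold Push; rw [R.st19]; congr 2 <;> (first | rfl | (simp only [mul_zero, zero_mul, add_zero, zero_add, ne_eq, OfNat.ofNat_ne_zero, not_false_eq_true, zero_pow, one_pow, mul_one, one_mul, CharTwo.add_self_eq_zero]; done) | (simp only [mul_zero, zero_mul, add_zero, zero_add, ne_eq, OfNat.ofNat_ne_zero, not_false_eq_true, zero_pow, one_pow, mul_one, one_mul, CharTwo.add_self_eq_zero]; (first | rfl | ring1 | (rw [← sub_eq_zero]; ring_nf; simp only [h2, h4, h6, h8, h10, h12, h14, h16, h18, h20, h22, h24, h26, h28, h30, h32, mul_zero, zero_mul, add_zero, zero_add, neg_zero, sub_zero, sub_self]))) | (first | rfl | ring1 | (rw [← sub_eq_zero]; ring_nf; simp only [h2, h4, h6, h8, h10,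 h12, h14, h16, h18, h20, h22, h24, h26, h28, h30, h32, mul_zero, zero_mul, add_zero, zero_add, neg_zero, sub_zero, sub_self])))
  have p4 : Push (R.X22 1) (R.toRelF4.RNF1 (0) (0) (0) (0) (0) (0) (0) (0) (0) (0) (0) (0) (0) (0) (0) (0) (0) (0) (t) (0)) (R.toRelF4.RNF1 (0) (0) (0) (0) (0) (0) (0) (0) (0) (0) (0) (0) (0) (0) (0) (0) (0) (0) (t) (0)) := by
    unfold Push; rw [R.st22]; congr 2 <;> (first | rfl | (simp only [mul_zero, zero_mul, add_zero, zero_add, ne_eq, OfNat.ofNat_ne_zero, not_false_eq_true, zero_pow, one_pow, mul_one, one_mul, CharTwo.add_self_eq_zero]; done) | (simp only [mul_zero, zero_mul, add_zero, zero_add, ne_eq, OfNat.ofNat_ne_zero, not_false_eq_true, zero_pow, one_pow, mul_one, one_mul, CharTwo.add_self_eq_zero]; (first | rfl | ring1 | (rw [← sub_eq_zero]; ring_nf; simp only [h2, h4, h6, h8, h10, h12, h14, h16, h18, h20, h22, h24, h26, h28, h30, h32, mul_zero, zero_mul, add_zero, zero_add, neg_zero, sub_zero, sub_self]))) | (first | rfl | ring1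 | (rw [← sub_eq_zero]; ring_nf; simp only [h2, h4, h6, h8, h10, h12, h14, h16, h18, h20, h22, h24, h26, h28, h30, h32, mul_zero, zero_mul, add_zero, zero_add, neg_zero, sub_zero, sub_self])))
  have p5 : Push (R.X20 1) (R.toRelF4.RNF1 (0) (0) (0) (0) (0) (0) (0) (0) (0) (0) (0) (0) (0) (0) (0) (0) (0) (0) (t) (0)) (R.toRelF4.RNF1 (0) (0) (0) (0) (0) (0) (0) (0) (0) (0) (0) (0) (0) (0) (t) (0) (0) (0) (t) (0)) := by
    unfold Push; rw [R.st20]; congr 2 <;> (first | rfl | (simp only [mul_zero, zero_mul, add_zero, zero_add, ne_eq, OfNat.ofNat_ne_zero, not_false_eq_true, zero_pow, one_pow, mul_one, one_mul, CharTwo.add_self_eq_zero]; done) | (simp only [mul_zero, zero_mul, add_zero, zero_add, ne_eq, OfNat.ofNat_ne_zero, not_false_eq_true, zero_pow, one_pow, mul_one, one_mul, CharTwo.add_self_eq_zero]; (first | rfl | ring1 | (rw [← sub_eq_zero]; ring_nf; simp only [h2, h4, h6, h8, h10, h12, h14, h16, h18, h20, h22, h24, h26, h28, h30, h32, mul_zero, zero_mul, add_zero,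 zero_add, neg_zero, sub_zero, sub_self]))) | (first | rfl | ring1 | (rw [← sub_eq_zero]; ring_nf; simp only [h2, h4, h6, h8, h10, h12, h14, h16, h18, h20, h22, h24, h26, h28, h30, h32, mul_zero, zero_mul, add_zero, zero_add, neg_zero, sub_zero, sub_self])))
  have p6 : Push (R.X27 1) (R.toRelF4.RNF1 (0) (0) (0) (0) (0) (0) (0) (0) (0) (0) (0) (0) (0) (0) (t) (0) (0) (0) (t) (0)) (R.toRelF4.RNF1 (0) (0) (0) (0) (0) (0) (0) (0) (0) (0) (0) (0) (0) (0) (t) (0) (0) (0) (0) (0)) := by
    unfold Push; rw [R.st27]; congr 2 <;> (first | rfl | (simp only [mul_zero, zero_mul, add_zero, zero_add, ne_eq, OfNat.ofNat_ne_zero, not_false_eq_true, zero_pow, one_pow, mul_one, one_mul, CharTwo.add_self_eq_zero]; done) | (simp only [mul_zero, zero_mul, add_zero, zero_add, ne_eq, OfNat.ofNat_ne_zero, not_false_eq_true, zero_pow, one_pow, mul_one, one_mul, CharTwo.add_self_eq_zero]; (first | rfl | ring1 | (rw [← sub_eq_zero]; ring_nf; simp only [h2, h4, h6, h8, h10, h12, h14, h16, h18,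 h20, h22, h24, h26, h28, h30, h32, mul_zero, zero_mul, add_zero, zero_add, neg_zero, sub_zero, sub_self]))) | (first | rfl | ring1 | (rw [← sub_eq_zero]; ring_nf; simp only [h2, h4, h6, h8, h10, h12, h14, h16, h18, h20, h22, h24, h26, h28, h30, h32, mul_zero, zero_mul, add_zero, zero_add, neg_zero, sub_zero, sub_self])))
  have p7 : Push (R.X25 1) (R.toRelF4.RNF1 (0) (0) (0) (0) (0) (0) (0) (0) (0) (0) (0) (0) (0) (0) (t) (0) (0) (0) (0) (0)) (R.toRelF4.RNF1 (0) (0) (0) (0) (0) (0) (0) (0) (0) (0) (0) (0) (0) (0) (t) (0) (0) (0) (0) (0)) := by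
    unfold Push; rw [R.st25]; congr 2 <;> (first | rfl | (simp only [mul_zero, zero_mul, add_zero, zero_add, ne_eq, OfNat.ofNat_ne_zero, not_false_eq_true, zero_pow, one_pow, mul_one, one_mul, CharTwo.add_self_eq_zero]; done) | (simp only [mul_zero, zero_mul, add_zero, zero_add, ne_eq, OfNat.ofNat_ne_zero, not_false_eq_true, zero_pow, one_pow, mul_one, one_mul, CharTwo.add_self_eq_zero]; (first | rfl | ring1 | (rw [← sub_eq_zero]; ring_nf; simp only [h2, h4, h6, h8, h10, h12, h14, h16, h18, h20, h22, h24, h26, h28, h30, h32, mul_zero, zero_mul, add_zero, zero_add, neg_zero, sub_zero, sub_self]))) | (first | rfl | ring1 | (rw [← sub_eq_zero]; ring_nf; simp only [h2, h4, h6, h8, h10, h12, h14, h16, h18, h20, h22, h24, h26, h28, h30, h32, mul_zero, zero_mul, add_zero, zero_add, neg_zero, sub_zero, sub_self])))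
  have p8 : Push (R.X28 1) (R.toRelF4.RNF1 (0) (0) (0) (0) (0) (0) (0) (0) (0) (0) (0) (0) (0) (0) (t) (0) (0) (0) (0) (0)) (R.toRelF4.RNF1 (0) (0) (0) (0) (0) (0) (0) (0) (0) (0) (0) (0) (0) (0) (t) (0) (0) (0) (0) (0)) := by
    unfold Push; rw [R.st28]; congr 2 <;> (first | rfl | (simp only [mul_zero, zero_mul, add_zero, zero_add, ne_eq, OfNat.ofNat_ne_zero, not_false_eq_true, zero_pow, one_pow, mul_one, one_mul, CharTwo.add_self_eq_zero]; done) | (simp only [mul_zero, zero_mul, add_zero, zero_add, ne_eq, OfNat.ofNat_ne_zero, not_false_eq_true, zero_pow, one_pow, mul_one, one_mul, CharTwo.add_self_eq_zero]; (first | rfl | ring1 | (rw [← sub_eq_zero]; ring_nf; simp only [h2, h4, h6, h8, h10, h12, h14, h16, h18, h20, h22, h24, h26, h28, h30, h32, mul_zero, zero_mul, add_zero, zero_add, neg_zero, sub_zero, sub_self]))) | (first | rfl | ring1 | (rw [← sub_eq_zero]; ring_nf; simp only [h2, h4, h6, h8, h10, h12, h14, h16, h18, h20, h22, h24, h26, h28, h30, h32, mul_zero,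 zero_mul, add_zero, zero_add, neg_zero, sub_zero, sub_self])))
  have p := (((((((p1).comp p2).comp p3).comp p4).comp p5).comp p6).comp p7).comp p8
  have hc := Push.conj (g := R.n8) (by unfold n8; simpa only [mul_assoc] using p)
  exact (congrArg (fun y => R.n8 * y * (R.n8)⁻¹) e0).trans (hc.trans e9.symm)

theorem n8_26 (t : K) : R.n8 * R.X26 t * (R.n8)⁻¹ = R.X31 t := by
  have h2 : (2 : K) = 0 := CharTwo.two_eq_zero
  have h4 : (4 : K) = 0 := by linear_combination 2 * h2
  have h6 : (6 : K) = 0 := by linear_combination 3 * h2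
  have h8 : (8 : K) = 0 := by linear_combination 4 * h2
  have h10 : (10 : K) = 0 := by linear_combination 5 * h2
  have h12 : (12 : K) = 0 := by linear_combination 6 * h2
  have h14 : (14 : K) = 0 := by linear_combination 7 * h2
  have h16 : (16 : K) = 0 := by linear_combination 8 * h2
  have h18 : (18 : K) = 0 := by linear_combination 9 * h2
  have h20 : (20 : K) = 0 := by linear_combination 10 * h2
  have h22 : (22 : K) = 0 := by linear_combination 11 * h2
  have h24 : (24 : K) = 0 := by linear_combination 12 * h2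
  have h26 : (26 : K) = 0 := by linear_combination 13 * h2
  have h28 : (28 : K) = 0 := by linear_combination 14 * h2
  have h30 : (30 : K) = 0 := by linear_combination 15 * h2
  have h32 : (32 : K) = 0 := by linear_combination 16 * h2
  have e0 : R.X26 t = R.toRelF4.RNF1 (0) (0) (0) (t) (0) (0) (0) (0) (0) (0) (0) (0) (0) (0) (0) (0) (0) (0) (0) (0) := by
    unfold RelF4.RNF1; simp only [RelF4.zero33, RelF4.zero24, RelF4.zero34, RelF4.zero26, RelF4.zero36, RelF4.zero42, RelF4.zero38, RelF4.zero43, RelF4.zero29, RelF4.zero41, RelF4.zero44, RelF4.zero47, RelF4.zero39, RelF4.zero45, RelF4.zero35, RelF4.zero31, RelF4.zero40, RelF4.zero46, RelF4.zero37, RelF4.zero32, one_mul, mul_one]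
  have e9 : R.X31 t = R.toRelF4.RNF1 (0) (0) (0) (0) (0) (0) (0) (0) (0) (0) (0) (0) (0) (0) (0) (t) (0) (0) (0) (0) := by
    unfold RelF4.RNF1; simp only [RelF4.zero33, RelF4.zero24, RelF4.zero34, RelF4.zero26, RelF4.zero36, RelF4.zero42, RelF4.zero38, RelF4.zero43, RelF4.zero29, RelF4.zero41, RelF4.zero44, RelF4.zero47, RelF4.zero39, RelF4.zero45, RelF4.zero35, RelF4.zero31, RelF4.zero40, RelF4.zero46, RelF4.zero37, RelF4.zero32, one_mul, mul_one]
  have p1 : Push (R.X30 1) (R.toRelF4.RNF1 (0) (0) (0) (t) (0) (0) (0) (0) (0) (0) (0) (0) (0) (0) (0) (0) (0) (0) (0) (0)) (R.toRelF4.RNF1 (0) (0) (0) (t) (0) (0) (0) (0) (0) (0) (0) (0) (0) (0) (0) (0) (0) (0) (0) (t)) := by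
    unfold Push; rw [R.st30]; congr 2 <;> (first | rfl | (simp only [mul_zero, zero_mul, add_zero, zero_add, ne_eq, OfNat.ofNat_ne_zero, not_false_eq_true, zero_pow, one_pow, mul_one, one_mul, CharTwo.add_self_eq_zero]; done) | (simp only [mul_zero, zero_mul, add_zero, zero_add, ne_eq, OfNat.ofNat_ne_zero, not_false_eq_true, zero_pow, one_pow, mul_one, one_mul, CharTwo.add_self_eq_zero]; (first | rfl | ring1 | (rw [← sub_eq_zero]; ring_nf; simp only [h2, h4, h6, h8, h10, h12, h14, h16, h18, h20, h22, h24, h26, h28, h30, h32, mul_zero, zero_mul, add_zero, zero_add, neg_zero, sub_zero, sub_self]))) | (first | rfl | ring1 | (rw [← sub_eq_zero]; ring_nf; simp only [h2, h4, h6, h8, h10, h12, h14, h16, h18, h20, h22, h24, h26, h28, h30, h32, mul_zero, zero_mul, add_zero, zero_add, neg_zero, sub_zero, sub_self])))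
  have p2 : Push (R.X28 1) (R.toRelF4.RNF1 (0) (0) (0) (t) (0) (0) (0) (0) (0) (0) (0) (0) (0) (0) (0) (0) (0) (0) (0) (t)) (R.toRelF4.RNF1 (0) (0) (0) (t) (0) (0) (0) (0) (0) (0) (0) (0) (0) (0) (0) (0) (0) (0) (0) (t)) := by
    unfold Push; rw [R.st28]; congr 2 <;> (first | rfl | (simp only [mul_zero, zero_mul, add_zero, zero_add, ne_eq, OfNat.ofNat_ne_zero, not_false_eq_true, zero_pow, one_pow, mul_one, one_mul, CharTwo.add_self_eq_zero]; done) | (simp only [mul_zero, zero_mul, add_zero, zero_add, ne_eq, OfNat.ofNat_ne_zero, not_false_eq_true, zero_pow, one_pow, mul_one, one_mul, CharTwo.add_self_eq_zero]; (first | rfl | ring1 | (rw [← sub_eq_zero]; ring_nf; simp only [h2, h4, h6, h8, h10, h12, h14, h16, h18, h20, h22, h24, h26, h28, h30, h32, mul_zero, zero_mul, add_zero, zero_add, neg_zero, sub_zero, sub_self]))) | (first | rfl | ring1 | (rw [← sub_eq_zero]; ring_nf; simp only [h2, h4, h6, h8, h10, h12, h14, h16, h18, h20, h22, h24, h26, h28, h30, h32, mul_zero,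 zero_mul, add_zero, zero_add, neg_zero, sub_zero, sub_self])))
  have p3 : Push (R.X19 1) (R.toRelF4.RNF1 (0) (0) (0) (t) (0) (0) (0) (0) (0) (0) (0) (0) (0) (0) (0) (0) (0) (0) (0) (t)) (R.toRelF4.RNF1 (0) (t) (0) (t) (0) (0) (0) (0) (t) (0) (0) (0) (0) (0) (0) (0) (0) (0) (0) (t)) := by
    unfold Push; rw [R.st19]; congr 2 <;> (first | rfl | (simp only [mul_zero, zero_mul, add_zero, zero_add, ne_eq, OfNat.ofNat_ne_zero, not_false_eq_true, zero_pow, one_pow, mul_one, one_mul, CharTwo.add_self_eq_zero]; done) | (simp only [mul_zero, zero_mul, add_zero, zero_add, ne_eq, OfNat.ofNat_ne_zero, not_false_eq_true, zero_pow, one_pow, mul_one, one_mul, CharTwo.add_self_eq_zero]; (first | rfl | ring1 | (rw [← sub_eq_zero]; ring_nf; simp only [h2, h4, h6, h8, h10, h12, h14, h16, h18, h20, h22, h24, h26, h28, h30, h32, mul_zero, zero_mul, add_zero, zero_add, neg_zero, sub_zero, sub_self]))) | (first | rfl | ring1 | (rw [← sub_eq_zero]; ring_nf; simp only [h2, h4, h6, h8, h10,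 h12, h14, h16, h18, h20, h22, h24, h26, h28, h30, h32, mul_zero, zero_mul, add_zero, zero_add, neg_zero, sub_zero, sub_self])))
  have p4 : Push (R.X22 1) (R.toRelF4.RNF1 (0) (t) (0) (t) (0) (0) (0) (0) (t) (0) (0) (0) (0) (0) (0) (0) (0) (0) (0) (t)) (R.toRelF4.RNF1 (0) (0) (0) (t) (0) (0) (0) (0) (t) (0) (0) (0) (0) (0) (0) (t) (0) (0) (0) (t)) := by
    unfold Push; rw [R.st22]; congr 2 <;> (first | rfl | (simp only [mul_zero, zero_mul, add_zero, zero_add, ne_eq, OfNat.ofNat_ne_zero, not_false_eq_true, zero_pow, one_pow, mul_one, one_mul, CharTwo.add_self_eq_zero]; done) | (simp only [mul_zero, zero_mul, add_zero, zero_add, ne_eq, OfNat.ofNat_ne_zero, not_false_eq_true, zero_pow, one_pow, mul_one, one_mul, CharTwo.add_self_eq_zero]; (first | rfl | ring1 | (rw [← sub_eq_zero]; ring_nf; simp only [h2, h4, h6, h8, h10, h12, h14, h16, h18, h20, h22, h24, h26, h28, h30, h32, mul_zero, zero_mul, add_zero, zero_add, neg_zero, sub_zero, sub_self]))) | (first | rfl | ring1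 | (rw [← sub_eq_zero]; ring_nf; simp only [h2, h4, h6, h8, h10, h12, h14, h16, h18, h20, h22, h24, h26, h28, h30, h32, mul_zero, zero_mul, add_zero, zero_add, neg_zero, sub_zero, sub_self])))
  have p5 : Push (R.X20 1) (R.toRelF4.RNF1 (0) (0) (0) (t) (0) (0) (0) (0) (t) (0) (0) (0) (0) (0) (0) (t) (0) (0) (0) (t)) (R.toRelF4.RNF1 (0) (0) (0) (0) (0) (0) (0) (0) (0) (0) (0) (0) (0) (0) (0) (t) (0) (0) (0) (t)) := by
    unfold Push; rw [R.st20]; congr 2 <;> (first | rfl | (simp only [mul_zero, zero_mul, add_zero, zero_add, ne_eq, OfNat.ofNat_ne_zero, not_false_eq_true, zero_pow, one_pow, mul_one, one_mul, CharTwo.add_self_eq_zero]; done) | (simp only [mul_zero, zero_mul, add_zero, zero_add, ne_eq, OfNat.ofNat_ne_zero, not_false_eq_true, zero_pow, one_pow, mul_one, one_mul, CharTwo.add_self_eq_zero]; (first | rfl | ring1 | (rw [← sub_eq_zero]; ring_nf; simp only [h2, h4, h6, h8, h10, h12, h14, h16, h18, h20, h22, h24, h26, h28, h30, h32, mul_zero, zero_mul, add_zero,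 zero_add, neg_zero, sub_zero, sub_self]))) | (first | rfl | ring1 | (rw [← sub_eq_zero]; ring_nf; simp only [h2, h4, h6, h8, h10, h12, h14, h16, h18, h20, h22, h24, h26, h28, h30, h32, mul_zero, zero_mul, add_zero, zero_add, neg_zero, sub_zero, sub_self])))
  have p6 : Push (R.X27 1) (R.toRelF4.RNF1 (0) (0) (0) (0) (0) (0) (0) (0) (0) (0) (0) (0) (0) (0) (0) (t) (0) (0) (0) (t)) (R.toRelF4.RNF1 (0) (0) (0) (0) (0) (0) (0) (0) (0) (0) (0) (0) (0) (0) (0) (t) (0) (0) (0) (t)) := by
    unfold Push; rw [R.st27]; congr 2 <;> (first | rfl | (simp only [mul_zero, zero_mul, add_zero, zero_add, ne_eq, OfNat.ofNat_ne_zero, not_false_eq_true, zero_pow, one_pow, mul_one, one_mul, CharTwo.add_self_eq_zero]; done) | (simp only [mul_zero, zero_mul, add_zero, zero_add, ne_eq, OfNat.ofNat_ne_zero, not_false_eq_true, zero_pow, one_pow, mul_one, one_mul, CharTwo.add_self_eq_zero]; (first | rfl | ring1 | (rw [← sub_eq_zero]; ring_nf; simp only [h2, h4, h6, h8, h10, h12, h14, h16, h18,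 h20, h22, h24, h26, h28, h30, h32, mul_zero, zero_mul, add_zero, zero_add, neg_zero, sub_zero, sub_self]))) | (first | rfl | ring1 | (rw [← sub_eq_zero]; ring_nf; simp only [h2, h4, h6, h8, h10, h12, h14, h16, h18, h20, h22, h24, h26, h28, h30, h32, mul_zero, zero_mul, add_zero, zero_add, neg_zero, sub_zero, sub_self])))
  have p7 : Push (R.X25 1) (R.toRelF4.RNF1 (0) (0) (0) (0) (0) (0) (0) (0) (0) (0) (0) (0) (0) (0) (0) (t) (0) (0) (0) (t)) (R.toRelF4.RNF1 (0) (0) (0) (0) (0) (0) (0) (0) (0) (0) (0) (0) (0) (0) (0) (t) (0) (0) (0) (0)) := by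
    unfold Push; rw [R.st25]; congr 2 <;> (first | rfl | (simp only [mul_zero, zero_mul, add_zero, zero_add, ne_eq, OfNat.ofNat_ne_zero, not_false_eq_true, zero_pow, one_pow, mul_one, one_mul, CharTwo.add_self_eq_zero]; done) | (simp only [mul_zero, zero_mul, add_zero, zero_add, ne_eq, OfNat.ofNat_ne_zero, not_false_eq_true, zero_pow, one_pow, mul_one, one_mul, CharTwo.add_self_eq_zero]; (first | rfl | ring1 | (rw [← sub_eq_zero]; ring_nf; simp only [h2, h4, h6, h8, h10, h12, h14, h16, h18, h20, h22, h24, h26, h28, h30, h32, mul_zero, zero_mul, add_zero, zero_add, neg_zero, sub_zero, sub_self]))) | (first | rfl | ring1 | (rw [← sub_eq_zero]; ring_nf; simp only [h2, h4, h6, h8, h10, h12, h14, h16, h18, h20, h22, h24, h26, h28, h30, h32, mul_zero, zero_mul, add_zero, zero_add, neg_zero, sub_zero, sub_self])))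
  have p8 : Push (R.X28 1) (R.toRelF4.RNF1 (0) (0) (0) (0) (0) (0) (0) (0) (0) (0) (0) (0) (0) (0) (0) (t) (0) (0) (0) (0)) (R.toRelF4.RNF1 (0) (0) (0) (0) (0) (0) (0) (0) (0) (0) (0) (0) (0) (0) (0) (t) (0) (0) (0) (0)) := by
    unfold Push; rw [R.st28]; congr 2 <;> (first | rfl | (simp only [mul_zero, zero_mul, add_zero, zero_add, ne_eq, OfNat.ofNat_ne_zero, not_false_eq_true, zero_pow, one_pow, mul_one, one_mul, CharTwo.add_self_eq_zero]; done) | (simp only [mul_zero, zero_mul, add_zero, zero_add, ne_eq, OfNat.ofNat_ne_zero, not_false_eq_true, zero_pow, one_pow, mul_one, one_mul, CharTwo.add_self_eq_zero]; (first | rfl | ring1 | (rw [← sub_eq_zero]; ring_nf; simp only [h2, h4, h6, h8, h10, h12, h14, h16, h18, h20, h22, h24, h26, h28, h30, h32, mul_zero, zero_mul, add_zero, zero_add, neg_zero, sub_zero, sub_self]))) | (first | rfl | ring1 | (rw [← sub_eq_zero]; ring_nf; simp only [h2, h4, h6, h8, h10, h12, h14, h16, h18, h20, h22, h24, h26, h28, h30, h32, mul_zero,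 zero_mul, add_zero, zero_add, neg_zero, sub_zero, sub_self])))
  have p := (((((((p1).comp p2).comp p3).comp p4).comp p5).comp p6).comp p7).comp p8
  have hc := Push.conj (g := R.n8) (by unfold n8; simpa only [mul_assoc] using p)
  exact (congrArg (fun y => R.n8 * y * (R.n8)⁻¹) e0).trans (hc.trans e9.symm)

theorem n8_36 (t : K) : R.n8 * R.X36 t * (R.n8)⁻¹ = R.X40 t := by
  have h2 : (2 : K) = 0 := CharTwo.two_eq_zero
  have h4 : (4 : K) = 0 := by linear_combination 2 * h2
  have h6 : (6 : K) = 0 := by linear_combination 3 * h2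
  have h8 : (8 : K) = 0 := by linear_combination 4 * h2
  have h10 : (10 : K) = 0 := by linear_combination 5 * h2
  have h12 : (12 : K) = 0 := by linear_combination 6 * h2
  have h14 : (14 : K) = 0 := by linear_combination 7 * h2
  have h16 : (16 : K) = 0 := by linear_combination 8 * h2
  have h18 : (18 : K) = 0 := by linear_combination 9 * h2
  have h20 : (20 : K) = 0 := by linear_combination 10 * h2
  have h22 : (22 : K) = 0 := by linear_combination 11 * h2
  have h24 : (24 : K) = 0 := by linear_combination 12 * h2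
  have h26 : (26 : K) = 0 := by linear_combination 13 * h2
  have h28 : (28 : K) = 0 := by linear_combination 14 * h2
  have h30 : (30 : K) = 0 := by linear_combination 15 * h2
  have h32 : (32 : K) = 0 := by linear_combination 16 * h2
  have e0 : R.X36 t = R.toRelF4.RNF1 (0) (0) (0) (0) (t) (0) (0) (0) (0) (0) (0) (0) (0) (0) (0) (0) (0) (0) (0) (0) := by
    unfold RelF4.RNF1; simp only [RelF4.zero33, RelF4.zero24, RelF4.zero34, RelF4.zero26, RelF4.zero36, RelF4.zero42, RelF4.zero38, RelF4.zero43, RelF4.zero29, RelF4.zero41, RelF4.zero44, RelF4.zero47, RelF4.zero39, RelF4.zero45, RelF4.zero35, RelF4.zero31, RelF4.zero40, RelF4.zero46, RelF4.zero37, RelF4.zero32, one_mul, mul_one]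
  have e9 : R.X40 t = R.toRelF4.RNF1 (0) (0) (0) (0) (0) (0) (0) (0) (0) (0) (0) (0) (0) (0) (0) (0) (t) (0) (0) (0) := by
    unfold RelF4.RNF1; simp only [RelF4.zero33, RelF4.zero24, RelF4.zero34, RelF4.zero26, RelF4.zero36, RelF4.zero42, RelF4.zero38, RelF4.zero43, RelF4.zero29, RelF4.zero41, RelF4.zero44, RelF4.zero47, RelF4.zero39, RelF4.zero45, RelF4.zero35, RelF4.zero31, RelF4.zero40, RelF4.zero46, RelF4.zero37, RelF4.zero32, one_mul, mul_one]
  have p1 : Push (R.X30 1) (R.toRelF4.RNF1 (0) (0) (0) (0) (t) (0) (0) (0) (0) (0) (0) (0) (0) (0) (0) (0) (0) (0) (0) (0)) (R.toRelF4.RNF1 (0) (0) (0) (0) (t) (0) (0) (0) (0) (0) (0) (t ^ 2) (0) (0) (0) (0) (t) (0) (0) (0)) := by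
    unfold Push; rw [R.st30]; congr 2 <;> (first | rfl | (simp only [mul_zero, zero_mul, add_zero, zero_add, ne_eq, OfNat.ofNat_ne_zero, not_false_eq_true, zero_pow, one_pow, mul_one, one_mul, CharTwo.add_self_eq_zero]; done) | (simp only [mul_zero, zero_mul, add_zero, zero_add, ne_eq, OfNat.ofNat_ne_zero, not_false_eq_true, zero_pow, one_pow, mul_one, one_mul, CharTwo.add_self_eq_zero]; (first | rfl | ring1 | (rw [← sub_eq_zero]; ring_nf; simp only [h2, h4, h6, h8, h10, h12, h14, h16, h18, h20, h22, h24, h26, h28, h30, h32, mul_zero, zero_mul, add_zero, zero_add, neg_zero, sub_zero, sub_self]))) | (first | rfl | ring1 | (rw [← sub_eq_zero]; ring_nf; simp only [h2, h4, h6, h8, h10, h12, h14, h16, h18, h20, h22, h24, h26, h28, h30, h32, mul_zero, zero_mul, add_zero, zero_add, neg_zero, sub_zero, sub_self])))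
  have p2 : Push (R.X28 1) (R.toRelF4.RNF1 (0) (0) (0) (0) (t) (0) (0) (0) (0) (0) (0) (t ^ 2) (0) (0) (0) (0) (t) (0) (0) (0)) (R.toRelF4.RNF1 (0) (0) (0) (0) (t) (0) (0) (0) (0) (0) (0) (t ^ 2) (t) (0) (0) (0) (t) (0) (0) (0)) := by
    unfold Push; rw [R.st28]; congr 2 <;> (first | rfl | (simp only [mul_zero, zero_mul, add_zero, zero_add, ne_eq, OfNat.ofNat_ne_zero, not_false_eq_true, zero_pow, one_pow, mul_one, one_mul, CharTwo.add_self_eq_zero]; done) | (simp only [mul_zero, zero_mul, add_zero, zero_add, ne_eq, OfNat.ofNat_ne_zero, not_false_eq_true, zero_pow, one_pow, mul_one, one_mul, CharTwo.add_self_eq_zero]; (first | rfl | ring1 | (rw [← sub_eq_zero]; ring_nf; simp only [h2, h4, h6, h8, h10, h12, h14, h16, h18, h20, h22, h24, h26, h28, h30, h32, mul_zero, zero_mul, add_zero, zero_add, neg_zero, sub_zero, sub_self]))) | (first | rfl | ring1 | (rw [← sub_eq_zero]; ring_nf; simp only [h2, h4, h6, h8, h10, h12, h14, h16, h18, h20, h22, h24, h26, h28, h30, h32,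 mul_zero, zero_mul, add_zero, zero_add, neg_zero, sub_zero, sub_self])))
  have p3 : Push (R.X19 1) (R.toRelF4.RNF1 (0) (0) (0) (0) (t) (0) (0) (0) (0) (0) (0) (t ^ 2) (t) (0) (0) (0) (t) (0) (0) (0)) (R.toRelF4.RNF1 (0) (0) (0) (0) (0) (0) (t) (0) (0) (0) (0) (t ^ 2) (t) (0) (0) (0) (t) (0) (0) (0)) := by
    unfold Push; rw [R.st19]; congr 2 <;> (first | rfl | (simp only [mul_zero, zero_mul, add_zero, zero_add, ne_eq, OfNat.ofNat_ne_zero, not_false_eq_true, zero_pow, one_pow, mul_one, one_mul, CharTwo.add_self_eq_zero]; done) | (simp only [mul_zero, zero_mul, add_zero, zero_add, ne_eq, OfNat.ofNat_ne_zero, not_false_eq_true, zero_pow, one_pow, mul_one, one_mul, CharTwo.add_self_eq_zero]; (first | rfl | ring1 | (rw [← sub_eq_zero]; ring_nf; simp only [h2, h4, h6, h8, h10, h12, h14, h16, h18, h20, h22, h24, h26, h28, h30, h32, mul_zero, zero_mul, add_zero, zero_add, neg_zero, sub_zero, sub_self]))) | (first | rfl | ring1 | (rw [← sub_eq_zero]; ring_nf; simp only [h2,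 h4, h6, h8, h10, h12, h14, h16, h18, h20, h22, h24, h26, h28, h30, h32, mul_zero, zero_mul, add_zero, zero_add, neg_zero, sub_zero, sub_self])))
  have p4 : Push (R.X22 1) (R.toRelF4.RNF1 (0) (0) (0) (0) (0) (0) (t) (0) (0) (0) (0) (t ^ 2) (t) (0) (0) (0) (t) (0) (0) (0)) (R.toRelF4.RNF1 (0) (0) (0) (0) (0) (0) (0) (0) (0) (0) (0) (0) (t) (0) (0) (0) (t) (0) (0) (0)) := by
    unfold Push; rw [R.st22]; congr 2 <;> (first | rfl | (simp only [mul_zero, zero_mul, add_zero, zero_add, ne_eq, OfNat.ofNat_ne_zero, not_false_eq_true, zero_pow, one_pow, mul_one, one_mul, CharTwo.add_self_eq_zero]; done) | (simp only [mul_zero, zero_mul, add_zero, zero_add, ne_eq, OfNat.ofNat_ne_zero, not_false_eq_true, zero_pow, one_pow, mul_one, one_mul, CharTwo.add_self_eq_zero]; (first | rfl | ring1 | (rw [← sub_eq_zero]; ring_nf; simp only [h2, h4, h6, h8, h10, h12, h14, h16, h18, h20, h22, h24, h26, h28, h30, h32, mul_zero, zero_mul, add_zero, zero_add, neg_zero, sub_zero, sub_self])))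 | (first | rfl | ring1 | (rw [← sub_eq_zero]; ring_nf; simp only [h2, h4, h6, h8, h10, h12, h14, h16, h18, h20, h22, h24, h26, h28, h30, h32, mul_zero, zero_mul, add_zero, zero_add, neg_zero, sub_zero, sub_self])))
  have p5 : Push (R.X20 1) (R.toRelF4.RNF1 (0) (0) (0) (0) (0) (0) (0) (0) (0) (0) (0) (0) (t) (0) (0) (0) (t) (0) (0) (0)) (R.toRelF4.RNF1 (0) (0) (0) (0) (0) (0) (0) (0) (0) (0) (0) (0) (0) (0) (0) (0) (t) (0) (0) (0)) := by
    unfold Push; rw [R.st20]; congr 2 <;> (first | rfl | (simp only [mul_zero, zero_mul, add_zero, zero_add, ne_eq, OfNat.ofNat_ne_zero, not_false_eq_true, zero_pow, one_pow, mul_one, one_mul, CharTwo.add_self_eq_zero]; done) | (simp only [mul_zero, zero_mul, add_zero, zero_add, ne_eq, OfNat.ofNat_ne_zero, not_false_eq_true, zero_pow, one_pow, mul_one, one_mul, CharTwo.add_self_eq_zero]; (first | rfl | ring1 | (rw [← sub_eq_zero]; ring_nf; simp only [h2, h4, h6, h8, h10, h12, h14, h16, h18, h20, h22, h24, h26, h28, h30, h32, mul_zero,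 zero_mul, add_zero, zero_add, neg_zero, sub_zero, sub_self]))) | (first | rfl | ring1 | (rw [← sub_eq_zero]; ring_nf; simp only [h2, h4, h6, h8, h10, h12, h14, h16, h18, h20, h22, h24, h26, h28, h30, h32, mul_zero, zero_mul, add_zero, zero_add, neg_zero, sub_zero, sub_self])))
  have p6 : Push (R.X27 1) (R.toRelF4.RNF1 (0) (0) (0) (0) (0) (0) (0) (0) (0) (0) (0) (0) (0) (0) (0) (0) (t) (0) (0) (0)) (R.toRelF4.RNF1 (0) (0) (0) (0) (0) (0) (0) (0) (0) (0) (0) (0) (0) (0) (0) (0) (t) (0) (0) (0)) := by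
    unfold Push; rw [R.st27]; congr 2 <;> (first | rfl | (simp only [mul_zero, zero_mul, add_zero, zero_add, ne_eq, OfNat.ofNat_ne_zero, not_false_eq_true, zero_pow, one_pow, mul_one, one_mul, CharTwo.add_self_eq_zero]; done) | (simp only [mul_zero, zero_mul, add_zero, zero_add, ne_eq, OfNat.ofNat_ne_zero, not_false_eq_true, zero_pow, one_pow, mul_one, one_mul, CharTwo.add_self_eq_zero]; (first | rfl | ring1 | (rw [← sub_eq_zero]; ring_nf; simp only [h2, h4, h6, h8, h10, h12, h14, h16, h18, h20, h22, h24, h26, h28, h30, h32, mul_zero, zero_mul, add_zero, zero_add, neg_zero, sub_zero, sub_self]))) | (first | rfl | ring1 | (rw [← sub_eq_zero]; ring_nf; simp only [h2, h4, h6, h8, h10, h12, h14, h16, h18, h20, h22, h24, h26, h28, h30, h32, mul_zero, zero_mul, add_zero, zero_add, neg_zero, sub_zero, sub_self])))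
  have p7 : Push (R.X25 1) (R.toRelF4.RNF1 (0) (0) (0) (0) (0) (0) (0) (0) (0) (0) (0) (0) (0) (0) (0) (0) (t) (0) (0) (0)) (R.toRelF4.RNF1 (0) (0) (0) (0) (0) (0) (0) (0) (0) (0) (0) (0) (0) (0) (0) (0) (t) (0) (0) (0)) := by
    unfold Push; rw [R.st25]; congr 2 <;> (first | rfl | (simp only [mul_zero, zero_mul, add_zero, zero_add, ne_eq, OfNat.ofNat_ne_zero, not_false_eq_true, zero_pow, one_pow, mul_one, one_mul, CharTwo.add_self_eq_zero]; done) | (simp only [mul_zero, zero_mul, add_zero, zero_add, ne_eq, OfNat.ofNat_ne_zero, not_false_eq_true, zero_pow, one_pow, mul_one, one_mul, CharTwo.add_self_eq_zero]; (first | rfl | ring1 | (rw [← sub_eq_zero]; ring_nf; simp only [h2, h4, h6, h8, h10, h12, h14, h16, h18, h20, h22, h24, h26, h28, h30, h32, mul_zero, zero_mul, add_zero, zero_add, neg_zero, sub_zero, sub_self]))) | (first | rfl | ring1 | (rw [← sub_eq_zero]; ring_nf; simp only [h2, h4, h6, h8, h10, h12, h14, h16, h18, h20, h22, h24, h26, h28, h30, h32, mul_zero,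 zero_mul, add_zero, zero_add, neg_zero, sub_zero, sub_self])))
  have p8 : Push (R.X28 1) (R.toRelF4.RNF1 (0) (0) (0) (0) (0) (0) (0) (0) (0) (0) (0) (0) (0) (0) (0) (0) (t) (0) (0) (0)) (R.toRelF4.RNF1 (0) (0) (0) (0) (0) (0) (0) (0) (0) (0) (0) (0) (0) (0) (0) (0) (t) (0) (0) (0)) := by
    unfold Push; rw [R.st28]; congr 2 <;> (first | rfl | (simp only [mul_zero, zero_mul, add_zero, zero_add, ne_eq, OfNat.ofNat_ne_zero, not_false_eq_true, zero_pow, one_pow, mul_one, one_mul, CharTwo.add_self_eq_zero]; done) | (simp only [mul_zero, zero_mul, add_zero, zero_add, ne_eq, OfNat.ofNat_ne_zero, not_false_eq_true, zero_pow, one_pow, mul_one, one_mul, CharTwo.add_self_eq_zero]; (first | rfl | ring1 | (rw [← sub_eq_zero]; ring_nf; simp only [h2, h4, h6, h8, h10, h12, h14, h16, h18, h20, h22, h24, h26, h28, h30, h32, mul_zero, zero_mul, add_zero, zero_add, neg_zero, sub_zero, sub_self]))) | (first | rfl | ring1 | (rw [← sub_eq_zero]; ring_nf; simp only [h2, h4, h6, h8, h10,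 h12, h14, h16, h18, h20, h22, h24, h26, h28, h30, h32, mul_zero, zero_mul, add_zero, zero_add, neg_zero, sub_zero, sub_self])))
  have p := (((((((p1).comp p2).comp p3).comp p4).comp p5).comp p6).comp p7).comp p8
  have hc := Push.conj (g := R.n8) (by unfold n8; simpa only [mul_assoc] using p)
  exact (congrArg (fun y => R.n8 * y * (R.n8)⁻¹) e0).trans (hc.trans e9.symm)

theorem n8_42 (t : K) : R.n8 * R.X42 t * (R.n8)⁻¹ = R.X46 t := by
  have h2 : (2 : K) = 0 := CharTwo.two_eq_zero
  have h4 : (4 : K) = 0 := by linear_combination 2 * h2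
  have h6 : (6 : K) = 0 := by linear_combination 3 * h2
  have h8 : (8 : K) = 0 := by linear_combination 4 * h2
  have h10 : (10 : K) = 0 := by linear_combination 5 * h2
  have h12 : (12 : K) = 0 := by linear_combination 6 * h2
  have h14 : (14 : K) = 0 := by linear_combination 7 * h2
  have h16 : (16 : K) = 0 := by linear_combination 8 * h2
  have h18 : (18 : K) = 0 := by linear_combination 9 * h2
  have h20 : (20 : K) = 0 := by linear_combination 10 * h2
  have h22 : (22 : K) = 0 := by linear_combination 11 * h2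
  have h24 : (24 : K) = 0 := by linear_combination 12 * h2
  have h26 : (26 : K) = 0 := by linear_combination 13 * h2
  have h28 : (28 : K) = 0 := by linear_combination 14 * h2
  have h30 : (30 : K) = 0 := by linear_combination 15 * h2
  have h32 : (32 : K) = 0 := by linear_combination 16 * h2
  have e0 : R.X42 t = R.toRelF4.RNF1 (0) (0) (0) (0) (0) (t) (0) (0) (0) (0) (0) (0) (0) (0) (0) (0) (0) (0) (0) (0) := by
    unfold RelF4.RNF1; simp only [RelF4.zero33, RelF4.zero24, RelF4.zero34, RelF4.zero26, RelF4.zero36, RelF4.zero42, RelF4.zero38, RelF4.zero43, RelF4.zero29, RelF4.zero41, RelF4.zero44, RelF4.zero47, RelF4.zero39, RelF4.zero45, RelF4.zero35, RelF4.zero31, RelF4.zero40, RelF4.zero46, RelF4.zero37, RelF4.zero32, one_mul, mul_one]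
  have e9 : R.X46 t = R.toRelF4.RNF1 (0) (0) (0) (0) (0) (0) (0) (0) (0) (0) (0) (0) (0) (0) (0) (0) (0) (t) (0) (0) := by
    unfold RelF4.RNF1; simp only [RelF4.zero33, RelF4.zero24, RelF4.zero34, RelF4.zero26, RelF4.zero36, RelF4.zero42, RelF4.zero38, RelF4.zero43, RelF4.zero29, RelF4.zero41, RelF4.zero44, RelF4.zero47, RelF4.zero39, RelF4.zero45, RelF4.zero35, RelF4.zero31, RelF4.zero40, RelF4.zero46, RelF4.zero37, RelF4.zero32, one_mul, mul_one]
  have p1 : Push (R.X30 1) (R.toRelF4.RNF1 (0) (0) (0) (0) (0) (t) (0) (0) (0) (0) (0) (0) (0) (0) (0) (0) (0) (0) (0) (0)) (R.toRelF4.RNF1 (0) (0) (0) (0) (0) (t) (0) (0) (0) (0) (0) (0) (0) (t) (0) (0) (0) (0) (0) (0)) := by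
    unfold Push; rw [R.st30]; congr 2 <;> (first | rfl | (simp only [mul_zero, zero_mul, add_zero, zero_add, ne_eq, OfNat.ofNat_ne_zero, not_false_eq_true, zero_pow, one_pow, mul_one, one_mul, CharTwo.add_self_eq_zero]; done) | (simp only [mul_zero, zero_mul, add_zero, zero_add, ne_eq, OfNat.ofNat_ne_zero, not_false_eq_true, zero_pow, one_pow, mul_one, one_mul, CharTwo.add_self_eq_zero]; (first | rfl | ring1 | (rw [← sub_eq_zero]; ring_nf; simp only [h2, h4, h6, h8, h10, h12, h14, h16, h18, h20, h22, h24, h26, h28, h30, h32, mul_zero, zero_mul, add_zero, zero_add, neg_zero, sub_zero, sub_self]))) | (first | rfl | ring1 | (rw [← sub_eq_zero]; ring_nf; simp only [h2, h4, h6, h8, h10, h12, h14, h16, h18, h20, h22, h24, h26, h28, h30, h32, mul_zero, zero_mul, add_zero, zero_add, neg_zero, sub_zero, sub_self])))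
  have p2 : Push (R.X28 1) (R.toRelF4.RNF1 (0) (0) (0) (0) (0) (t) (0) (0) (0) (0) (0) (0) (0) (t) (0) (0) (0) (0) (0) (0)) (R.toRelF4.RNF1 (0) (0) (0) (0) (0) (t) (0) (0) (0) (0) (t) (0) (0) (t) (0) (0) (0) (t) (0) (0)) := by
    unfold Push; rw [R.st28]; congr 2 <;> (first | rfl | (simp only [mul_zero, zero_mul, add_zero, zero_add, ne_eq, OfNat.ofNat_ne_zero, not_false_eq_true, zero_pow, one_pow, mul_one, one_mul, CharTwo.add_self_eq_zero]; done) | (simp only [mul_zero, zero_mul, add_zero, zero_add, ne_eq, OfNat.ofNat_ne_zero, not_false_eq_true, zero_pow, one_pow, mul_one, one_mul, CharTwo.add_self_eq_zero]; (first | rfl | ring1 | (rw [← sub_eq_zero]; ring_nf; simp only [h2, h4, h6, h8, h10, h12, h14, h16, h18, h20, h22, h24, h26, h28, h30, h32, mul_zero, zero_mul, add_zero, zero_add, neg_zero, sub_zero, sub_self]))) | (first | rfl | ring1 | (rw [← sub_eq_zero]; ring_nf; simp only [h2, h4, h6, h8, h10, h12, h14, h16, h18, h20, h22, h24, h26, h28, h30, h32, mul_zero,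 zero_mul, add_zero, zero_add, neg_zero, sub_zero, sub_self])))
  have p3 : Push (R.X19 1) (R.toRelF4.RNF1 (0) (0) (0) (0) (0) (t) (0) (0) (0) (0) (t) (0) (0) (t) (0) (0) (0) (t) (0) (0)) (R.toRelF4.RNF1 (0) (0) (0) (0) (0) (0) (0) (0) (0) (0) (0) (0) (0) (t) (0) (0) (0) (t) (0) (0)) := by
    unfold Push; rw [R.st19]; congr 2 <;> (first | rfl | (simp only [mul_zero, zero_mul, add_zero, zero_add, ne_eq, OfNat.ofNat_ne_zero, not_false_eq_true, zero_pow, one_pow, mul_one, one_mul, CharTwo.add_self_eq_zero]; done) | (simp only [mul_zero, zero_mul, add_zero, zero_add, ne_eq, OfNat.ofNat_ne_zero, not_false_eq_true, zero_pow, one_pow, mul_one, one_mul, CharTwo.add_self_eq_zero]; (first | rfl | ring1 | (rw [← sub_eq_zero]; ring_nf; simp only [h2, h4, h6, h8, h10, h12, h14, h16, h18, h20, h22, h24, h26, h28, h30, h32, mul_zero, zero_mul, add_zero, zero_add, neg_zero, sub_zero, sub_self]))) | (first | rfl | ring1 | (rw [← sub_eq_zero]; ring_nf; simp only [h2, h4, h6, h8, h10,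 h12, h14, h16, h18, h20, h22, h24, h26, h28, h30, h32, mul_zero, zero_mul, add_zero, zero_add, neg_zero, sub_zero, sub_self])))
  have p4 : Push (R.X22 1) (R.toRelF4.RNF1 (0) (0) (0) (0) (0) (0) (0) (0) (0) (0) (0) (0) (0) (t) (0) (0) (0) (t) (0) (0)) (R.toRelF4.RNF1 (0) (0) (0) (0) (0) (0) (0) (0) (0) (0) (0) (0) (0) (0) (0) (0) (0) (t) (0) (0)) := by
    unfold Push; rw [R.st22]; congr 2 <;> (first | rfl | (simp only [mul_zero, zero_mul, add_zero, zero_add, ne_eq, OfNat.ofNat_ne_zero, not_false_eq_true, zero_pow, one_pow, mul_one, one_mul, CharTwo.add_self_eq_zero]; done) | (simp only [mul_zero, zero_mul, add_zero, zero_add, ne_eq, OfNat.ofNat_ne_zero, not_false_eq_true, zero_pow, one_pow, mul_one, one_mul, CharTwo.add_self_eq_zero]; (first | rfl | ring1 | (rw [← sub_eq_zero]; ring_nf; simp only [h2, h4, h6, h8, h10, h12, h14, h16, h18, h20, h22, h24, h26, h28, h30, h32, mul_zero, zero_mul, add_zero, zero_add, neg_zero, sub_zero, sub_self]))) | (first | rfl | ring1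 | (rw [← sub_eq_zero]; ring_nf; simp only [h2, h4, h6, h8, h10, h12, h14, h16, h18, h20, h22, h24, h26, h28, h30, h32, mul_zero, zero_mul, add_zero, zero_add, neg_zero, sub_zero, sub_self])))
  have p5 : Push (R.X20 1) (R.toRelF4.RNF1 (0) (0) (0) (0) (0) (0) (0) (0) (0) (0) (0) (0) (0) (0) (0) (0) (0) (t) (0) (0)) (R.toRelF4.RNF1 (0) (0) (0) (0) (0) (0) (0) (0) (0) (0) (0) (0) (0) (0) (0) (0) (0) (t) (0) (0)) := by
    unfold Push; rw [R.st20]; congr 2 <;> (first | rfl | (simp only [mul_zero, zero_mul, add_zero, zero_add, ne_eq, OfNat.ofNat_ne_zero, not_false_eq_true, zero_pow, one_pow, mul_one, one_mul, CharTwo.add_self_eq_zero]; done) | (simp only [mul_zero, zero_mul, add_zero, zero_add, ne_eq, OfNat.ofNat_ne_zero, not_false_eq_true, zero_pow, one_pow, mul_one, one_mul, CharTwo.add_self_eq_zero]; (first | rfl | ring1 | (rw [← sub_eq_zero]; ring_nf; simp only [h2, h4, h6, h8, h10, h12, h14, h16, h18, h20, h22, h24, h26, h28, h30, h32, mul_zero, zero_mul, add_zero,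 zero_add, neg_zero, sub_zero, sub_self]))) | (first | rfl | ring1 | (rw [← sub_eq_zero]; ring_nf; simp only [h2, h4, h6, h8, h10, h12, h14, h16, h18, h20, h22, h24, h26, h28, h30, h32, mul_zero, zero_mul, add_zero, zero_add, neg_zero, sub_zero, sub_self])))
  have p6 : Push (R.X27 1) (R.toRelF4.RNF1 (0) (0) (0) (0) (0) (0) (0) (0) (0) (0) (0) (0) (0) (0) (0) (0) (0) (t) (0) (0)) (R.toRelF4.RNF1 (0) (0) (0) (0) (0) (0) (0) (0) (0) (0) (0) (0) (0) (0) (0) (0) (0) (t) (0) (0)) := by
    unfold Push; rw [R.st27]; congr 2 <;> (first | rfl | (simp only [mul_zero, zero_mul, add_zero, zero_add, ne_eq, OfNat.ofNat_ne_zero, not_false_eq_true, zero_pow, one_pow, mul_one, one_mul, CharTwo.add_self_eq_zero]; done) | (simp only [mul_zero, zero_mul, add_zero, zero_add, ne_eq, OfNat.ofNat_ne_zero, not_false_eq_true, zero_pow, one_pow, mul_one, one_mul, CharTwo.add_self_eq_zero]; (first | rfl | ring1 | (rw [← sub_eq_zero]; ring_nf; simp only [h2, h4, h6, h8, h10, h12, h14, h16, h18,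 h20, h22, h24, h26, h28, h30, h32, mul_zero, zero_mul, add_zero, zero_add, neg_zero, sub_zero, sub_self]))) | (first | rfl | ring1 | (rw [← sub_eq_zero]; ring_nf; simp only [h2, h4, h6, h8, h10, h12, h14, h16, h18, h20, h22, h24, h26, h28, h30, h32, mul_zero, zero_mul, add_zero, zero_add, neg_zero, sub_zero, sub_self])))
  have p7 : Push (R.X25 1) (R.toRelF4.RNF1 (0) (0) (0) (0) (0) (0) (0) (0) (0) (0) (0) (0) (0) (0) (0) (0) (0) (t) (0) (0)) (R.toRelF4.RNF1 (0) (0) (0) (0) (0) (0) (0) (0) (0) (0) (0) (0) (0) (0) (0) (0) (0) (t) (0) (0)) := by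
    unfold Push; rw [R.st25]; congr 2 <;> (first | rfl | (simp only [mul_zero, zero_mul, add_zero, zero_add, ne_eq, OfNat.ofNat_ne_zero, not_false_eq_true, zero_pow, one_pow, mul_one, one_mul, CharTwo.add_self_eq_zero]; done) | (simp only [mul_zero, zero_mul, add_zero, zero_add, ne_eq, OfNat.ofNat_ne_zero, not_false_eq_true, zero_pow, one_pow, mul_one, one_mul, CharTwo.add_self_eq_zero]; (first | rfl | ring1 | (rw [← sub_eq_zero]; ring_nf; simp only [h2, h4, h6, h8, h10, h12, h14, h16, h18, h20, h22, h24, h26, h28, h30, h32, mul_zero, zero_mul, add_zero, zero_add, neg_zero, sub_zero, sub_self]))) | (first | rfl | ring1 | (rw [← sub_eq_zero]; ring_nf; simp only [h2, h4, h6, h8, h10, h12, h14, h16, h18, h20, h22, h24, h26, h28, h30, h32, mul_zero, zero_mul, add_zero, zero_add, neg_zero, sub_zero, sub_self])))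
  have p8 : Push (R.X28 1) (R.toRelF4.RNF1 (0) (0) (0) (0) (0) (0) (0) (0) (0) (0) (0) (0) (0) (0) (0) (0) (0) (t) (0) (0)) (R.toRelF4.RNF1 (0) (0) (0) (0) (0) (0) (0) (0) (0) (0) (0) (0) (0) (0) (0) (0) (0) (t) (0) (0)) := by
    unfold Push; rw [R.st28]; congr 2 <;> (first | rfl | (simp only [mul_zero, zero_mul, add_zero, zero_add, ne_eq, OfNat.ofNat_ne_zero, not_false_eq_true, zero_pow, one_pow, mul_one, one_mul, CharTwo.add_self_eq_zero]; done) | (simp only [mul_zero, zero_mul, add_zero, zero_add, ne_eq, OfNat.ofNat_ne_zero, not_false_eq_true, zero_pow, one_pow, mul_one, one_mul, CharTwo.add_self_eq_zero]; (first | rfl | ring1 | (rw [← sub_eq_zero]; ring_nf; simp only [h2, h4, h6, h8, h10, h12, h14, h16, h18, h20, h22, h24, h26, h28, h30, h32, mul_zero, zero_mul, add_zero, zero_add, neg_zero, sub_zero, sub_self]))) | (first | rfl | ring1 | (rw [← sub_eq_zero]; ring_nf; simp only [h2, h4, h6, h8, h10, h12, h14, h16, h18, h20, h22, h24, h26, h28, h30, h32, mul_zero,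 zero_mul, add_zero, zero_add, neg_zero, sub_zero, sub_self])))
  have p := (((((((p1).comp p2).comp p3).comp p4).comp p5).comp p6).comp p7).comp p8
  have hc := Push.conj (g := R.n8) (by unfold n8; simpa only [mul_assoc] using p)
  exact (congrArg (fun y => R.n8 * y * (R.n8)⁻¹) e0).trans (hc.trans e9.symm)

theorem n8_38 (t : K) : R.n8 * R.X38 t * (R.n8)⁻¹ = R.X39 t := by
  have h2 : (2 : K) = 0 := CharTwo.two_eq_zero
  have h4 : (4 : K) = 0 := by linear_combination 2 * h2
  have h6 : (6 : K) = 0 := by linear_combination 3 * h2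
  have h8 : (8 : K) = 0 := by linear_combination 4 * h2
  have h10 : (10 : K) = 0 := by linear_combination 5 * h2
  have h12 : (12 : K) = 0 := by linear_combination 6 * h2
  have h14 : (14 : K) = 0 := by linear_combination 7 * h2
  have h16 : (16 : K) = 0 := by linear_combination 8 * h2
  have h18 : (18 : K) = 0 := by linear_combination 9 * h2
  have h20 : (20 : K) = 0 := by linear_combination 10 * h2
  have h22 : (22 : K) = 0 := by linear_combination 11 * h2
  have h24 : (24 : K) = 0 := by linear_combination 12 * h2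
  have h26 : (26 : K) = 0 := by linear_combination 13 * h2
  have h28 : (28 : K) = 0 := by linear_combination 14 * h2
  have h30 : (30 : K) = 0 := by linear_combination 15 * h2
  have h32 : (32 : K) = 0 := by linear_combination 16 * h2
  have e0 : R.X38 t = R.toRelF4.RNF1 (0) (0) (0) (0) (0) (0) (t) (0) (0) (0) (0) (0) (0) (0) (0) (0) (0) (0) (0) (0) := by
    unfold RelF4.RNF1; simp only [RelF4.zero33, RelF4.zero24, RelF4.zero34, RelF4.zero26, RelF4.zero36, RelF4.zero42, RelF4.zero38, RelF4.zero43, RelF4.zero29, RelF4.zero41, RelF4.zero44, RelF4.zero47, RelF4.zero39, RelF4.zero45, RelF4.zero35, RelF4.zero31, RelF4.zero40, RelF4.zero46, RelF4.zero37, RelF4.zero32, one_mul, mul_one]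
  have e9 : R.X39 t = R.toRelF4.RNF1 (0) (0) (0) (0) (0) (0) (0) (0) (0) (0) (0) (0) (t) (0) (0) (0) (0) (0) (0) (0) := by
    unfold RelF4.RNF1; simp only [RelF4.zero33, RelF4.zero24, RelF4.zero34, RelF4.zero26, RelF4.zero36, RelF4.zero42, RelF4.zero38, RelF4.zero43, RelF4.zero29, RelF4.zero41, RelF4.zero44, RelF4.zero47, RelF4.zero39, RelF4.zero45, RelF4.zero35, RelF4.zero31, RelF4.zero40, RelF4.zero46, RelF4.zero37, RelF4.zero32, one_mul, mul_one]
  have p1 : Push (R.X30 1) (R.toRelF4.RNF1 (0) (0) (0) (0) (0) (0) (t) (0) (0) (0) (0) (0) (0) (0) (0) (0) (0) (0) (0) (0)) (R.toRelF4.RNF1 (0) (0) (0) (0) (0) (0) (t) (0) (0) (0) (0) (0) (0) (0) (0) (0) (0) (0) (0) (0)) := by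
    unfold Push; rw [R.st30]; congr 2 <;> (first | rfl | (simp only [mul_zero, zero_mul, add_zero, zero_add, ne_eq, OfNat.ofNat_ne_zero, not_false_eq_true, zero_pow, one_pow, mul_one, one_mul, CharTwo.add_self_eq_zero]; done) | (simp only [mul_zero, zero_mul, add_zero, zero_add, ne_eq, OfNat.ofNat_ne_zero, not_false_eq_true, zero_pow, one_pow, mul_one, one_mul, CharTwo.add_self_eq_zero]; (first | rfl | ring1 | (rw [← sub_eq_zero]; ring_nf; simp only [h2, h4, h6, h8, h10, h12, h14, h16, h18, h20, h22, h24, h26, h28, h30, h32, mul_zero, zero_mul, add_zero, zero_add, neg_zero, sub_zero, sub_self]))) | (first | rfl | ring1 | (rw [← sub_eq_zero]; ring_nf; simp only [h2, h4, h6, h8, h10, h12, h14, h16, h18, h20, h22, h24, h26, h28, h30, h32, mul_zero, zero_mul, add_zero, zero_add, neg_zero, sub_zero, sub_self])))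
  have p2 : Push (R.X28 1) (R.toRelF4.RNF1 (0) (0) (0) (0) (0) (0) (t) (0) (0) (0) (0) (0) (0) (0) (0) (0) (0) (0) (0) (0)) (R.toRelF4.RNF1 (0) (0) (0) (0) (0) (0) (t) (0) (0) (0) (0) (0) (0) (0) (0) (0) (t) (0) (0) (0)) := by
    unfold Push; rw [R.st28]; congr 2 <;> (first | rfl | (simp only [mul_zero, zero_mul, add_zero, zero_add, ne_eq, OfNat.ofNat_ne_zero, not_false_eq_true, zero_pow, one_pow, mul_one, one_mul, CharTwo.add_self_eq_zero]; done) | (simp only [mul_zero, zero_mul, add_zero, zero_add, ne_eq, OfNat.ofNat_ne_zero, not_false_eq_true, zero_pow, one_pow, mul_one, one_mul, CharTwo.add_self_eq_zero]; (first | rfl | ring1 | (rw [← sub_eq_zero]; ring_nf; simp only [h2, h4, h6, h8, h10, h12, h14, h16, h18, h20, h22, h24, h26, h28, h30, h32, mul_zero, zero_mul, add_zero, zero_add, neg_zero, sub_zero, sub_self]))) | (first | rfl | ring1 | (rw [← sub_eq_zero]; ring_nf; simp only [h2, h4, h6, h8, h10, h12, h14, h16, h18, h20, h22, h24, h26, h28, h30, h32, mul_zero,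 zero_mul, add_zero, zero_add, neg_zero, sub_zero, sub_self])))
  have p3 : Push (R.X19 1) (R.toRelF4.RNF1 (0) (0) (0) (0) (0) (0) (t) (0) (0) (0) (0) (0) (0) (0) (0) (0) (t) (0) (0) (0)) (R.toRelF4.RNF1 (0) (0) (0) (0) (0) (0) (0) (0) (0) (0) (0) (0) (0) (0) (0) (0) (t) (0) (0) (0)) := by
    unfold Push; rw [R.st19]; congr 2 <;> (first | rfl | (simp only [mul_zero, zero_mul, add_zero, zero_add, ne_eq, OfNat.ofNat_ne_zero, not_false_eq_true, zero_pow, one_pow, mul_one, one_mul, CharTwo.add_self_eq_zero]; done) | (simp only [mul_zero, zero_mul, add_zero, zero_add, ne_eq, OfNat.ofNat_ne_zero, not_false_eq_true, zero_pow, one_pow, mul_one, one_mul, CharTwo.add_self_eq_zero]; (first | rfl | ring1 | (rw [← sub_eq_zero]; ring_nf; simp only [h2, h4, h6, h8, h10, h12, h14, h16, h18, h20, h22, h24, h26, h28, h30, h32, mul_zero, zero_mul, add_zero, zero_add, neg_zero, sub_zero, sub_self]))) | (first | rfl | ring1 | (rw [← sub_eq_zero]; ring_nf; simp only [h2, h4, h6, h8, h10,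 h12, h14, h16, h18, h20, h22, h24, h26, h28, h30, h32, mul_zero, zero_mul, add_zero, zero_add, neg_zero, sub_zero, sub_self])))
  have p4 : Push (R.X22 1) (R.toRelF4.RNF1 (0) (0) (0) (0) (0) (0) (0) (0) (0) (0) (0) (0) (0) (0) (0) (0) (t) (0) (0) (0)) (R.toRelF4.RNF1 (0) (0) (0) (0) (0) (0) (0) (0) (0) (0) (0) (0) (0) (0) (0) (0) (t) (0) (0) (0)) := by
    unfold Push; rw [R.st22]; congr 2 <;> (first | rfl | (simp only [mul_zero, zero_mul, add_zero, zero_add, ne_eq, OfNat.ofNat_ne_zero, not_false_eq_true, zero_pow, one_pow, mul_one, one_mul, CharTwo.add_self_eq_zero]; done) | (simp only [mul_zero, zero_mul, add_zero, zero_add, ne_eq, OfNat.ofNat_ne_zero, not_false_eq_true, zero_pow, one_pow, mul_one, one_mul, CharTwo.add_self_eq_zero]; (first | rfl | ring1 | (rw [← sub_eq_zero]; ring_nf; simp only [h2, h4, h6, h8, h10, h12, h14, h16, h18, h20, h22, h24, h26, h28, h30, h32, mul_zero, zero_mul, add_zero, zero_add, neg_zero, sub_zero, sub_self]))) | (first | rfl | ring1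 | (rw [← sub_eq_zero]; ring_nf; simp only [h2, h4, h6, h8, h10, h12, h14, h16, h18, h20, h22, h24, h26, h28, h30, h32, mul_zero, zero_mul, add_zero, zero_add, neg_zero, sub_zero, sub_self])))
  have p5 : Push (R.X20 1) (R.toRelF4.RNF1 (0) (0) (0) (0) (0) (0) (0) (0) (0) (0) (0) (0) (0) (0) (0) (0) (t) (0) (0) (0)) (R.toRelF4.RNF1 (0) (0) (0) (0) (0) (0) (0) (0) (0) (0) (0) (0) (t) (0) (0) (0) (t) (0) (0) (0)) := by
    unfold Push; rw [R.st20]; congr 2 <;> (first | rfl | (simp only [mul_zero, zero_mul, add_zero, zero_add, ne_eq, OfNat.ofNat_ne_zero, not_false_eq_true, zero_pow, one_pow, mul_one, one_mul, CharTwo.add_self_eq_zero]; done) | (simp only [mul_zero, zero_mul, add_zero, zero_add, ne_eq, OfNat.ofNat_ne_zero, not_false_eq_true, zero_pow, one_pow, mul_one, one_mul, CharTwo.add_self_eq_zero]; (first | rfl | ring1 | (rw [← sub_eq_zero]; ring_nf; simp only [h2, h4, h6, h8, h10, h12, h14, h16, h18, h20, h22, h24, h26, h28, h30, h32, mul_zero, zero_mul, add_zero,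 zero_add, neg_zero, sub_zero, sub_self]))) | (first | rfl | ring1 | (rw [← sub_eq_zero]; ring_nf; simp only [h2, h4, h6, h8, h10, h12, h14, h16, h18, h20, h22, h24, h26, h28, h30, h32, mul_zero, zero_mul, add_zero, zero_add, neg_zero, sub_zero, sub_self])))
  have p6 : Push (R.X27 1) (R.toRelF4.RNF1 (0) (0) (0) (0) (0) (0) (0) (0) (0) (0) (0) (0) (t) (0) (0) (0) (t) (0) (0) (0)) (R.toRelF4.RNF1 (0) (0) (0) (0) (0) (0) (0) (0) (0) (0) (0) (0) (t) (0) (0) (0) (0) (0) (0) (0)) := by
    unfold Push; rw [R.st27]; congr 2 <;> (first | rfl | (simp only [mul_zero, zero_mul, add_zero, zero_add, ne_eq, OfNat.ofNat_ne_zero, not_false_eq_true, zero_pow, one_pow, mul_one, one_mul, CharTwo.add_self_eq_zero]; done) | (simp only [mul_zero, zero_mul, add_zero, zero_add, ne_eq, OfNat.ofNat_ne_zero, not_false_eq_true, zero_pow, one_pow, mul_one, one_mul, CharTwo.add_self_eq_zero]; (first | rfl | ring1 | (rw [← sub_eq_zero]; ring_nf; simp only [h2, h4, h6, h8, h10, h12, h14, h16, h18,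 h20, h22, h24, h26, h28, h30, h32, mul_zero, zero_mul, add_zero, zero_add, neg_zero, sub_zero, sub_self]))) | (first | rfl | ring1 | (rw [← sub_eq_zero]; ring_nf; simp only [h2, h4, h6, h8, h10, h12, h14, h16, h18, h20, h22, h24, h26, h28, h30, h32, mul_zero, zero_mul, add_zero, zero_add, neg_zero, sub_zero, sub_self])))
  have p7 : Push (R.X25 1) (R.toRelF4.RNF1 (0) (0) (0) (0) (0) (0) (0) (0) (0) (0) (0) (0) (t) (0) (0) (0) (0) (0) (0) (0)) (R.toRelF4.RNF1 (0) (0) (0) (0) (0) (0) (0) (0) (0) (0) (0) (0) (t) (0) (0) (0) (0) (0) (0) (0)) := by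
    unfold Push; rw [R.st25]; congr 2 <;> (first | rfl | (simp only [mul_zero, zero_mul, add_zero, zero_add, ne_eq, OfNat.ofNat_ne_zero, not_false_eq_true, zero_pow, one_pow, mul_one, one_mul, CharTwo.add_self_eq_zero]; done) | (simp only [mul_zero, zero_mul, add_zero, zero_add, ne_eq, OfNat.ofNat_ne_zero, not_false_eq_true, zero_pow, one_pow, mul_one, one_mul, CharTwo.add_self_eq_zero]; (first | rfl | ring1 | (rw [← sub_eq_zero]; ring_nf; simp only [h2, h4, h6, h8, h10, h12, h14, h16, h18, h20, h22, h24, h26, h28, h30, h32, mul_zero, zero_mul, add_zero, zero_add, neg_zero, sub_zero, sub_self]))) | (first | rfl | ring1 | (rw [← sub_eq_zero]; ring_nf; simp only [h2, h4, h6, h8, h10, h12, h14, h16, h18, h20, h22, h24, h26, h28, h30, h32, mul_zero, zero_mul, add_zero, zero_add, neg_zero, sub_zero, sub_self])))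
  have p8 : Push (R.X28 1) (R.toRelF4.RNF1 (0) (0) (0) (0) (0) (0) (0) (0) (0) (0) (0) (0) (t) (0) (0) (0) (0) (0) (0) (0)) (R.toRelF4.RNF1 (0) (0) (0) (0) (0) (0) (0) (0) (0) (0) (0) (0) (t) (0) (0) (0) (0) (0) (0) (0)) := by
    unfold Push; rw [R.st28]; congr 2 <;> (first | rfl | (simp only [mul_zero, zero_mul, add_zero, zero_add, ne_eq, OfNat.ofNat_ne_zero, not_false_eq_true, zero_pow, one_pow, mul_one, one_mul, CharTwo.add_self_eq_zero]; done) | (simp only [mul_zero, zero_mul, add_zero, zero_add, ne_eq, OfNat.ofNat_ne_zero, not_false_eq_true, zero_pow, one_pow, mul_one, one_mul, CharTwo.add_self_eq_zero]; (first | rfl | ring1 | (rw [← sub_eq_zero]; ring_nf; simp only [h2, h4, h6, h8, h10, h12, h14, h16, h18, h20, h22, h24, h26, h28, h30, h32, mul_zero, zero_mul, add_zero, zero_add, neg_zero, sub_zero, sub_self]))) | (first | rfl | ring1 | (rw [← sub_eq_zero]; ring_nf; simp only [h2, h4, h6, h8, h10, h12, h14, h16, h18, h20, h22, h24, h26, h28, h30, h32, mul_zero,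 zero_mul, add_zero, zero_add, neg_zero, sub_zero, sub_self])))
  have p := (((((((p1).comp p2).comp p3).comp p4).comp p5).comp p6).comp p7).comp p8
  have hc := Push.conj (g := R.n8) (by unfold n8; simpa only [mul_assoc] using p)
  exact (congrArg (fun y => R.n8 * y * (R.n8)⁻¹) e0).trans (hc.trans e9.symm)

theorem n8_43 (t : K) : R.n8 * R.X43 t * (R.n8)⁻¹ = R.X45 t := by
  have h2 : (2 : K) = 0 := CharTwo.two_eq_zero
  have h4 : (4 : K) = 0 := by linear_combination 2 * h2
  have h6 : (6 : K) = 0 := by linear_combination 3 * h2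
  have h8 : (8 : K) = 0 := by linear_combination 4 * h2
  have h10 : (10 : K) = 0 := by linear_combination 5 * h2
  have h12 : (12 : K) = 0 := by linear_combination 6 * h2
  have h14 : (14 : K) = 0 := by linear_combination 7 * h2
  have h16 : (16 : K) = 0 := by linear_combination 8 * h2
  have h18 : (18 : K) = 0 := by linear_combination 9 * h2
  have h20 : (20 : K) = 0 := by linear_combination 10 * h2
  have h22 : (22 : K) = 0 := by linear_combination 11 * h2
  have h24 : (24 : K) = 0 := by linear_combination 12 * h2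
  have h26 : (26 : K) = 0 := by linear_combination 13 * h2
  have h28 : (28 : K) = 0 := by linear_combination 14 * h2
  have h30 : (30 : K) = 0 := by linear_combination 15 * h2
  have h32 : (32 : K) = 0 := by linear_combination 16 * h2
  have e0 : R.X43 t = R.toRelF4.RNF1 (0) (0) (0) (0) (0) (0) (0) (t) (0) (0) (0) (0) (0) (0) (0) (0) (0) (0) (0) (0) := by
    unfold RelF4.RNF1; simp only [RelF4.zero33, RelF4.zero24, RelF4.zero34, RelF4.zero26, RelF4.zero36, RelF4.zero42, RelF4.zero38, RelF4.zero43, RelF4.zero29, RelF4.zero41, RelF4.zero44, RelF4.zero47, RelF4.zero39, RelF4.zero45, RelF4.zero35, RelF4.zero31, RelF4.zero40, RelF4.zero46, RelF4.zero37, RelF4.zero32, one_mul, mul_one]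
  have e9 : R.X45 t = R.toRelF4.RNF1 (0) (0) (0) (0) (0) (0) (0) (0) (0) (0) (0) (0) (0) (t) (0) (0) (0) (0) (0) (0) := by
    unfold RelF4.RNF1; simp only [RelF4.zero33, RelF4.zero24, RelF4.zero34, RelF4.zero26, RelF4.zero36, RelF4.zero42, RelF4.zero38, RelF4.zero43, RelF4.zero29, RelF4.zero41, RelF4.zero44, RelF4.zero47, RelF4.zero39, RelF4.zero45, RelF4.zero35, RelF4.zero31, RelF4.zero40, RelF4.zero46, RelF4.zero37, RelF4.zero32, one_mul, mul_one]
  have p1 : Push (R.X30 1) (R.toRelF4.RNF1 (0) (0) (0) (0) (0) (0) (0) (t) (0) (0) (0) (0) (0) (0) (0) (0) (0) (0) (0) (0)) (R.toRelF4.RNF1 (0) (0) (0) (0) (0) (0) (0) (t) (0) (0) (0) (0) (0) (0) (0) (0) (0) (t) (0) (0)) := by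
    unfold Push; rw [R.st30]; congr 2 <;> (first | rfl | (simp only [mul_zero, zero_mul, add_zero, zero_add, ne_eq, OfNat.ofNat_ne_zero, not_false_eq_true, zero_pow, one_pow, mul_one, one_mul, CharTwo.add_self_eq_zero]; done) | (simp only [mul_zero, zero_mul, add_zero, zero_add, ne_eq, OfNat.ofNat_ne_zero, not_false_eq_true, zero_pow, one_pow, mul_one, one_mul, CharTwo.add_self_eq_zero]; (first | rfl | ring1 | (rw [← sub_eq_zero]; ring_nf; simp only [h2, h4, h6, h8, h10, h12, h14, h16, h18, h20, h22, h24, h26, h28, h30, h32, mul_zero, zero_mul, add_zero, zero_add, neg_zero, sub_zero, sub_self]))) | (first | rfl | ring1 | (rw [← sub_eq_zero]; ring_nf; simp only [h2, h4, h6, h8, h10, h12, h14, h16, h18, h20, h22, h24, h26, h28, h30, h32, mul_zero, zero_mul, add_zero, zero_add, neg_zero, sub_zero, sub_self])))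
  have p2 : Push (R.X28 1) (R.toRelF4.RNF1 (0) (0) (0) (0) (0) (0) (0) (t) (0) (0) (0) (0) (0) (0) (0) (0) (0) (t) (0) (0)) (R.toRelF4.RNF1 (0) (0) (0) (0) (0) (0) (0) (t) (0) (0) (0) (0) (0) (0) (0) (0) (0) (t) (0) (0)) := by
    unfold Push; rw [R.st28]; congr 2 <;> (first | rfl | (simp only [mul_zero, zero_mul, add_zero, zero_add, ne_eq, OfNat.ofNat_ne_zero, not_false_eq_true, zero_pow, one_pow, mul_one, one_mul, CharTwo.add_self_eq_zero]; done) | (simp only [mul_zero, zero_mul, add_zero, zero_add, ne_eq, OfNat.ofNat_ne_zero, not_false_eq_true, zero_pow, one_pow, mul_one, one_mul, CharTwo.add_self_eq_zero]; (first | rfl | ring1 | (rw [← sub_eq_zero]; ring_nf; simp only [h2, h4, h6, h8, h10, h12, h14, h16, h18, h20, h22, h24, h26, h28, h30, h32, mul_zero, zero_mul, add_zero, zero_add, neg_zero, sub_zero, sub_self]))) | (first | rfl | ring1 | (rw [← sub_eq_zero]; ring_nf; simp only [h2, h4, h6, h8, h10, h12, h14, h16, h18, h20, h22, h24, h26, h28, h30, h32, mul_zero,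 zero_mul, add_zero, zero_add, neg_zero, sub_zero, sub_self])))
  have p3 : Push (R.X19 1) (R.toRelF4.RNF1 (0) (0) (0) (0) (0) (0) (0) (t) (0) (0) (0) (0) (0) (0) (0) (0) (0) (t) (0) (0)) (R.toRelF4.RNF1 (0) (0) (0) (0) (0) (t) (0) (t) (0) (0) (t) (0) (0) (0) (0) (0) (0) (t) (0) (0)) := by
    unfold Push; rw [R.st19]; congr 2 <;> (first | rfl | (simp only [mul_zero, zero_mul, add_zero, zero_add, ne_eq, OfNat.ofNat_ne_zero, not_false_eq_true, zero_pow, one_pow, mul_one, one_mul, CharTwo.add_self_eq_zero]; done) | (simp only [mul_zero, zero_mul, add_zero, zero_add, ne_eq, OfNat.ofNat_ne_zero, not_false_eq_true, zero_pow, one_pow, mul_one, one_mul, CharTwo.add_self_eq_zero]; (first | rfl | ring1 | (rw [← sub_eq_zero]; ring_nf; simp only [h2, h4, h6, h8, h10, h12, h14, h16, h18, h20, h22, h24, h26, h28, h30, h32, mul_zero, zero_mul, add_zero, zero_add, neg_zero, sub_zero, sub_self]))) | (first | rfl | ring1 | (rw [← sub_eq_zero]; ring_nf; simp only [h2, h4, h6, h8, h10,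 h12, h14, h16, h18, h20, h22, h24, h26, h28, h30, h32, mul_zero, zero_mul, add_zero, zero_add, neg_zero, sub_zero, sub_self])))
  have p4 : Push (R.X22 1) (R.toRelF4.RNF1 (0) (0) (0) (0) (0) (t) (0) (t) (0) (0) (t) (0) (0) (0) (0) (0) (0) (t) (0) (0)) (R.toRelF4.RNF1 (0) (0) (0) (0) (0) (0) (0) (t) (0) (0) (t) (0) (0) (t) (0) (0) (0) (t) (0) (0)) := by
    unfold Push; rw [R.st22]; congr 2 <;> (first | rfl | (simp only [mul_zero, zero_mul, add_zero, zero_add, ne_eq, OfNat.ofNat_ne_zero, not_false_eq_true, zero_pow, one_pow, mul_one, one_mul, CharTwo.add_self_eq_zero]; done) | (simp only [mul_zero, zero_mul, add_zero, zero_add, ne_eq, OfNat.ofNat_ne_zero, not_false_eq_true, zero_pow, one_pow, mul_one, one_mul, CharTwo.add_self_eq_zero]; (first | rfl | ring1 | (rw [← sub_eq_zero]; ring_nf; simp only [h2, h4, h6, h8, h10, h12, h14, h16, h18, h20, h22, h24, h26, h28, h30, h32, mul_zero, zero_mul, add_zero, zero_add, neg_zero, sub_zero, sub_self]))) | (first | rfl | ring1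 | (rw [← sub_eq_zero]; ring_nf; simp only [h2, h4, h6, h8, h10, h12, h14, h16, h18, h20, h22, h24, h26, h28, h30, h32, mul_zero, zero_mul, add_zero, zero_add, neg_zero, sub_zero, sub_self])))
  have p5 : Push (R.X20 1) (R.toRelF4.RNF1 (0) (0) (0) (0) (0) (0) (0) (t) (0) (0) (t) (0) (0) (t) (0) (0) (0) (t) (0) (0)) (R.toRelF4.RNF1 (0) (0) (0) (0) (0) (0) (0) (0) (0) (0) (0) (0) (0) (t) (0) (0) (0) (t) (0) (0)) := by
    unfold Push; rw [R.st20]; congr 2 <;> (first | rfl | (simp only [mul_zero, zero_mul, add_zero, zero_add, ne_eq, OfNat.ofNat_ne_zero, not_false_eq_true, zero_pow, one_pow, mul_one, one_mul, CharTwo.add_self_eq_zero]; done) | (simp only [mul_zero, zero_mul, add_zero, zero_add, ne_eq, OfNat.ofNat_ne_zero, not_false_eq_true, zero_pow, one_pow, mul_one, one_mul, CharTwo.add_self_eq_zero]; (first | rfl | ring1 | (rw [← sub_eq_zero]; ring_nf; simp only [h2, h4, h6, h8, h10, h12, h14, h16, h18, h20, h22, h24, h26, h28, h30, h32, mul_zero, zero_mul, add_zero,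 zero_add, neg_zero, sub_zero, sub_self]))) | (first | rfl | ring1 | (rw [← sub_eq_zero]; ring_nf; simp only [h2, h4, h6, h8, h10, h12, h14, h16, h18, h20, h22, h24, h26, h28, h30, h32, mul_zero, zero_mul, add_zero, zero_add, neg_zero, sub_zero, sub_self])))
  have p6 : Push (R.X27 1) (R.toRelF4.RNF1 (0) (0) (0) (0) (0) (0) (0) (0) (0) (0) (0) (0) (0) (t) (0) (0) (0) (t) (0) (0)) (R.toRelF4.RNF1 (0) (0) (0) (0) (0) (0) (0) (0) (0) (0) (0) (0) (0) (t) (0) (0) (0) (t) (0) (0)) := by
    unfold Push; rw [R.st27]; congr 2 <;> (first | rfl | (simp only [mul_zero, zero_mul, add_zero, zero_add, ne_eq, OfNat.ofNat_ne_zero, not_false_eq_true, zero_pow, one_pow, mul_one, one_mul, CharTwo.add_self_eq_zero]; done) | (simp only [mul_zero, zero_mul, add_zero, zero_add, ne_eq, OfNat.ofNat_ne_zero, not_false_eq_true, zero_pow, one_pow, mul_one, one_mul, CharTwo.add_self_eq_zero]; (first | rfl | ring1 | (rw [← sub_eq_zero]; ring_nf; simp only [h2, h4, h6, h8, h10, h12, h14, h16, h18,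 h20, h22, h24, h26, h28, h30, h32, mul_zero, zero_mul, add_zero, zero_add, neg_zero, sub_zero, sub_self]))) | (first | rfl | ring1 | (rw [← sub_eq_zero]; ring_nf; simp only [h2, h4, h6, h8, h10, h12, h14, h16, h18, h20, h22, h24, h26, h28, h30, h32, mul_zero, zero_mul, add_zero, zero_add, neg_zero, sub_zero, sub_self])))
  have p7 : Push (R.X25 1) (R.toRelF4.RNF1 (0) (0) (0) (0) (0) (0) (0) (0) (0) (0) (0) (0) (0) (t) (0) (0) (0) (t) (0) (0)) (R.toRelF4.RNF1 (0) (0) (0) (0) (0) (0) (0) (0) (0) (0) (0) (0) (0) (t) (0) (0) (0) (0) (0) (0)) := by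
    unfold Push; rw [R.st25]; congr 2 <;> (first | rfl | (simp only [mul_zero, zero_mul, add_zero, zero_add, ne_eq, OfNat.ofNat_ne_zero, not_false_eq_true, zero_pow, one_pow, mul_one, one_mul, CharTwo.add_self_eq_zero]; done) | (simp only [mul_zero, zero_mul, add_zero, zero_add, ne_eq, OfNat.ofNat_ne_zero, not_false_eq_true, zero_pow, one_pow, mul_one, one_mul, CharTwo.add_self_eq_zero]; (first | rfl | ring1 | (rw [← sub_eq_zero]; ring_nf; simp only [h2, h4, h6, h8, h10, h12, h14, h16, h18, h20, h22, h24, h26, h28, h30, h32, mul_zero, zero_mul, add_zero, zero_add, neg_zero, sub_zero, sub_self]))) | (first | rfl | ring1 | (rw [← sub_eq_zero]; ring_nf; simp only [h2, h4, h6, h8, h10, h12, h14, h16, h18, h20, h22, h24, h26, h28, h30, h32, mul_zero, zero_mul, add_zero, zero_add, neg_zero, sub_zero, sub_self])))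
  have p8 : Push (R.X28 1) (R.toRelF4.RNF1 (0) (0) (0) (0) (0) (0) (0) (0) (0) (0) (0) (0) (0) (t) (0) (0) (0) (0) (0) (0)) (R.toRelF4.RNF1 (0) (0) (0) (0) (0) (0) (0) (0) (0) (0) (0) (0) (0) (t) (0) (0) (0) (0) (0) (0)) := by
    unfold Push; rw [R.st28]; congr 2 <;> (first | rfl | (simp only [mul_zero, zero_mul, add_zero, zero_add, ne_eq, OfNat.ofNat_ne_zero, not_false_eq_true, zero_pow, one_pow, mul_one, one_mul, CharTwo.add_self_eq_zero]; done) | (simp only [mul_zero, zero_mul, add_zero, zero_add, ne_eq, OfNat.ofNat_ne_zero, not_false_eq_true, zero_pow, one_pow, mul_one, one_mul, CharTwo.add_self_eq_zero]; (first | rfl | ring1 | (rw [← sub_eq_zero]; ring_nf; simp only [h2, h4, h6, h8, h10, h12, h14, h16, h18, h20, h22, h24, h26, h28, h30, h32, mul_zero, zero_mul, add_zero, zero_add, neg_zero, sub_zero, sub_self]))) | (first | rfl | ring1 | (rw [← sub_eq_zero]; ring_nf; simp only [h2, h4, h6, h8, h10, h12, h14, h16, h18, h20, h22, h24, h26, h28, h30, h32, mul_zero,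 zero_mul, add_zero, zero_add, neg_zero, sub_zero, sub_self])))
  have p := (((((((p1).comp p2).comp p3).comp p4).comp p5).comp p6).comp p7).comp p8
  have hc := Push.conj (g := R.n8) (by unfold n8; simpa only [mul_assoc] using p)
  exact (congrArg (fun y => R.n8 * y * (R.n8)⁻¹) e0).trans (hc.trans e9.symm)

theorem n8_29 (t : K) : R.n8 * R.X29 t * (R.n8)⁻¹ = R.X29 t := by
  have h2 : (2 : K) = 0 := CharTwo.two_eq_zero
  have h4 : (4 : K) = 0 := by linear_combination 2 * h2
  have h6 : (6 : K) = 0 := by linear_combination 3 * h2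
  have h8 : (8 : K) = 0 := by linear_combination 4 * h2
  have h10 : (10 : K) = 0 := by linear_combination 5 * h2
  have h12 : (12 : K) = 0 := by linear_combination 6 * h2
  have h14 : (14 : K) = 0 := by linear_combination 7 * h2
  have h16 : (16 : K) = 0 := by linear_combination 8 * h2
  have h18 : (18 : K) = 0 := by linear_combination 9 * h2
  have h20 : (20 : K) = 0 := by linear_combination 10 * h2
  have h22 : (22 : K) = 0 := by linear_combination 11 * h2
  have h24 : (24 : K) = 0 := by linear_combination 12 * h2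
  have h26 : (26 : K) = 0 := by linear_combination 13 * h2
  have h28 : (28 : K) = 0 := by linear_combination 14 * h2
  have h30 : (30 : K) = 0 := by linear_combination 15 * h2
  have h32 : (32 : K) = 0 := by linear_combination 16 * h2
  have e0 : R.X29 t = R.toRelF4.RNF1 (0) (0) (0) (0) (0) (0) (0) (0) (t) (0) (0) (0) (0) (0) (0) (0) (0) (0) (0) (0) := by
    unfold RelF4.RNF1; simp only [RelF4.zero33, RelF4.zero24, RelF4.zero34, RelF4.zero26, RelF4.zero36, RelF4.zero42, RelF4.zero38, RelF4.zero43, RelF4.zero29, RelF4.zero41, RelF4.zero44, RelF4.zero47, RelF4.zero39, RelF4.zero45, RelF4.zero35, RelF4.zero31, RelF4.zero40, RelF4.zero46, RelF4.zero37, RelF4.zero32, one_mul, mul_one]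
  have e9 : R.X29 t = R.toRelF4.RNF1 (0) (0) (0) (0) (0) (0) (0) (0) (t) (0) (0) (0) (0) (0) (0) (0) (0) (0) (0) (0) := by
    unfold RelF4.RNF1; simp only [RelF4.zero33, RelF4.zero24, RelF4.zero34, RelF4.zero26, RelF4.zero36, RelF4.zero42, RelF4.zero38, RelF4.zero43, RelF4.zero29, RelF4.zero41, RelF4.zero44, RelF4.zero47, RelF4.zero39, RelF4.zero45, RelF4.zero35, RelF4.zero31, RelF4.zero40, RelF4.zero46, RelF4.zero37, RelF4.zero32, one_mul, mul_one]
  have p1 : Push (R.X30 1) (R.toRelF4.RNF1 (0) (0) (0) (0) (0) (0) (0) (0) (t) (0) (0) (0) (0) (0) (0) (0) (0) (0) (0) (0)) (R.toRelF4.RNF1 (0) (0) (0) (0) (0) (0) (0) (0) (t) (0) (0) (0) (0) (0) (0) (0) (0) (0) (0) (0)) := by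
    unfold Push; rw [R.st30]; congr 2 <;> (first | rfl | (simp only [mul_zero, zero_mul, add_zero, zero_add, ne_eq, OfNat.ofNat_ne_zero, not_false_eq_true, zero_pow, one_pow, mul_one, one_mul, CharTwo.add_self_eq_zero]; done) | (simp only [mul_zero, zero_mul, add_zero, zero_add, ne_eq, OfNat.ofNat_ne_zero, not_false_eq_true, zero_pow, one_pow, mul_one, one_mul, CharTwo.add_self_eq_zero]; (first | rfl | ring1 | (rw [← sub_eq_zero]; ring_nf; simp only [h2, h4, h6, h8, h10, h12, h14, h16, h18, h20, h22, h24, h26, h28, h30, h32, mul_zero, zero_mul, add_zero, zero_add, neg_zero, sub_zero, sub_self]))) | (first | rfl | ring1 | (rw [← sub_eq_zero]; ring_nf; simp only [h2, h4, h6, h8, h10, h12, h14, h16, h18, h20, h22, h24, h26, h28, h30, h32, mul_zero, zero_mul, add_zero, zero_add, neg_zero, sub_zero, sub_self])))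
  have p2 : Push (R.X28 1) (R.toRelF4.RNF1 (0) (0) (0) (0) (0) (0) (0) (0) (t) (0) (0) (0) (0) (0) (0) (0) (0) (0) (0) (0)) (R.toRelF4.RNF1 (0) (0) (0) (0) (0) (0) (0) (0) (t) (0) (0) (0) (0) (0) (0) (0) (0) (0) (0) (0)) := by
    unfold Push; rw [R.st28]; congr 2 <;> (first | rfl | (simp only [mul_zero, zero_mul, add_zero, zero_add, ne_eq, OfNat.ofNat_ne_zero, not_false_eq_true, zero_pow, one_pow, mul_one, one_mul, CharTwo.add_self_eq_zero]; done) | (simp only [mul_zero, zero_mul, add_zero, zero_add, ne_eq, OfNat.ofNat_ne_zero, not_false_eq_true, zero_pow, one_pow, mul_one, one_mul, CharTwo.add_self_eq_zero]; (first | rfl | ring1 | (rw [← sub_eq_zero]; ring_nf; simp only [h2, h4, h6, h8, h10, h12, h14, h16, h18, h20, h22, h24, h26, h28, h30, h32, mul_zero, zero_mul, add_zero, zero_add, neg_zero, sub_zero, sub_self]))) | (first | rfl | ring1 | (rw [← sub_eq_zero]; ring_nf; simp only [h2, h4, h6, h8, h10, h12, h14, h16, h18, h20, h22, h24, h26, h28, h30, h32, mul_zero,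 zero_mul, add_zero, zero_add, neg_zero, sub_zero, sub_self])))
  have p3 : Push (R.X19 1) (R.toRelF4.RNF1 (0) (0) (0) (0) (0) (0) (0) (0) (t) (0) (0) (0) (0) (0) (0) (0) (0) (0) (0) (0)) (R.toRelF4.RNF1 (0) (0) (0) (0) (0) (0) (0) (0) (t) (0) (0) (0) (0) (0) (0) (0) (0) (0) (0) (0)) := by
    unfold Push; rw [R.st19]; congr 2 <;> (first | rfl | (simp only [mul_zero, zero_mul, add_zero, zero_add, ne_eq, OfNat.ofNat_ne_zero, not_false_eq_true, zero_pow, one_pow, mul_one, one_mul, CharTwo.add_self_eq_zero]; done) | (simp only [mul_zero, zero_mul, add_zero, zero_add, ne_eq, OfNat.ofNat_ne_zero, not_false_eq_true, zero_pow, one_pow, mul_one, one_mul, CharTwo.add_self_eq_zero]; (first | rfl | ring1 | (rw [← sub_eq_zero]; ring_nf; simp only [h2, h4, h6, h8, h10, h12, h14, h16, h18, h20, h22, h24, h26, h28, h30, h32, mul_zero, zero_mul, add_zero, zero_add, neg_zero, sub_zero, sub_self]))) | (first | rfl | ring1 | (rw [← sub_eq_zero]; ring_nf; simp only [h2, h4, h6, h8, h10,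 h12, h14, h16, h18, h20, h22, h24, h26, h28, h30, h32, mul_zero, zero_mul, add_zero, zero_add, neg_zero, sub_zero, sub_self])))
  have p4 : Push (R.X22 1) (R.toRelF4.RNF1 (0) (0) (0) (0) (0) (0) (0) (0) (t) (0) (0) (0) (0) (0) (0) (0) (0) (0) (0) (0)) (R.toRelF4.RNF1 (0) (0) (0) (0) (0) (0) (0) (0) (t) (0) (0) (0) (0) (0) (0) (0) (0) (0) (0) (0)) := by
    unfold Push; rw [R.st22]; congr 2 <;> (first | rfl | (simp only [mul_zero, zero_mul, add_zero, zero_add, ne_eq, OfNat.ofNat_ne_zero, not_false_eq_true, zero_pow, one_pow, mul_one, one_mul, CharTwo.add_self_eq_zero]; done) | (simp only [mul_zero, zero_mul, add_zero, zero_add, ne_eq, OfNat.ofNat_ne_zero, not_false_eq_true, zero_pow, one_pow, mul_one, one_mul, CharTwo.add_self_eq_zero]; (first | rfl | ring1 | (rw [← sub_eq_zero]; ring_nf; simp only [h2, h4, h6, h8, h10, h12, h14, h16, h18, h20, h22, h24, h26, h28, h30, h32, mul_zero, zero_mul, add_zero, zero_add, neg_zero, sub_zero, sub_self]))) | (first | rfl | ring1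 | (rw [← sub_eq_zero]; ring_nf; simp only [h2, h4, h6, h8, h10, h12, h14, h16, h18, h20, h22, h24, h26, h28, h30, h32, mul_zero, zero_mul, add_zero, zero_add, neg_zero, sub_zero, sub_self])))
  have p5 : Push (R.X20 1) (R.toRelF4.RNF1 (0) (0) (0) (0) (0) (0) (0) (0) (t) (0) (0) (0) (0) (0) (0) (0) (0) (0) (0) (0)) (R.toRelF4.RNF1 (0) (0) (0) (0) (0) (0) (0) (0) (t) (0) (0) (0) (0) (0) (0) (0) (0) (0) (0) (0)) := by
    unfold Push; rw [R.st20]; congr 2 <;> (first | rfl | (simp only [mul_zero, zero_mul, add_zero, zero_add, ne_eq, OfNat.ofNat_ne_zero, not_false_eq_true, zero_pow, one_pow, mul_one, one_mul, CharTwo.add_self_eq_zero]; done) | (simp only [mul_zero, zero_mul, add_zero, zero_add, ne_eq, OfNat.ofNat_ne_zero, not_false_eq_true, zero_pow, one_pow, mul_one, one_mul, CharTwo.add_self_eq_zero]; (first | rfl | ring1 | (rw [← sub_eq_zero]; ring_nf; simp only [h2, h4, h6, h8, h10, h12, h14, h16, h18, h20, h22, h24, h26, h28, h30, h32, mul_zero, zero_mul, add_zero,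 zero_add, neg_zero, sub_zero, sub_self]))) | (first | rfl | ring1 | (rw [← sub_eq_zero]; ring_nf; simp only [h2, h4, h6, h8, h10, h12, h14, h16, h18, h20, h22, h24, h26, h28, h30, h32, mul_zero, zero_mul, add_zero, zero_add, neg_zero, sub_zero, sub_self])))
  have p6 : Push (R.X27 1) (R.toRelF4.RNF1 (0) (0) (0) (0) (0) (0) (0) (0) (t) (0) (0) (0) (0) (0) (0) (0) (0) (0) (0) (0)) (R.toRelF4.RNF1 (0) (0) (0) (0) (0) (0) (0) (0) (t) (0) (0) (0) (0) (0) (0) (0) (0) (0) (0) (0)) := by
    unfold Push; rw [R.st27]; congr 2 <;> (first | rfl | (simp only [mul_zero, zero_mul, add_zero, zero_add, ne_eq, OfNat.ofNat_ne_zero, not_false_eq_true, zero_pow, one_pow, mul_one, one_mul, CharTwo.add_self_eq_zero]; done) | (simp only [mul_zero, zero_mul, add_zero, zero_add, ne_eq, OfNat.ofNat_ne_zero, not_false_eq_true, zero_pow, one_pow, mul_one, one_mul, CharTwo.add_self_eq_zero]; (first | rfl | ring1 | (rw [← sub_eq_zero]; ring_nf; simp only [h2, h4, h6, h8, h10, h12, h14, h16, h18,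 h20, h22, h24, h26, h28, h30, h32, mul_zero, zero_mul, add_zero, zero_add, neg_zero, sub_zero, sub_self]))) | (first | rfl | ring1 | (rw [← sub_eq_zero]; ring_nf; simp only [h2, h4, h6, h8, h10, h12, h14, h16, h18, h20, h22, h24, h26, h28, h30, h32, mul_zero, zero_mul, add_zero, zero_add, neg_zero, sub_zero, sub_self])))
  have p7 : Push (R.X25 1) (R.toRelF4.RNF1 (0) (0) (0) (0) (0) (0) (0) (0) (t) (0) (0) (0) (0) (0) (0) (0) (0) (0) (0) (0)) (R.toRelF4.RNF1 (0) (0) (0) (0) (0) (0) (0) (0) (t) (0) (0) (0) (0) (0) (0) (0) (0) (0) (0) (0)) := by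
    unfold Push; rw [R.st25]; congr 2 <;> (first | rfl | (simp only [mul_zero, zero_mul, add_zero, zero_add, ne_eq, OfNat.ofNat_ne_zero, not_false_eq_true, zero_pow, one_pow, mul_one, one_mul, CharTwo.add_self_eq_zero]; done) | (simp only [mul_zero, zero_mul, add_zero, zero_add, ne_eq, OfNat.ofNat_ne_zero, not_false_eq_true, zero_pow, one_pow, mul_one, one_mul, CharTwo.add_self_eq_zero]; (first | rfl | ring1 | (rw [← sub_eq_zero]; ring_nf; simp only [h2, h4, h6, h8, h10, h12, h14, h16, h18, h20, h22, h24, h26, h28, h30, h32, mul_zero, zero_mul, add_zero, zero_add, neg_zero, sub_zero, sub_self]))) | (first | rfl | ring1 | (rw [← sub_eq_zero]; ring_nf; simp only [h2, h4, h6, h8, h10, h12, h14, h16, h18, h20, h22, h24, h26, h28, h30, h32, mul_zero, zero_mul, add_zero, zero_add, neg_zero, sub_zero, sub_self])))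
  have p8 : Push (R.X28 1) (R.toRelF4.RNF1 (0) (0) (0) (0) (0) (0) (0) (0) (t) (0) (0) (0) (0) (0) (0) (0) (0) (0) (0) (0)) (R.toRelF4.RNF1 (0) (0) (0) (0) (0) (0) (0) (0) (t) (0) (0) (0) (0) (0) (0) (0) (0) (0) (0) (0)) := by
    unfold Push; rw [R.st28]; congr 2 <;> (first | rfl | (simp only [mul_zero, zero_mul, add_zero, zero_add, ne_eq, OfNat.ofNat_ne_zero, not_false_eq_true, zero_pow, one_pow, mul_one, one_mul, CharTwo.add_self_eq_zero]; done) | (simp only [mul_zero, zero_mul, add_zero, zero_add, ne_eq, OfNat.ofNat_ne_zero, not_false_eq_true, zero_pow, one_pow, mul_one, one_mul, CharTwo.add_self_eq_zero]; (first | rfl | ring1 | (rw [← sub_eq_zero]; ring_nf; simp only [h2, h4, h6, h8, h10, h12, h14, h16, h18, h20, h22, h24, h26, h28, h30, h32, mul_zero, zero_mul, add_zero, zero_add, neg_zero, sub_zero, sub_self]))) | (first | rfl | ring1 | (rw [← sub_eq_zero]; ring_nf; simp only [h2, h4, h6, h8, h10, h12, h14, h16, h18, h20, h22, h24, h26, h28, h30, h32, mul_zero,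 zero_mul, add_zero, zero_add, neg_zero, sub_zero, sub_self])))
  have p := (((((((p1).comp p2).comp p3).comp p4).comp p5).comp p6).comp p7).comp p8
  have hc := Push.conj (g := R.n8) (by unfold n8; simpa only [mul_assoc] using p)
  exact (congrArg (fun y => R.n8 * y * (R.n8)⁻¹) e0).trans (hc.trans e9.symm)

theorem n8_41 (t : K) : R.n8 * R.X41 t * (R.n8)⁻¹ = R.X41 t := by
  have h2 : (2 : K) = 0 := CharTwo.two_eq_zero
  have h4 : (4 : K) = 0 := by linear_combination 2 * h2
  have h6 : (6 : K) = 0 := by linear_combination 3 * h2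
  have h8 : (8 : K) = 0 := by linear_combination 4 * h2
  have h10 : (10 : K) = 0 := by linear_combination 5 * h2
  have h12 : (12 : K) = 0 := by linear_combination 6 * h2
  have h14 : (14 : K) = 0 := by linear_combination 7 * h2
  have h16 : (16 : K) = 0 := by linear_combination 8 * h2
  have h18 : (18 : K) = 0 := by linear_combination 9 * h2
  have h20 : (20 : K) = 0 := by linear_combination 10 * h2
  have h22 : (22 : K) = 0 := by linear_combination 11 * h2
  have h24 : (24 : K) = 0 := by linear_combination 12 * h2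
  have h26 : (26 : K) = 0 := by linear_combination 13 * h2
  have h28 : (28 : K) = 0 := by linear_combination 14 * h2
  have h30 : (30 : K) = 0 := by linear_combination 15 * h2
  have h32 : (32 : K) = 0 := by linear_combination 16 * h2
  have e0 : R.X41 t = R.toRelF4.RNF1 (0) (0) (0) (0) (0) (0) (0) (0) (0) (t) (0) (0) (0) (0) (0) (0) (0) (0) (0) (0) := by
    unfold RelF4.RNF1; simp only [RelF4.zero33, RelF4.zero24, RelF4.zero34, RelF4.zero26, RelF4.zero36, RelF4.zero42, RelF4.zero38, RelF4.zero43, RelF4.zero29, RelF4.zero41, RelF4.zero44, RelF4.zero47, RelF4.zero39, RelF4.zero45, RelF4.zero35, RelF4.zero31, RelF4.zero40, RelF4.zero46, RelF4.zero37, RelF4.zero32, one_mul, mul_one]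
  have e9 : R.X41 t = R.toRelF4.RNF1 (0) (0) (0) (0) (0) (0) (0) (0) (0) (t) (0) (0) (0) (0) (0) (0) (0) (0) (0) (0) := by
    unfold RelF4.RNF1; simp only [RelF4.zero33, RelF4.zero24, RelF4.zero34, RelF4.zero26, RelF4.zero36, RelF4.zero42, RelF4.zero38, RelF4.zero43, RelF4.zero29, RelF4.zero41, RelF4.zero44, RelF4.zero47, RelF4.zero39, RelF4.zero45, RelF4.zero35, RelF4.zero31, RelF4.zero40, RelF4.zero46, RelF4.zero37, RelF4.zero32, one_mul, mul_one]
  have p1 : Push (R.X30 1) (R.toRelF4.RNF1 (0) (0) (0) (0) (0) (0) (0) (0) (0) (t) (0) (0) (0) (0) (0) (0) (0) (0) (0) (0)) (R.toRelF4.RNF1 (0) (0) (0) (0) (0) (0) (0) (0) (0) (t) (0) (0) (0) (0) (0) (0) (0) (0) (0) (0)) := by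
    unfold Push; rw [R.st30]; congr 2 <;> (first | rfl | (simp only [mul_zero, zero_mul, add_zero, zero_add, ne_eq, OfNat.ofNat_ne_zero, not_false_eq_true, zero_pow, one_pow, mul_one, one_mul, CharTwo.add_self_eq_zero]; done) | (simp only [mul_zero, zero_mul, add_zero, zero_add, ne_eq, OfNat.ofNat_ne_zero, not_false_eq_true, zero_pow, one_pow, mul_one, one_mul, CharTwo.add_self_eq_zero]; (first | rfl | ring1 | (rw [← sub_eq_zero]; ring_nf; simp only [h2, h4, h6, h8, h10, h12, h14, h16, h18, h20, h22, h24, h26, h28, h30, h32, mul_zero, zero_mul, add_zero, zero_add, neg_zero, sub_zero, sub_self]))) | (first | rfl | ring1 | (rw [← sub_eq_zero]; ring_nf; simp only [h2, h4, h6, h8, h10, h12, h14, h16, h18, h20, h22, h24, h26, h28, h30, h32, mul_zero, zero_mul, add_zero, zero_add, neg_zero, sub_zero, sub_self])))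
  have p2 : Push (R.X28 1) (R.toRelF4.RNF1 (0) (0) (0) (0) (0) (0) (0) (0) (0) (t) (0) (0) (0) (0) (0) (0) (0) (0) (0) (0)) (R.toRelF4.RNF1 (0) (0) (0) (0) (0) (0) (0) (0) (0) (t) (0) (0) (0) (0) (0) (0) (0) (0) (0) (0)) := by
    unfold Push; rw [R.st28]; congr 2 <;> (first | rfl | (simp only [mul_zero, zero_mul, add_zero, zero_add, ne_eq, OfNat.ofNat_ne_zero, not_false_eq_true, zero_pow, one_pow, mul_one, one_mul, CharTwo.add_self_eq_zero]; done) | (simp only [mul_zero, zero_mul, add_zero, zero_add, ne_eq, OfNat.ofNat_ne_zero, not_false_eq_true, zero_pow, one_pow, mul_one, one_mul, CharTwo.add_self_eq_zero]; (first | rfl | ring1 | (rw [← sub_eq_zero]; ring_nf; simp only [h2, h4, h6, h8, h10, h12, h14, h16, h18, h20, h22, h24, h26, h28, h30, h32, mul_zero, zero_mul, add_zero, zero_add, neg_zero, sub_zero, sub_self]))) | (first | rfl | ring1 | (rw [← sub_eq_zero]; ring_nf; simp only [h2, h4, h6, h8, h10, h12, h14, h16, h18, h20, h22, h24, h26, h28, h30, h32, mul_zero,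 zero_mul, add_zero, zero_add, neg_zero, sub_zero, sub_self])))
  have p3 : Push (R.X19 1) (R.toRelF4.RNF1 (0) (0) (0) (0) (0) (0) (0) (0) (0) (t) (0) (0) (0) (0) (0) (0) (0) (0) (0) (0)) (R.toRelF4.RNF1 (0) (0) (0) (0) (0) (0) (0) (0) (0) (t) (0) (0) (0) (0) (0) (0) (0) (0) (0) (0)) := by
    unfold Push; rw [R.st19]; congr 2 <;> (first | rfl | (simp only [mul_zero, zero_mul, add_zero, zero_add, ne_eq, OfNat.ofNat_ne_zero, not_false_eq_true, zero_pow, one_pow, mul_one, one_mul, CharTwo.add_self_eq_zero]; done) | (simp only [mul_zero, zero_mul, add_zero, zero_add, ne_eq, OfNat.ofNat_ne_zero, not_false_eq_true, zero_pow, one_pow, mul_one, one_mul, CharTwo.add_self_eq_zero]; (first | rfl | ring1 | (rw [← sub_eq_zero]; ring_nf; simp only [h2, h4, h6, h8, h10, h12, h14, h16, h18, h20, h22, h24, h26, h28, h30, h32, mul_zero, zero_mul, add_zero, zero_add, neg_zero, sub_zero, sub_self]))) | (first | rfl | ring1 | (rw [← sub_eq_zero]; ring_nf; simp only [h2, h4, h6, h8, h10,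 h12, h14, h16, h18, h20, h22, h24, h26, h28, h30, h32, mul_zero, zero_mul, add_zero, zero_add, neg_zero, sub_zero, sub_self])))
  have p4 : Push (R.X22 1) (R.toRelF4.RNF1 (0) (0) (0) (0) (0) (0) (0) (0) (0) (t) (0) (0) (0) (0) (0) (0) (0) (0) (0) (0)) (R.toRelF4.RNF1 (0) (0) (0) (0) (0) (0) (0) (0) (0) (t) (0) (0) (0) (0) (0) (0) (0) (0) (0) (0)) := by
    unfold Push; rw [R.st22]; congr 2 <;> (first | rfl | (simp only [mul_zero, zero_mul, add_zero, zero_add, ne_eq, OfNat.ofNat_ne_zero, not_false_eq_true, zero_pow, one_pow, mul_one, one_mul, CharTwo.add_self_eq_zero]; done) | (simp only [mul_zero, zero_mul, add_zero, zero_add, ne_eq, OfNat.ofNat_ne_zero, not_false_eq_true, zero_pow, one_pow, mul_one, one_mul, CharTwo.add_self_eq_zero]; (first | rfl | ring1 | (rw [← sub_eq_zero]; ring_nf; simp only [h2, h4, h6, h8, h10, h12, h14, h16, h18, h20, h22, h24, h26, h28, h30, h32, mul_zero, zero_mul, add_zero, zero_add, neg_zero, sub_zero, sub_self]))) | (first | rfl | ring1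 | (rw [← sub_eq_zero]; ring_nf; simp only [h2, h4, h6, h8, h10, h12, h14, h16, h18, h20, h22, h24, h26, h28, h30, h32, mul_zero, zero_mul, add_zero, zero_add, neg_zero, sub_zero, sub_self])))
  have p5 : Push (R.X20 1) (R.toRelF4.RNF1 (0) (0) (0) (0) (0) (0) (0) (0) (0) (t) (0) (0) (0) (0) (0) (0) (0) (0) (0) (0)) (R.toRelF4.RNF1 (0) (0) (0) (0) (0) (0) (0) (0) (0) (t) (0) (0) (0) (0) (0) (0) (0) (0) (0) (0)) := by
    unfold Push; rw [R.st20]; congr 2 <;> (first | rfl | (simp only [mul_zero, zero_mul, add_zero, zero_add, ne_eq, OfNat.ofNat_ne_zero, not_false_eq_true, zero_pow, one_pow, mul_one, one_mul, CharTwo.add_self_eq_zero]; done) | (simp only [mul_zero, zero_mul, add_zero, zero_add, ne_eq, OfNat.ofNat_ne_zero, not_false_eq_true, zero_pow, one_pow, mul_one, one_mul, CharTwo.add_self_eq_zero]; (first | rfl | ring1 | (rw [← sub_eq_zero]; ring_nf; simp only [h2, h4, h6, h8, h10, h12, h14, h16, h18, h20, h22, h24, h26, h28, h30, h32, mul_zero, zero_mul, add_zero,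 zero_add, neg_zero, sub_zero, sub_self]))) | (first | rfl | ring1 | (rw [← sub_eq_zero]; ring_nf; simp only [h2, h4, h6, h8, h10, h12, h14, h16, h18, h20, h22, h24, h26, h28, h30, h32, mul_zero, zero_mul, add_zero, zero_add, neg_zero, sub_zero, sub_self])))
  have p6 : Push (R.X27 1) (R.toRelF4.RNF1 (0) (0) (0) (0) (0) (0) (0) (0) (0) (t) (0) (0) (0) (0) (0) (0) (0) (0) (0) (0)) (R.toRelF4.RNF1 (0) (0) (0) (0) (0) (0) (0) (0) (0) (t) (0) (0) (0) (0) (0) (0) (0) (0) (0) (0)) := by
    unfold Push; rw [R.st27]; congr 2 <;> (first | rfl | (simp only [mul_zero, zero_mul, add_zero, zero_add, ne_eq, OfNat.ofNat_ne_zero, not_false_eq_true, zero_pow, one_pow, mul_one, one_mul, CharTwo.add_self_eq_zero]; done) | (simp only [mul_zero, zero_mul, add_zero, zero_add, ne_eq, OfNat.ofNat_ne_zero, not_false_eq_true, zero_pow, one_pow, mul_one, one_mul, CharTwo.add_self_eq_zero]; (first | rfl | ring1 | (rw [← sub_eq_zero]; ring_nf; simp only [h2, h4, h6, h8, h10, h12, h14, h16, h18,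 h20, h22, h24, h26, h28, h30, h32, mul_zero, zero_mul, add_zero, zero_add, neg_zero, sub_zero, sub_self]))) | (first | rfl | ring1 | (rw [← sub_eq_zero]; ring_nf; simp only [h2, h4, h6, h8, h10, h12, h14, h16, h18, h20, h22, h24, h26, h28, h30, h32, mul_zero, zero_mul, add_zero, zero_add, neg_zero, sub_zero, sub_self])))
  have p7 : Push (R.X25 1) (R.toRelF4.RNF1 (0) (0) (0) (0) (0) (0) (0) (0) (0) (t) (0) (0) (0) (0) (0) (0) (0) (0) (0) (0)) (R.toRelF4.RNF1 (0) (0) (0) (0) (0) (0) (0) (0) (0) (t) (0) (0) (0) (0) (0) (0) (0) (0) (0) (0)) := by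
    unfold Push; rw [R.st25]; congr 2 <;> (first | rfl | (simp only [mul_zero, zero_mul, add_zero, zero_add, ne_eq, OfNat.ofNat_ne_zero, not_false_eq_true, zero_pow, one_pow, mul_one, one_mul, CharTwo.add_self_eq_zero]; done) | (simp only [mul_zero, zero_mul, add_zero, zero_add, ne_eq, OfNat.ofNat_ne_zero, not_false_eq_true, zero_pow, one_pow, mul_one, one_mul, CharTwo.add_self_eq_zero]; (first | rfl | ring1 | (rw [← sub_eq_zero]; ring_nf; simp only [h2, h4, h6, h8, h10, h12, h14, h16, h18, h20, h22, h24, h26, h28, h30, h32, mul_zero, zero_mul, add_zero, zero_add, neg_zero, sub_zero, sub_self]))) | (first | rfl | ring1 | (rw [← sub_eq_zero]; ring_nf; simp only [h2, h4, h6, h8, h10, h12, h14, h16, h18, h20, h22, h24, h26, h28, h30, h32, mul_zero, zero_mul, add_zero, zero_add, neg_zero, sub_zero, sub_self])))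
  have p8 : Push (R.X28 1) (R.toRelF4.RNF1 (0) (0) (0) (0) (0) (0) (0) (0) (0) (t) (0) (0) (0) (0) (0) (0) (0) (0) (0) (0)) (R.toRelF4.RNF1 (0) (0) (0) (0) (0) (0) (0) (0) (0) (t) (0) (0) (0) (0) (0) (0) (0) (0) (0) (0)) := by
    unfold Push; rw [R.st28]; congr 2 <;> (first | rfl | (simp only [mul_zero, zero_mul, add_zero, zero_add, ne_eq, OfNat.ofNat_ne_zero, not_false_eq_true, zero_pow, one_pow, mul_one, one_mul, CharTwo.add_self_eq_zero]; done) | (simp only [mul_zero, zero_mul, add_zero, zero_add, ne_eq, OfNat.ofNat_ne_zero, not_false_eq_true, zero_pow, one_pow, mul_one, one_mul, CharTwo.add_self_eq_zero]; (first | rfl | ring1 | (rw [← sub_eq_zero]; ring_nf; simp only [h2, h4, h6, h8, h10, h12, h14, h16, h18, h20, h22, h24, h26, h28, h30, h32, mul_zero, zero_mul, add_zero, zero_add, neg_zero, sub_zero, sub_self]))) | (first | rfl | ring1 | (rw [← sub_eq_zero]; ring_nf; simp only [h2, h4, h6, h8, h10, h12, h14, h16, h18, h20, h22, h24, h26, h28, h30, h32, mul_zero,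 zero_mul, add_zero, zero_add, neg_zero, sub_zero, sub_self])))
  have p := (((((((p1).comp p2).comp p3).comp p4).comp p5).comp p6).comp p7).comp p8
  have hc := Push.conj (g := R.n8) (by unfold n8; simpa only [mul_assoc] using p)
  exact (congrArg (fun y => R.n8 * y * (R.n8)⁻¹) e0).trans (hc.trans e9.symm)

theorem n8_44 (t : K) : R.n8 * R.X44 t * (R.n8)⁻¹ = R.X44 t := by
  have h2 : (2 : K) = 0 := CharTwo.two_eq_zero
  have h4 : (4 : K) = 0 := by linear_combination 2 * h2
  have h6 : (6 : K) = 0 := by linear_combination 3 * h2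
  have h8 : (8 : K) = 0 := by linear_combination 4 * h2
  have h10 : (10 : K) = 0 := by linear_combination 5 * h2
  have h12 : (12 : K) = 0 := by linear_combination 6 * h2
  have h14 : (14 : K) = 0 := by linear_combination 7 * h2
  have h16 : (16 : K) = 0 := by linear_combination 8 * h2
  have h18 : (18 : K) = 0 := by linear_combination 9 * h2
  have h20 : (20 : K) = 0 := by linear_combination 10 * h2
  have h22 : (22 : K) = 0 := by linear_combination 11 * h2
  have h24 : (24 : K) = 0 := by linear_combination 12 * h2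
  have h26 : (26 : K) = 0 := by linear_combination 13 * h2
  have h28 : (28 : K) = 0 := by linear_combination 14 * h2
  have h30 : (30 : K) = 0 := by linear_combination 15 * h2
  have h32 : (32 : K) = 0 := by linear_combination 16 * h2
  have e0 : R.X44 t = R.toRelF4.RNF1 (0) (0) (0) (0) (0) (0) (0) (0) (0) (0) (t) (0) (0) (0) (0) (0) (0) (0) (0) (0) := by
    unfold RelF4.RNF1; simp only [RelF4.zero33, RelF4.zero24, RelF4.zero34, RelF4.zero26, RelF4.zero36, RelF4.zero42, RelF4.zero38, RelF4.zero43, RelF4.zero29, RelF4.zero41, RelF4.zero44, RelF4.zero47, RelF4.zero39, RelF4.zero45, RelF4.zero35, RelF4.zero31, RelF4.zero40, RelF4.zero46, RelF4.zero37, RelF4.zero32, one_mul, mul_one]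
  have e9 : R.X44 t = R.toRelF4.RNF1 (0) (0) (0) (0) (0) (0) (0) (0) (0) (0) (t) (0) (0) (0) (0) (0) (0) (0) (0) (0) := by
    unfold RelF4.RNF1; simp only [RelF4.zero33, RelF4.zero24, RelF4.zero34, RelF4.zero26, RelF4.zero36, RelF4.zero42, RelF4.zero38, RelF4.zero43, RelF4.zero29, RelF4.zero41, RelF4.zero44, RelF4.zero47, RelF4.zero39, RelF4.zero45, RelF4.zero35, RelF4.zero31, RelF4.zero40, RelF4.zero46, RelF4.zero37, RelF4.zero32, one_mul, mul_one]
  have p1 : Push (R.X30 1) (R.toRelF4.RNF1 (0) (0) (0) (0) (0) (0) (0) (0) (0) (0) (t) (0) (0) (0) (0) (0) (0) (0) (0) (0)) (R.toRelF4.RNF1 (0) (0) (0) (0) (0) (0) (0) (0) (0) (0) (t) (0) (0) (0) (0) (0) (0) (0) (0) (0)) := by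
    unfold Push; rw [R.st30]; congr 2 <;> (first | rfl | (simp only [mul_zero, zero_mul, add_zero, zero_add, ne_eq, OfNat.ofNat_ne_zero, not_false_eq_true, zero_pow, one_pow, mul_one, one_mul, CharTwo.add_self_eq_zero]; done) | (simp only [mul_zero, zero_mul, add_zero, zero_add, ne_eq, OfNat.ofNat_ne_zero, not_false_eq_true, zero_pow, one_pow, mul_one, one_mul, CharTwo.add_self_eq_zero]; (first | rfl | ring1 | (rw [← sub_eq_zero]; ring_nf; simp only [h2, h4, h6, h8, h10, h12, h14, h16, h18, h20, h22, h24, h26, h28, h30, h32, mul_zero, zero_mul, add_zero, zero_add, neg_zero, sub_zero, sub_self]))) | (first | rfl | ring1 | (rw [← sub_eq_zero]; ring_nf; simp only [h2, h4, h6, h8, h10, h12, h14, h16, h18, h20, h22, h24, h26, h28, h30, h32, mul_zero, zero_mul, add_zero, zero_add, neg_zero, sub_zero, sub_self])))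
  have p2 : Push (R.X28 1) (R.toRelF4.RNF1 (0) (0) (0) (0) (0) (0) (0) (0) (0) (0) (t) (0) (0) (0) (0) (0) (0) (0) (0) (0)) (R.toRelF4.RNF1 (0) (0) (0) (0) (0) (0) (0) (0) (0) (0) (t) (0) (0) (0) (0) (0) (0) (0) (0) (0)) := by
    unfold Push; rw [R.st28]; congr 2 <;> (first | rfl | (simp only [mul_zero, zero_mul, add_zero, zero_add, ne_eq, OfNat.ofNat_ne_zero, not_false_eq_true, zero_pow, one_pow, mul_one, one_mul, CharTwo.add_self_eq_zero]; done) | (simp only [mul_zero, zero_mul, add_zero, zero_add, ne_eq, OfNat.ofNat_ne_zero, not_false_eq_true, zero_pow, one_pow, mul_one, one_mul, CharTwo.add_self_eq_zero]; (first | rfl | ring1 | (rw [← sub_eq_zero]; ring_nf; simp only [h2, h4, h6, h8, h10, h12, h14, h16, h18, h20, h22, h24, h26, h28, h30, h32, mul_zero, zero_mul, add_zero, zero_add, neg_zero, sub_zero, sub_self]))) | (first | rfl | ring1 | (rw [← sub_eq_zero]; ring_nf; simp only [h2, h4, h6, h8, h10, h12, h14, h16, h18, h20, h22, h24, h26, h28, h30, h32, mul_zero,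 zero_mul, add_zero, zero_add, neg_zero, sub_zero, sub_self])))
  have p3 : Push (R.X19 1) (R.toRelF4.RNF1 (0) (0) (0) (0) (0) (0) (0) (0) (0) (0) (t) (0) (0) (0) (0) (0) (0) (0) (0) (0)) (R.toRelF4.RNF1 (0) (0) (0) (0) (0) (0) (0) (0) (0) (0) (t) (0) (0) (0) (0) (0) (0) (0) (0) (0)) := by
    unfold Push; rw [R.st19]; congr 2 <;> (first | rfl | (simp only [mul_zero, zero_mul, add_zero, zero_add, ne_eq, OfNat.ofNat_ne_zero, not_false_eq_true, zero_pow, one_pow, mul_one, one_mul, CharTwo.add_self_eq_zero]; done) | (simp only [mul_zero, zero_mul, add_zero, zero_add, ne_eq, OfNat.ofNat_ne_zero, not_false_eq_true, zero_pow, one_pow, mul_one, one_mul, CharTwo.add_self_eq_zero]; (first | rfl | ring1 | (rw [← sub_eq_zero]; ring_nf; simp only [h2, h4, h6, h8, h10, h12, h14, h16, h18, h20, h22, h24, h26, h28, h30, h32, mul_zero, zero_mul, add_zero, zero_add, neg_zero, sub_zero, sub_self]))) | (first | rfl | ring1 | (rw [← sub_eq_zero]; ring_nf; simp only [h2, h4, h6, h8, h10,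 h12, h14, h16, h18, h20, h22, h24, h26, h28, h30, h32, mul_zero, zero_mul, add_zero, zero_add, neg_zero, sub_zero, sub_self])))
  have p4 : Push (R.X22 1) (R.toRelF4.RNF1 (0) (0) (0) (0) (0) (0) (0) (0) (0) (0) (t) (0) (0) (0) (0) (0) (0) (0) (0) (0)) (R.toRelF4.RNF1 (0) (0) (0) (0) (0) (0) (0) (0) (0) (0) (t) (0) (0) (0) (0) (0) (0) (0) (0) (0)) := by
    unfold Push; rw [R.st22]; congr 2 <;> (first | rfl | (simp only [mul_zero, zero_mul, add_zero, zero_add, ne_eq, OfNat.ofNat_ne_zero, not_false_eq_true, zero_pow, one_pow, mul_one, one_mul, CharTwo.add_self_eq_zero]; done) | (simp only [mul_zero, zero_mul, add_zero, zero_add, ne_eq, OfNat.ofNat_ne_zero, not_false_eq_true, zero_pow, one_pow, mul_one, one_mul, CharTwo.add_self_eq_zero]; (first | rfl | ring1 | (rw [← sub_eq_zero]; ring_nf; simp only [h2, h4, h6, h8, h10, h12, h14, h16, h18, h20, h22, h24, h26, h28, h30, h32, mul_zero, zero_mul, add_zero, zero_add, neg_zero, sub_zero, sub_self]))) | (first | rfl | ring1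 | (rw [← sub_eq_zero]; ring_nf; simp only [h2, h4, h6, h8, h10, h12, h14, h16, h18, h20, h22, h24, h26, h28, h30, h32, mul_zero, zero_mul, add_zero, zero_add, neg_zero, sub_zero, sub_self])))
  have p5 : Push (R.X20 1) (R.toRelF4.RNF1 (0) (0) (0) (0) (0) (0) (0) (0) (0) (0) (t) (0) (0) (0) (0) (0) (0) (0) (0) (0)) (R.toRelF4.RNF1 (0) (0) (0) (0) (0) (0) (0) (0) (0) (0) (t) (0) (0) (0) (0) (0) (0) (0) (0) (0)) := by
    unfold Push; rw [R.st20]; congr 2 <;> (first | rfl | (simp only [mul_zero, zero_mul, add_zero, zero_add, ne_eq, OfNat.ofNat_ne_zero, not_false_eq_true, zero_pow, one_pow, mul_one, one_mul, CharTwo.add_self_eq_zero]; done) | (simp only [mul_zero, zero_mul, add_zero, zero_add, ne_eq, OfNat.ofNat_ne_zero, not_false_eq_true, zero_pow, one_pow, mul_one, one_mul, CharTwo.add_self_eq_zero]; (first | rfl | ring1 | (rw [← sub_eq_zero]; ring_nf; simp only [h2, h4, h6, h8, h10, h12, h14, h16, h18, h20, h22, h24, h26, h28, h30, h32, mul_zero, zero_mul, add_zero,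 zero_add, neg_zero, sub_zero, sub_self]))) | (first | rfl | ring1 | (rw [← sub_eq_zero]; ring_nf; simp only [h2, h4, h6, h8, h10, h12, h14, h16, h18, h20, h22, h24, h26, h28, h30, h32, mul_zero, zero_mul, add_zero, zero_add, neg_zero, sub_zero, sub_self])))
  have p6 : Push (R.X27 1) (R.toRelF4.RNF1 (0) (0) (0) (0) (0) (0) (0) (0) (0) (0) (t) (0) (0) (0) (0) (0) (0) (0) (0) (0)) (R.toRelF4.RNF1 (0) (0) (0) (0) (0) (0) (0) (0) (0) (0) (t) (0) (0) (0) (0) (0) (0) (0) (0) (0)) := by
    unfold Push; rw [R.st27]; congr 2 <;> (first | rfl | (simp only [mul_zero, zero_mul, add_zero, zero_add, ne_eq, OfNat.ofNat_ne_zero, not_false_eq_true, zero_pow, one_pow, mul_one, one_mul, CharTwo.add_self_eq_zero]; done) | (simp only [mul_zero, zero_mul, add_zero, zero_add, ne_eq, OfNat.ofNat_ne_zero, not_false_eq_true, zero_pow, one_pow, mul_one, one_mul, CharTwo.add_self_eq_zero]; (first | rfl | ring1 | (rw [← sub_eq_zero]; ring_nf; simp only [h2, h4, h6, h8, h10, h12, h14, h16, h18,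 h20, h22, h24, h26, h28, h30, h32, mul_zero, zero_mul, add_zero, zero_add, neg_zero, sub_zero, sub_self]))) | (first | rfl | ring1 | (rw [← sub_eq_zero]; ring_nf; simp only [h2, h4, h6, h8, h10, h12, h14, h16, h18, h20, h22, h24, h26, h28, h30, h32, mul_zero, zero_mul, add_zero, zero_add, neg_zero, sub_zero, sub_self])))
  have p7 : Push (R.X25 1) (R.toRelF4.RNF1 (0) (0) (0) (0) (0) (0) (0) (0) (0) (0) (t) (0) (0) (0) (0) (0) (0) (0) (0) (0)) (R.toRelF4.RNF1 (0) (0) (0) (0) (0) (0) (0) (0) (0) (0) (t) (0) (0) (0) (0) (0) (0) (0) (0) (0)) := by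
    unfold Push; rw [R.st25]; congr 2 <;> (first | rfl | (simp only [mul_zero, zero_mul, add_zero, zero_add, ne_eq, OfNat.ofNat_ne_zero, not_false_eq_true, zero_pow, one_pow, mul_one, one_mul, CharTwo.add_self_eq_zero]; done) | (simp only [mul_zero, zero_mul, add_zero, zero_add, ne_eq, OfNat.ofNat_ne_zero, not_false_eq_true, zero_pow, one_pow, mul_one, one_mul, CharTwo.add_self_eq_zero]; (first | rfl | ring1 | (rw [← sub_eq_zero]; ring_nf; simp only [h2, h4, h6, h8, h10, h12, h14, h16, h18, h20, h22, h24, h26, h28, h30, h32, mul_zero, zero_mul, add_zero, zero_add, neg_zero, sub_zero, sub_self]))) | (first | rfl | ring1 | (rw [← sub_eq_zero]; ring_nf; simp only [h2, h4, h6, h8, h10, h12, h14, h16, h18, h20, h22, h24, h26, h28, h30, h32, mul_zero, zero_mul, add_zero, zero_add, neg_zero, sub_zero, sub_self])))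
  have p8 : Push (R.X28 1) (R.toRelF4.RNF1 (0) (0) (0) (0) (0) (0) (0) (0) (0) (0) (t) (0) (0) (0) (0) (0) (0) (0) (0) (0)) (R.toRelF4.RNF1 (0) (0) (0) (0) (0) (0) (0) (0) (0) (0) (t) (0) (0) (0) (0) (0) (0) (0) (0) (0)) := by
    unfold Push; rw [R.st28]; congr 2 <;> (first | rfl | (simp only [mul_zero, zero_mul, add_zero, zero_add, ne_eq, OfNat.ofNat_ne_zero, not_false_eq_true, zero_pow, one_pow, mul_one, one_mul, CharTwo.add_self_eq_zero]; done) | (simp only [mul_zero, zero_mul, add_zero, zero_add, ne_eq, OfNat.ofNat_ne_zero, not_false_eq_true, zero_pow, one_pow, mul_one, one_mul, CharTwo.add_self_eq_zero]; (first | rfl | ring1 | (rw [← sub_eq_zero]; ring_nf; simp only [h2, h4, h6, h8, h10, h12, h14, h16, h18, h20, h22, h24, h26, h28, h30, h32, mul_zero, zero_mul, add_zero, zero_add, neg_zero, sub_zero, sub_self]))) | (first | rfl | ring1 | (rw [← sub_eq_zero]; ring_nf; simp only [h2, h4, h6, h8, h10, h12, h14, h16, h18, h20, h22, h24, h26, h28, h30, h32, mul_zero,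 zero_mul, add_zero, zero_add, neg_zero, sub_zero, sub_self])))
  have p := (((((((p1).comp p2).comp p3).comp p4).comp p5).comp p6).comp p7).comp p8
  have hc := Push.conj (g := R.n8) (by unfold n8; simpa only [mul_assoc] using p)
  exact (congrArg (fun y => R.n8 * y * (R.n8)⁻¹) e0).trans (hc.trans e9.symm)

theorem n8_47 (t : K) : R.n8 * R.X47 t * (R.n8)⁻¹ = R.X47 t := by
  have h2 : (2 : K) = 0 := CharTwo.two_eq_zero
  have h4 : (4 : K) = 0 := by linear_combination 2 * h2
  have h6 : (6 : K) = 0 := by linear_combination 3 * h2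
  have h8 : (8 : K) = 0 := by linear_combination 4 * h2
  have h10 : (10 : K) = 0 := by linear_combination 5 * h2
  have h12 : (12 : K) = 0 := by linear_combination 6 * h2
  have h14 : (14 : K) = 0 := by linear_combination 7 * h2
  have h16 : (16 : K) = 0 := by linear_combination 8 * h2
  have h18 : (18 : K) = 0 := by linear_combination 9 * h2
  have h20 : (20 : K) = 0 := by linear_combination 10 * h2
  have h22 : (22 : K) = 0 := by linear_combination 11 * h2
  have h24 : (24 : K) = 0 := by linear_combination 12 * h2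
  have h26 : (26 : K) = 0 := by linear_combination 13 * h2
  have h28 : (28 : K) = 0 := by linear_combination 14 * h2
  have h30 : (30 : K) = 0 := by linear_combination 15 * h2
  have h32 : (32 : K) = 0 := by linear_combination 16 * h2
  have e0 : R.X47 t = R.toRelF4.RNF1 (0) (0) (0) (0) (0) (0) (0) (0) (0) (0) (0) (t) (0) (0) (0) (0) (0) (0) (0) (0) := by
    unfold RelF4.RNF1; simp only [RelF4.zero33, RelF4.zero24, RelF4.zero34, RelF4.zero26, RelF4.zero36, RelF4.zero42, RelF4.zero38, RelF4.zero43, RelF4.zero29, RelF4.zero41, RelF4.zero44, RelF4.zero47, RelF4.zero39, RelF4.zero45, RelF4.zero35, RelF4.zero31, RelF4.zero40, RelF4.zero46, RelF4.zero37, RelF4.zero32, one_mul, mul_one]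
  have e9 : R.X47 t = R.toRelF4.RNF1 (0) (0) (0) (0) (0) (0) (0) (0) (0) (0) (0) (t) (0) (0) (0) (0) (0) (0) (0) (0) := by
    unfold RelF4.RNF1; simp only [RelF4.zero33, RelF4.zero24, RelF4.zero34, RelF4.zero26, RelF4.zero36, RelF4.zero42, RelF4.zero38, RelF4.zero43, RelF4.zero29, RelF4.zero41, RelF4.zero44, RelF4.zero47, RelF4.zero39, RelF4.zero45, RelF4.zero35, RelF4.zero31, RelF4.zero40, RelF4.zero46, RelF4.zero37, RelF4.zero32, one_mul, mul_one]
  have p1 : Push (R.X30 1) (R.toRelF4.RNF1 (0) (0) (0) (0) (0) (0) (0) (0) (0) (0) (0) (t) (0) (0) (0) (0) (0) (0) (0) (0)) (R.toRelF4.RNF1 (0) (0) (0) (0) (0) (0) (0) (0) (0) (0) (0) (t) (0) (0) (0) (0) (0) (0) (0) (0)) := by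
    unfold Push; rw [R.st30]; congr 2 <;> (first | rfl | (simp only [mul_zero, zero_mul, add_zero, zero_add, ne_eq, OfNat.ofNat_ne_zero, not_false_eq_true, zero_pow, one_pow, mul_one, one_mul, CharTwo.add_self_eq_zero]; done) | (simp only [mul_zero, zero_mul, add_zero, zero_add, ne_eq, OfNat.ofNat_ne_zero, not_false_eq_true, zero_pow, one_pow, mul_one, one_mul, CharTwo.add_self_eq_zero]; (first | rfl | ring1 | (rw [← sub_eq_zero]; ring_nf; simp only [h2, h4, h6, h8, h10, h12, h14, h16, h18, h20, h22, h24, h26, h28, h30, h32, mul_zero, zero_mul, add_zero, zero_add, neg_zero, sub_zero, sub_self]))) | (first | rfl | ring1 | (rw [← sub_eq_zero]; ring_nf; simp only [h2, h4, h6, h8, h10, h12, h14, h16, h18, h20, h22, h24, h26, h28, h30, h32, mul_zero, zero_mul, add_zero, zero_add, neg_zero, sub_zero, sub_self])))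
  have p2 : Push (R.X28 1) (R.toRelF4.RNF1 (0) (0) (0) (0) (0) (0) (0) (0) (0) (0) (0) (t) (0) (0) (0) (0) (0) (0) (0) (0)) (R.toRelF4.RNF1 (0) (0) (0) (0) (0) (0) (0) (0) (0) (0) (0) (t) (0) (0) (0) (0) (0) (0) (0) (0)) := by
    unfold Push; rw [R.st28]; congr 2 <;> (first | rfl | (simp only [mul_zero, zero_mul, add_zero, zero_add, ne_eq, OfNat.ofNat_ne_zero, not_false_eq_true, zero_pow, one_pow, mul_one, one_mul, CharTwo.add_self_eq_zero]; done) | (simp only [mul_zero, zero_mul, add_zero, zero_add, ne_eq, OfNat.ofNat_ne_zero, not_false_eq_true, zero_pow, one_pow, mul_one, one_mul, CharTwo.add_self_eq_zero]; (first | rfl | ring1 | (rw [← sub_eq_zero]; ring_nf; simp only [h2, h4, h6, h8, h10, h12, h14, h16, h18, h20, h22, h24, h26, h28, h30, h32, mul_zero, zero_mul, add_zero, zero_add, neg_zero, sub_zero, sub_self]))) | (first | rfl | ring1 | (rw [← sub_eq_zero]; ring_nf; simp only [h2, h4, h6, h8, h10, h12, h14, h16, h18, h20, h22, h24, h26, h28, h30, h32, mul_zero,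 zero_mul, add_zero, zero_add, neg_zero, sub_zero, sub_self])))
  have p3 : Push (R.X19 1) (R.toRelF4.RNF1 (0) (0) (0) (0) (0) (0) (0) (0) (0) (0) (0) (t) (0) (0) (0) (0) (0) (0) (0) (0)) (R.toRelF4.RNF1 (0) (0) (0) (0) (0) (0) (0) (0) (0) (0) (0) (t) (0) (0) (0) (0) (0) (0) (0) (0)) := by
    unfold Push; rw [R.st19]; congr 2 <;> (first | rfl | (simp only [mul_zero, zero_mul, add_zero, zero_add, ne_eq, OfNat.ofNat_ne_zero, not_false_eq_true, zero_pow, one_pow, mul_one, one_mul, CharTwo.add_self_eq_zero]; done) | (simp only [mul_zero, zero_mul, add_zero, zero_add, ne_eq, OfNat.ofNat_ne_zero, not_false_eq_true, zero_pow, one_pow, mul_one, one_mul, CharTwo.add_self_eq_zero]; (first | rfl | ring1 | (rw [← sub_eq_zero]; ring_nf; simp only [h2, h4, h6, h8, h10, h12, h14, h16, h18, h20, h22, h24, h26, h28, h30, h32, mul_zero, zero_mul, add_zero, zero_add, neg_zero, sub_zero, sub_self]))) | (first | rfl | ring1 | (rw [← sub_eq_zero]; ring_nf; simp only [h2, h4, h6, h8, h10,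 h12, h14, h16, h18, h20, h22, h24, h26, h28, h30, h32, mul_zero, zero_mul, add_zero, zero_add, neg_zero, sub_zero, sub_self])))
  have p4 : Push (R.X22 1) (R.toRelF4.RNF1 (0) (0) (0) (0) (0) (0) (0) (0) (0) (0) (0) (t) (0) (0) (0) (0) (0) (0) (0) (0)) (R.toRelF4.RNF1 (0) (0) (0) (0) (0) (0) (0) (0) (0) (0) (0) (t) (0) (0) (0) (0) (0) (0) (0) (0)) := by
    unfold Push; rw [R.st22]; congr 2 <;> (first | rfl | (simp only [mul_zero, zero_mul, add_zero, zero_add, ne_eq, OfNat.ofNat_ne_zero, not_false_eq_true, zero_pow, one_pow, mul_one, one_mul, CharTwo.add_self_eq_zero]; done) | (simp only [mul_zero, zero_mul, add_zero, zero_add, ne_eq, OfNat.ofNat_ne_zero, not_false_eq_true, zero_pow, one_pow, mul_one, one_mul, CharTwo.add_self_eq_zero]; (first | rfl | ring1 | (rw [← sub_eq_zero]; ring_nf; simp only [h2, h4, h6, h8, h10, h12, h14, h16, h18, h20, h22, h24, h26, h28, h30, h32, mul_zero, zero_mul, add_zero, zero_add, neg_zero, sub_zero, sub_self]))) | (first | rfl | ring1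 | (rw [← sub_eq_zero]; ring_nf; simp only [h2, h4, h6, h8, h10, h12, h14, h16, h18, h20, h22, h24, h26, h28, h30, h32, mul_zero, zero_mul, add_zero, zero_add, neg_zero, sub_zero, sub_self])))
  have p5 : Push (R.X20 1) (R.toRelF4.RNF1 (0) (0) (0) (0) (0) (0) (0) (0) (0) (0) (0) (t) (0) (0) (0) (0) (0) (0) (0) (0)) (R.toRelF4.RNF1 (0) (0) (0) (0) (0) (0) (0) (0) (0) (0) (0) (t) (0) (0) (0) (0) (0) (0) (0) (0)) := by
    unfold Push; rw [R.st20]; congr 2 <;> (first | rfl | (simp only [mul_zero, zero_mul, add_zero, zero_add, ne_eq, OfNat.ofNat_ne_zero, not_false_eq_true, zero_pow, one_pow, mul_one, one_mul, CharTwo.add_self_eq_zero]; done) | (simp only [mul_zero, zero_mul, add_zero, zero_add, ne_eq, OfNat.ofNat_ne_zero, not_false_eq_true, zero_pow, one_pow, mul_one, one_mul, CharTwo.add_self_eq_zero]; (first | rfl | ring1 | (rw [← sub_eq_zero]; ring_nf; simp only [h2, h4, h6, h8, h10, h12, h14, h16, h18, h20, h22, h24, h26, h28, h30, h32, mul_zero, zero_mul, add_zero,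 zero_add, neg_zero, sub_zero, sub_self]))) | (first | rfl | ring1 | (rw [← sub_eq_zero]; ring_nf; simp only [h2, h4, h6, h8, h10, h12, h14, h16, h18, h20, h22, h24, h26, h28, h30, h32, mul_zero, zero_mul, add_zero, zero_add, neg_zero, sub_zero, sub_self])))
  have p6 : Push (R.X27 1) (R.toRelF4.RNF1 (0) (0) (0) (0) (0) (0) (0) (0) (0) (0) (0) (t) (0) (0) (0) (0) (0) (0) (0) (0)) (R.toRelF4.RNF1 (0) (0) (0) (0) (0) (0) (0) (0) (0) (0) (0) (t) (0) (0) (0) (0) (0) (0) (0) (0)) := by
    unfold Push; rw [R.st27]; congr 2 <;> (first | rfl | (simp only [mul_zero, zero_mul, add_zero, zero_add, ne_eq, OfNat.ofNat_ne_zero, not_false_eq_true, zero_pow, one_pow, mul_one, one_mul, CharTwo.add_self_eq_zero]; done) | (simp only [mul_zero, zero_mul, add_zero, zero_add, ne_eq, OfNat.ofNat_ne_zero, not_false_eq_true, zero_pow, one_pow, mul_one, one_mul, CharTwo.add_self_eq_zero]; (first | rfl | ring1 | (rw [← sub_eq_zero]; ring_nf; simp only [h2, h4, h6, h8, h10, h12, h14, h16, h18,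 h20, h22, h24, h26, h28, h30, h32, mul_zero, zero_mul, add_zero, zero_add, neg_zero, sub_zero, sub_self]))) | (first | rfl | ring1 | (rw [← sub_eq_zero]; ring_nf; simp only [h2, h4, h6, h8, h10, h12, h14, h16, h18, h20, h22, h24, h26, h28, h30, h32, mul_zero, zero_mul, add_zero, zero_add, neg_zero, sub_zero, sub_self])))
  have p7 : Push (R.X25 1) (R.toRelF4.RNF1 (0) (0) (0) (0) (0) (0) (0) (0) (0) (0) (0) (t) (0) (0) (0) (0) (0) (0) (0) (0)) (R.toRelF4.RNF1 (0) (0) (0) (0) (0) (0) (0) (0) (0) (0) (0) (t) (0) (0) (0) (0) (0) (0) (0) (0)) := by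
    unfold Push; rw [R.st25]; congr 2 <;> (first | rfl | (simp only [mul_zero, zero_mul, add_zero, zero_add, ne_eq, OfNat.ofNat_ne_zero, not_false_eq_true, zero_pow, one_pow, mul_one, one_mul, CharTwo.add_self_eq_zero]; done) | (simp only [mul_zero, zero_mul, add_zero, zero_add, ne_eq, OfNat.ofNat_ne_zero, not_false_eq_true, zero_pow, one_pow, mul_one, one_mul, CharTwo.add_self_eq_zero]; (first | rfl | ring1 | (rw [← sub_eq_zero]; ring_nf; simp only [h2, h4, h6, h8, h10, h12, h14, h16, h18, h20, h22, h24, h26, h28, h30, h32, mul_zero, zero_mul, add_zero, zero_add, neg_zero, sub_zero, sub_self]))) | (first | rfl | ring1 | (rw [← sub_eq_zero]; ring_nf; simp only [h2, h4, h6, h8, h10, h12, h14, h16, h18, h20, h22, h24, h26, h28, h30, h32, mul_zero, zero_mul, add_zero, zero_add, neg_zero, sub_zero, sub_self])))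
  have p8 : Push (R.X28 1) (R.toRelF4.RNF1 (0) (0) (0) (0) (0) (0) (0) (0) (0) (0) (0) (t) (0) (0) (0) (0) (0) (0) (0) (0)) (R.toRelF4.RNF1 (0) (0) (0) (0) (0) (0) (0) (0) (0) (0) (0) (t) (0) (0) (0) (0) (0) (0) (0) (0)) := by
    unfold Push; rw [R.st28]; congr 2 <;> (first | rfl | (simp only [mul_zero, zero_mul, add_zero, zero_add, ne_eq, OfNat.ofNat_ne_zero, not_false_eq_true, zero_pow, one_pow, mul_one, one_mul, CharTwo.add_self_eq_zero]; done) | (simp only [mul_zero, zero_mul, add_zero, zero_add, ne_eq, OfNat.ofNat_ne_zero, not_false_eq_true, zero_pow, one_pow, mul_one, one_mul, CharTwo.add_self_eq_zero]; (first | rfl | ring1 | (rw [← sub_eq_zero]; ring_nf; simp only [h2, h4, h6, h8, h10, h12, h14, h16, h18, h20, h22, h24, h26, h28, h30, h32, mul_zero, zero_mul, add_zero, zero_add, neg_zero, sub_zero, sub_self]))) | (first | rfl | ring1 | (rw [← sub_eq_zero]; ring_nf; simp only [h2, h4, h6, h8, h10, h12, h14, h16, h18, h20, h22, h24, h26, h28, h30, h32, mul_zero,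 zero_mul, add_zero, zero_add, neg_zero, sub_zero, sub_self])))
  have p := (((((((p1).comp p2).comp p3).comp p4).comp p5).comp p6).comp p7).comp p8
  have hc := Push.conj (g := R.n8) (by unfold n8; simpa only [mul_assoc] using p)
  exact (congrArg (fun y => R.n8 * y * (R.n8)⁻¹) e0).trans (hc.trans e9.symm)

theorem n8_39 (t : K) : R.n8 * R.X39 t * (R.n8)⁻¹ = R.X38 t := by
  have h2 : (2 : K) = 0 := CharTwo.two_eq_zero
  have h4 : (4 : K) = 0 := by linear_combination 2 * h2
  have h6 : (6 : K) = 0 := by linear_combination 3 * h2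
  have h8 : (8 : K) = 0 := by linear_combination 4 * h2
  have h10 : (10 : K) = 0 := by linear_combination 5 * h2
  have h12 : (12 : K) = 0 := by linear_combination 6 * h2
  have h14 : (14 : K) = 0 := by linear_combination 7 * h2
  have h16 : (16 : K) = 0 := by linear_combination 8 * h2
  have h18 : (18 : K) = 0 := by linear_combination 9 * h2
  have h20 : (20 : K) = 0 := by linear_combination 10 * h2
  have h22 : (22 : K) = 0 := by linear_combination 11 * h2
  have h24 : (24 : K) = 0 := by linear_combination 12 * h2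
  have h26 : (26 : K) = 0 := by linear_combination 13 * h2
  have h28 : (28 : K) = 0 := by linear_combination 14 * h2
  have h30 : (30 : K) = 0 := by linear_combination 15 * h2
  have h32 : (32 : K) = 0 := by linear_combination 16 * h2
  have e0 : R.X39 t = R.toRelF4.RNF1 (0) (0) (0) (0) (0) (0) (0) (0) (0) (0) (0) (0) (t) (0) (0) (0) (0) (0) (0) (0) := by
    unfold RelF4.RNF1; simp only [RelF4.zero33, RelF4.zero24, RelF4.zero34, RelF4.zero26, RelF4.zero36, RelF4.zero42, RelF4.zero38, RelF4.zero43, RelF4.zero29, RelF4.zero41, RelF4.zero44, RelF4.zero47, RelF4.zero39, RelF4.zero45, RelF4.zero35, RelF4.zero31, RelF4.zero40, RelF4.zero46, RelF4.zero37, RelF4.zero32, one_mul, mul_one]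
  have e9 : R.X38 t = R.toRelF4.RNF1 (0) (0) (0) (0) (0) (0) (t) (0) (0) (0) (0) (0) (0) (0) (0) (0) (0) (0) (0) (0) := by
    unfold RelF4.RNF1; simp only [RelF4.zero33, RelF4.zero24, RelF4.zero34, RelF4.zero26, RelF4.zero36, RelF4.zero42, RelF4.zero38, RelF4.zero43, RelF4.zero29, RelF4.zero41, RelF4.zero44, RelF4.zero47, RelF4.zero39, RelF4.zero45, RelF4.zero35, RelF4.zero31, RelF4.zero40, RelF4.zero46, RelF4.zero37, RelF4.zero32, one_mul, mul_one]
  have p1 : Push (R.X30 1) (R.toRelF4.RNF1 (0) (0) (0) (0) (0) (0) (0) (0) (0) (0) (0) (0) (t) (0) (0) (0) (0) (0) (0) (0)) (R.toRelF4.RNF1 (0) (0) (0) (0) (0) (0) (0) (0) (0) (0) (0) (0) (t) (0) (0) (0) (0) (0) (0) (0)) := by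
    unfold Push; rw [R.st30]; congr 2 <;> (first | rfl | (simp only [mul_zero, zero_mul, add_zero, zero_add, ne_eq, OfNat.ofNat_ne_zero, not_false_eq_true, zero_pow, one_pow, mul_one, one_mul, CharTwo.add_self_eq_zero]; done) | (simp only [mul_zero, zero_mul, add_zero, zero_add, ne_eq, OfNat.ofNat_ne_zero, not_false_eq_true, zero_pow, one_pow, mul_one, one_mul, CharTwo.add_self_eq_zero]; (first | rfl | ring1 | (rw [← sub_eq_zero]; ring_nf; simp only [h2, h4, h6, h8, h10, h12, h14, h16, h18, h20, h22, h24, h26, h28, h30, h32, mul_zero, zero_mul, add_zero, zero_add, neg_zero, sub_zero, sub_self]))) | (first | rfl | ring1 | (rw [← sub_eq_zero]; ring_nf; simp only [h2, h4, h6, h8, h10, h12, h14, h16, h18, h20, h22, h24, h26, h28, h30, h32, mul_zero, zero_mul, add_zero, zero_add, neg_zero, sub_zero, sub_self])))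
  have p2 : Push (R.X28 1) (R.toRelF4.RNF1 (0) (0) (0) (0) (0) (0) (0) (0) (0) (0) (0) (0) (t) (0) (0) (0) (0) (0) (0) (0)) (R.toRelF4.RNF1 (0) (0) (0) (0) (0) (0) (0) (0) (0) (0) (0) (0) (t) (0) (0) (0) (0) (0) (0) (0)) := by
    unfold Push; rw [R.st28]; congr 2 <;> (first | rfl | (simp only [mul_zero, zero_mul, add_zero, zero_add, ne_eq, OfNat.ofNat_ne_zero, not_false_eq_true, zero_pow, one_pow, mul_one, one_mul, CharTwo.add_self_eq_zero]; done) | (simp only [mul_zero, zero_mul, add_zero, zero_add, ne_eq, OfNat.ofNat_ne_zero, not_false_eq_true, zero_pow, one_pow, mul_one, one_mul, CharTwo.add_self_eq_zero]; (first | rfl | ring1 | (rw [← sub_eq_zero]; ring_nf; simp only [h2, h4, h6, h8, h10, h12, h14, h16, h18, h20, h22, h24, h26, h28, h30, h32, mul_zero, zero_mul, add_zero, zero_add, neg_zero, sub_zero, sub_self]))) | (first | rfl | ring1 | (rw [← sub_eq_zero]; ring_nf; simp only [h2, h4, h6, h8, h10, h12, h14, h16, h18, h20, h22, h24, h26, h28, h30, h32, mul_zero,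 zero_mul, add_zero, zero_add, neg_zero, sub_zero, sub_self])))
  have p3 : Push (R.X19 1) (R.toRelF4.RNF1 (0) (0) (0) (0) (0) (0) (0) (0) (0) (0) (0) (0) (t) (0) (0) (0) (0) (0) (0) (0)) (R.toRelF4.RNF1 (0) (0) (0) (0) (t) (0) (0) (0) (0) (0) (0) (0) (t) (0) (0) (0) (0) (0) (0) (0)) := by
    unfold Push; rw [R.st19]; congr 2 <;> (first | rfl | (simp only [mul_zero, zero_mul, add_zero, zero_add, ne_eq, OfNat.ofNat_ne_zero, not_false_eq_true, zero_pow, one_pow, mul_one, one_mul, CharTwo.add_self_eq_zero]; done) | (simp only [mul_zero, zero_mul, add_zero, zero_add, ne_eq, OfNat.ofNat_ne_zero, not_false_eq_true, zero_pow, one_pow, mul_one, one_mul, CharTwo.add_self_eq_zero]; (first | rfl | ring1 | (rw [← sub_eq_zero]; ring_nf; simp only [h2, h4, h6, h8, h10, h12, h14, h16, h18, h20, h22, h24, h26, h28, h30, h32, mul_zero, zero_mul, add_zero, zero_add, neg_zero, sub_zero, sub_self]))) | (first | rfl | ring1 | (rw [← sub_eq_zero]; ring_nf; simp only [h2, h4, h6, h8, h10,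 h12, h14, h16, h18, h20, h22, h24, h26, h28, h30, h32, mul_zero, zero_mul, add_zero, zero_add, neg_zero, sub_zero, sub_self])))
  have p4 : Push (R.X22 1) (R.toRelF4.RNF1 (0) (0) (0) (0) (t) (0) (0) (0) (0) (0) (0) (0) (t) (0) (0) (0) (0) (0) (0) (0)) (R.toRelF4.RNF1 (0) (0) (0) (0) (t) (0) (t) (0) (0) (0) (0) (t ^ 2) (t) (0) (0) (0) (0) (0) (0) (0)) := by
    unfold Push; rw [R.st22]; congr 2 <;> (first | rfl | (simp only [mul_zero, zero_mul, add_zero, zero_add, ne_eq, OfNat.ofNat_ne_zero, not_false_eq_true, zero_pow, one_pow, mul_one, one_mul, CharTwo.add_self_eq_zero]; done) | (simp only [mul_zero, zero_mul, add_zero, zero_add, ne_eq, OfNat.ofNat_ne_zero, not_false_eq_true, zero_pow, one_pow, mul_one, one_mul, CharTwo.add_self_eq_zero]; (first | rfl | ring1 | (rw [← sub_eq_zero]; ring_nf; simp only [h2, h4, h6, h8, h10, h12, h14, h16, h18, h20, h22, h24, h26, h28, h30, h32, mul_zero, zero_mul, add_zero, zero_add, neg_zero, sub_zero, sub_self]))) | (first | rfl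 | ring1 | (rw [← sub_eq_zero]; ring_nf; simp only [h2, h4, h6, h8, h10, h12, h14, h16, h18, h20, h22, h24, h26, h28, h30, h32, mul_zero, zero_mul, add_zero, zero_add, neg_zero, sub_zero, sub_self])))
  have p5 : Push (R.X20 1) (R.toRelF4.RNF1 (0) (0) (0) (0) (t) (0) (t) (0) (0) (0) (0) (t ^ 2) (t) (0) (0) (0) (0) (0) (0) (0)) (R.toRelF4.RNF1 (0) (0) (0) (0) (0) (0) (t) (0) (0) (0) (0) (t ^ 2) (t) (0) (0) (0) (0) (0) (0) (0)) := by
    unfold Push; rw [R.st20]; congr 2 <;> (first | rfl | (simp only [mul_zero, zero_mul, add_zero, zero_add, ne_eq, OfNat.ofNat_ne_zero, not_false_eq_true, zero_pow, one_pow, mul_one, one_mul, CharTwo.add_self_eq_zero]; done) | (simp only [mul_zero, zero_mul, add_zero, zero_add, ne_eq, OfNat.ofNat_ne_zero, not_false_eq_true, zero_pow, one_pow, mul_one, one_mul, CharTwo.add_self_eq_zero]; (first | rfl | ring1 | (rw [← sub_eq_zero]; ring_nf; simp only [h2, h4, h6, h8, h10, h12, h14, h16, h18, h20, h22, h24, h26, h28, h30, h32, mul_zero, zero_mul,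 add_zero, zero_add, neg_zero, sub_zero, sub_self]))) | (first | rfl | ring1 | (rw [← sub_eq_zero]; ring_nf; simp only [h2, h4, h6, h8, h10, h12, h14, h16, h18, h20, h22, h24, h26, h28, h30, h32, mul_zero, zero_mul, add_zero, zero_add, neg_zero, sub_zero, sub_self])))
  have p6 : Push (R.X27 1) (R.toRelF4.RNF1 (0) (0) (0) (0) (0) (0) (t) (0) (0) (0) (0) (t ^ 2) (t) (0) (0) (0) (0) (0) (0) (0)) (R.toRelF4.RNF1 (0) (0) (0) (0) (0) (0) (t) (0) (0) (0) (0) (t ^ 2) (t) (0) (0) (0) (t) (0) (0) (0)) := by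
    unfold Push; rw [R.st27]; congr 2 <;> (first | rfl | (simp only [mul_zero, zero_mul, add_zero, zero_add, ne_eq, OfNat.ofNat_ne_zero, not_false_eq_true, zero_pow, one_pow, mul_one, one_mul, CharTwo.add_self_eq_zero]; done) | (simp only [mul_zero, zero_mul, add_zero, zero_add, ne_eq, OfNat.ofNat_ne_zero, not_false_eq_true, zero_pow, one_pow, mul_one, one_mul, CharTwo.add_self_eq_zero]; (first | rfl | ring1 | (rw [← sub_eq_zero]; ring_nf; simp only [h2, h4, h6, h8, h10, h12, h14, h16, h18, h20, h22, h24, h26, h28, h30, h32, mul_zero, zero_mul, add_zero, zero_add, neg_zero, sub_zero, sub_self]))) | (first | rfl | ring1 | (rw [← sub_eq_zero]; ring_nf; simp only [h2, h4, h6, h8, h10, h12, h14, h16, h18, h20, h22, h24, h26, h28, h30, h32, mul_zero, zero_mul, add_zero, zero_add, neg_zero, sub_zero, sub_self])))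
  have p7 : Push (R.X25 1) (R.toRelF4.RNF1 (0) (0) (0) (0) (0) (0) (t) (0) (0) (0) (0) (t ^ 2) (t) (0) (0) (0) (t) (0) (0) (0)) (R.toRelF4.RNF1 (0) (0) (0) (0) (0) (0) (t) (0) (0) (0) (0) (0) (0) (0) (0) (0) (t) (0) (0) (0)) := by
    unfold Push; rw [R.st25]; congr 2 <;> (first | rfl | (simp only [mul_zero, zero_mul, add_zero, zero_add, ne_eq, OfNat.ofNat_ne_zero, not_false_eq_true, zero_pow, one_pow, mul_one, one_mul, CharTwo.add_self_eq_zero]; done) | (simp only [mul_zero, zero_mul, add_zero, zero_add, ne_eq, OfNat.ofNat_ne_zero, not_false_eq_true, zero_pow, one_pow, mul_one, one_mul, CharTwo.add_self_eq_zero]; (first | rfl | ring1 | (rw [← sub_eq_zero]; ring_nf; simp only [h2, h4, h6, h8, h10, h12, h14, h16, h18, h20, h22, h24, h26, h28, h30, h32, mul_zero, zero_mul, add_zero, zero_add, neg_zero, sub_zero, sub_self]))) | (first | rfl | ring1 | (rw [← sub_eq_zero]; ring_nf; simp only [h2, h4, h6, h8, h10, h12, h14, h16, h18, h20, h22, h24, h26, h28, h30, h32, mul_zero,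 zero_mul, add_zero, zero_add, neg_zero, sub_zero, sub_self])))
  have p8 : Push (R.X28 1) (R.toRelF4.RNF1 (0) (0) (0) (0) (0) (0) (t) (0) (0) (0) (0) (0) (0) (0) (0) (0) (t) (0) (0) (0)) (R.toRelF4.RNF1 (0) (0) (0) (0) (0) (0) (t) (0) (0) (0) (0) (0) (0) (0) (0) (0) (0) (0) (0) (0)) := by
    unfold Push; rw [R.st28]; congr 2 <;> (first | rfl | (simp only [mul_zero, zero_mul, add_zero, zero_add, ne_eq, OfNat.ofNat_ne_zero, not_false_eq_true, zero_pow, one_pow, mul_one, one_mul, CharTwo.add_self_eq_zero]; done) | (simp only [mul_zero, zero_mul, add_zero, zero_add, ne_eq, OfNat.ofNat_ne_zero, not_false_eq_true, zero_pow, one_pow, mul_one, one_mul, CharTwo.add_self_eq_zero]; (first | rfl | ring1 | (rw [← sub_eq_zero]; ring_nf; simp only [h2, h4, h6, h8, h10, h12, h14, h16, h18, h20, h22, h24, h26, h28, h30, h32, mul_zero, zero_mul, add_zero, zero_add, neg_zero, sub_zero, sub_self]))) | (first | rfl | ring1 | (rw [← sub_eq_zero]; ring_nf; simp only [h2, h4, h6, h8, h10,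 h12, h14, h16, h18, h20, h22, h24, h26, h28, h30, h32, mul_zero, zero_mul, add_zero, zero_add, neg_zero, sub_zero, sub_self])))
  have p := (((((((p1).comp p2).comp p3).comp p4).comp p5).comp p6).comp p7).comp p8
  have hc := Push.conj (g := R.n8) (by unfold n8; simpa only [mul_assoc] using p)
  exact (congrArg (fun y => R.n8 * y * (R.n8)⁻¹) e0).trans (hc.trans e9.symm)

theorem n8_45 (t : K) : R.n8 * R.X45 t * (R.n8)⁻¹ = R.X43 t := by
  have h2 : (2 : K) = 0 := CharTwo.two_eq_zero
  have h4 : (4 : K) = 0 := by linear_combination 2 * h2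
  have h6 : (6 : K) = 0 := by linear_combination 3 * h2
  have h8 : (8 : K) = 0 := by linear_combination 4 * h2
  have h10 : (10 : K) = 0 := by linear_combination 5 * h2
  have h12 : (12 : K) = 0 := by linear_combination 6 * h2
  have h14 : (14 : K) = 0 := by linear_combination 7 * h2
  have h16 : (16 : K) = 0 := by linear_combination 8 * h2
  have h18 : (18 : K) = 0 := by linear_combination 9 * h2
  have h20 : (20 : K) = 0 := by linear_combination 10 * h2
  have h22 : (22 : K) = 0 := by linear_combination 11 * h2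
  have h24 : (24 : K) = 0 := by linear_combination 12 * h2
  have h26 : (26 : K) = 0 := by linear_combination 13 * h2
  have h28 : (28 : K) = 0 := by linear_combination 14 * h2
  have h30 : (30 : K) = 0 := by linear_combination 15 * h2
  have h32 : (32 : K) = 0 := by linear_combination 16 * h2
  have e0 : R.X45 t = R.toRelF4.RNF1 (0) (0) (0) (0) (0) (0) (0) (0) (0) (0) (0) (0) (0) (t) (0) (0) (0) (0) (0) (0) := by
    unfold RelF4.RNF1; simp only [RelF4.zero33, RelF4.zero24, RelF4.zero34, RelF4.zero26, RelF4.zero36, RelF4.zero42, RelF4.zero38, RelF4.zero43, RelF4.zero29, RelF4.zero41, RelF4.zero44, RelF4.zero47, RelF4.zero39, RelF4.zero45, RelF4.zero35, RelF4.zero31, RelF4.zero40, RelF4.zero46, RelF4.zero37, RelF4.zero32, one_mul, mul_one]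
  have e9 : R.X43 t = R.toRelF4.RNF1 (0) (0) (0) (0) (0) (0) (0) (t) (0) (0) (0) (0) (0) (0) (0) (0) (0) (0) (0) (0) := by
    unfold RelF4.RNF1; simp only [RelF4.zero33, RelF4.zero24, RelF4.zero34, RelF4.zero26, RelF4.zero36, RelF4.zero42, RelF4.zero38, RelF4.zero43, RelF4.zero29, RelF4.zero41, RelF4.zero44, RelF4.zero47, RelF4.zero39, RelF4.zero45, RelF4.zero35, RelF4.zero31, RelF4.zero40, RelF4.zero46, RelF4.zero37, RelF4.zero32, one_mul, mul_one]
  have p1 : Push (R.X30 1) (R.toRelF4.RNF1 (0) (0) (0) (0) (0) (0) (0) (0) (0) (0) (0) (0) (0) (t) (0) (0) (0) (0) (0) (0)) (R.toRelF4.RNF1 (0) (0) (0) (0) (0) (0) (0) (0) (0) (0) (0) (0) (0) (t) (0) (0) (0) (0) (0) (0)) := by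
    unfold Push; rw [R.st30]; congr 2 <;> (first | rfl | (simp only [mul_zero, zero_mul, add_zero, zero_add, ne_eq, OfNat.ofNat_ne_zero, not_false_eq_true, zero_pow, one_pow, mul_one, one_mul, CharTwo.add_self_eq_zero]; done) | (simp only [mul_zero, zero_mul, add_zero, zero_add, ne_eq, OfNat.ofNat_ne_zero, not_false_eq_true, zero_pow, one_pow, mul_one, one_mul, CharTwo.add_self_eq_zero]; (first | rfl | ring1 | (rw [← sub_eq_zero]; ring_nf; simp only [h2, h4, h6, h8, h10, h12, h14, h16, h18, h20, h22, h24, h26, h28, h30, h32, mul_zero, zero_mul, add_zero, zero_add, neg_zero, sub_zero, sub_self]))) | (first | rfl | ring1 | (rw [← sub_eq_zero]; ring_nf; simp only [h2, h4, h6, h8, h10, h12, h14, h16, h18, h20, h22, h24, h26, h28, h30, h32, mul_zero, zero_mul, add_zero, zero_add, neg_zero, sub_zero, sub_self])))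
  have p2 : Push (R.X28 1) (R.toRelF4.RNF1 (0) (0) (0) (0) (0) (0) (0) (0) (0) (0) (0) (0) (0) (t) (0) (0) (0) (0) (0) (0)) (R.toRelF4.RNF1 (0) (0) (0) (0) (0) (0) (0) (0) (0) (0) (0) (0) (0) (t) (0) (0) (0) (0) (0) (0)) := by
    unfold Push; rw [R.st28]; congr 2 <;> (first | rfl | (simp only [mul_zero, zero_mul, add_zero, zero_add, ne_eq, OfNat.ofNat_ne_zero, not_false_eq_true, zero_pow, one_pow, mul_one, one_mul, CharTwo.add_self_eq_zero]; done) | (simp only [mul_zero, zero_mul, add_zero, zero_add, ne_eq, OfNat.ofNat_ne_zero, not_false_eq_true, zero_pow, one_pow, mul_one, one_mul, CharTwo.add_self_eq_zero]; (first | rfl | ring1 | (rw [← sub_eq_zero]; ring_nf; simp only [h2, h4, h6, h8, h10, h12, h14, h16, h18, h20, h22, h24, h26, h28, h30, h32, mul_zero, zero_mul, add_zero, zero_add, neg_zero, sub_zero, sub_self]))) | (first | rfl | ring1 | (rw [← sub_eq_zero]; ring_nf; simp only [h2, h4, h6, h8, h10, h12, h14, h16, h18, h20, h22, h24, h26, h28, h30, h32, mul_zero,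 zero_mul, add_zero, zero_add, neg_zero, sub_zero, sub_self])))
  have p3 : Push (R.X19 1) (R.toRelF4.RNF1 (0) (0) (0) (0) (0) (0) (0) (0) (0) (0) (0) (0) (0) (t) (0) (0) (0) (0) (0) (0)) (R.toRelF4.RNF1 (0) (0) (0) (0) (0) (0) (0) (0) (0) (0) (0) (0) (0) (t) (0) (0) (0) (0) (0) (0)) := by
    unfold Push; rw [R.st19]; congr 2 <;> (first | rfl | (simp only [mul_zero, zero_mul, add_zero, zero_add, ne_eq, OfNat.ofNat_ne_zero, not_false_eq_true, zero_pow, one_pow, mul_one, one_mul, CharTwo.add_self_eq_zero]; done) | (simp only [mul_zero, zero_mul, add_zero, zero_add, ne_eq, OfNat.ofNat_ne_zero, not_false_eq_true, zero_pow, one_pow, mul_one, one_mul, CharTwo.add_self_eq_zero]; (first | rfl | ring1 | (rw [← sub_eq_zero]; ring_nf; simp only [h2, h4, h6, h8, h10, h12, h14, h16, h18, h20, h22, h24, h26, h28, h30, h32, mul_zero, zero_mul, add_zero, zero_add, neg_zero, sub_zero, sub_self]))) | (first | rfl | ring1 | (rw [← sub_eq_zero]; ring_nf; simp only [h2, h4, h6, h8, h10,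 h12, h14, h16, h18, h20, h22, h24, h26, h28, h30, h32, mul_zero, zero_mul, add_zero, zero_add, neg_zero, sub_zero, sub_self])))
  have p4 : Push (R.X22 1) (R.toRelF4.RNF1 (0) (0) (0) (0) (0) (0) (0) (0) (0) (0) (0) (0) (0) (t) (0) (0) (0) (0) (0) (0)) (R.toRelF4.RNF1 (0) (0) (0) (0) (0) (0) (0) (0) (0) (0) (0) (0) (0) (t) (0) (0) (0) (0) (0) (0)) := by
    unfold Push; rw [R.st22]; congr 2 <;> (first | rfl | (simp only [mul_zero, zero_mul, add_zero, zero_add, ne_eq, OfNat.ofNat_ne_zero, not_false_eq_true, zero_pow, one_pow, mul_one, one_mul, CharTwo.add_self_eq_zero]; done) | (simp only [mul_zero, zero_mul, add_zero, zero_add, ne_eq, OfNat.ofNat_ne_zero, not_false_eq_true, zero_pow, one_pow, mul_one, one_mul, CharTwo.add_self_eq_zero]; (first | rfl | ring1 | (rw [← sub_eq_zero]; ring_nf; simp only [h2, h4, h6, h8, h10, h12, h14, h16, h18, h20, h22, h24, h26, h28, h30, h32, mul_zero, zero_mul, add_zero, zero_add, neg_zero, sub_zero, sub_self]))) | (first | rfl | ring1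 | (rw [← sub_eq_zero]; ring_nf; simp only [h2, h4, h6, h8, h10, h12, h14, h16, h18, h20, h22, h24, h26, h28, h30, h32, mul_zero, zero_mul, add_zero, zero_add, neg_zero, sub_zero, sub_self])))
  have p5 : Push (R.X20 1) (R.toRelF4.RNF1 (0) (0) (0) (0) (0) (0) (0) (0) (0) (0) (0) (0) (0) (t) (0) (0) (0) (0) (0) (0)) (R.toRelF4.RNF1 (0) (0) (0) (0) (0) (0) (0) (t) (0) (0) (t) (0) (0) (t) (0) (0) (0) (0) (0) (0)) := by
    unfold Push; rw [R.st20]; congr 2 <;> (first | rfl | (simp only [mul_zero, zero_mul, add_zero, zero_add, ne_eq, OfNat.ofNat_ne_zero, not_false_eq_true, zero_pow, one_pow, mul_one, one_mul, CharTwo.add_self_eq_zero]; done) | (simp only [mul_zero, zero_mul, add_zero, zero_add, ne_eq, OfNat.ofNat_ne_zero, not_false_eq_true, zero_pow, one_pow, mul_one, one_mul, CharTwo.add_self_eq_zero]; (first | rfl | ring1 | (rw [← sub_eq_zero]; ring_nf; simp only [h2, h4, h6, h8, h10, h12, h14, h16, h18, h20, h22, h24, h26, h28, h30, h32, mul_zero, zero_mul, add_zero,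 zero_add, neg_zero, sub_zero, sub_self]))) | (first | rfl | ring1 | (rw [← sub_eq_zero]; ring_nf; simp only [h2, h4, h6, h8, h10, h12, h14, h16, h18, h20, h22, h24, h26, h28, h30, h32, mul_zero, zero_mul, add_zero, zero_add, neg_zero, sub_zero, sub_self])))
  have p6 : Push (R.X27 1) (R.toRelF4.RNF1 (0) (0) (0) (0) (0) (0) (0) (t) (0) (0) (t) (0) (0) (t) (0) (0) (0) (0) (0) (0)) (R.toRelF4.RNF1 (0) (0) (0) (0) (0) (0) (0) (t) (0) (0) (0) (0) (0) (0) (0) (0) (0) (0) (0) (0)) := by
    unfold Push; rw [R.st27]; congr 2 <;> (first | rfl | (simp only [mul_zero, zero_mul, add_zero, zero_add, ne_eq, OfNat.ofNat_ne_zero, not_false_eq_true, zero_pow, one_pow, mul_one, one_mul, CharTwo.add_self_eq_zero]; done) | (simp only [mul_zero, zero_mul, add_zero, zero_add, ne_eq, OfNat.ofNat_ne_zero, not_false_eq_true, zero_pow, one_pow, mul_one, one_mul, CharTwo.add_self_eq_zero]; (first | rfl | ring1 | (rw [← sub_eq_zero]; ring_nf; simp only [h2, h4, h6, h8, h10, h12, h14, h16, h18,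 h20, h22, h24, h26, h28, h30, h32, mul_zero, zero_mul, add_zero, zero_add, neg_zero, sub_zero, sub_self]))) | (first | rfl | ring1 | (rw [← sub_eq_zero]; ring_nf; simp only [h2, h4, h6, h8, h10, h12, h14, h16, h18, h20, h22, h24, h26, h28, h30, h32, mul_zero, zero_mul, add_zero, zero_add, neg_zero, sub_zero, sub_self])))
  have p7 : Push (R.X25 1) (R.toRelF4.RNF1 (0) (0) (0) (0) (0) (0) (0) (t) (0) (0) (0) (0) (0) (0) (0) (0) (0) (0) (0) (0)) (R.toRelF4.RNF1 (0) (0) (0) (0) (0) (0) (0) (t) (0) (0) (0) (0) (0) (0) (0) (0) (0) (0) (0) (0)) := by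
    unfold Push; rw [R.st25]; congr 2 <;> (first | rfl | (simp only [mul_zero, zero_mul, add_zero, zero_add, ne_eq, OfNat.ofNat_ne_zero, not_false_eq_true, zero_pow, one_pow, mul_one, one_mul, CharTwo.add_self_eq_zero]; done) | (simp only [mul_zero, zero_mul, add_zero, zero_add, ne_eq, OfNat.ofNat_ne_zero, not_false_eq_true, zero_pow, one_pow, mul_one, one_mul, CharTwo.add_self_eq_zero]; (first | rfl | ring1 | (rw [← sub_eq_zero]; ring_nf; simp only [h2, h4, h6, h8, h10, h12, h14, h16, h18, h20, h22, h24, h26, h28, h30, h32, mul_zero, zero_mul, add_zero, zero_add, neg_zero, sub_zero, sub_self]))) | (first | rfl | ring1 | (rw [← sub_eq_zero]; ring_nf; simp only [h2, h4, h6, h8, h10, h12, h14, h16, h18, h20, h22, h24, h26, h28, h30, h32, mul_zero, zero_mul, add_zero, zero_add, neg_zero, sub_zero, sub_self])))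
  have p8 : Push (R.X28 1) (R.toRelF4.RNF1 (0) (0) (0) (0) (0) (0) (0) (t) (0) (0) (0) (0) (0) (0) (0) (0) (0) (0) (0) (0)) (R.toRelF4.RNF1 (0) (0) (0) (0) (0) (0) (0) (t) (0) (0) (0) (0) (0) (0) (0) (0) (0) (0) (0) (0)) := by
    unfold Push; rw [R.st28]; congr 2 <;> (first | rfl | (simp only [mul_zero, zero_mul, add_zero, zero_add, ne_eq, OfNat.ofNat_ne_zero, not_false_eq_true, zero_pow, one_pow, mul_one, one_mul, CharTwo.add_self_eq_zero]; done) | (simp only [mul_zero, zero_mul, add_zero, zero_add, ne_eq, OfNat.ofNat_ne_zero, not_false_eq_true, zero_pow, one_pow, mul_one, one_mul, CharTwo.add_self_eq_zero]; (first | rfl | ring1 | (rw [← sub_eq_zero]; ring_nf; simp only [h2, h4, h6, h8, h10, h12, h14, h16, h18, h20, h22, h24, h26, h28, h30, h32, mul_zero, zero_mul, add_zero, zero_add, neg_zero, sub_zero, sub_self]))) | (first | rfl | ring1 | (rw [← sub_eq_zero]; ring_nf; simp only [h2, h4, h6, h8, h10, h12, h14, h16, h18, h20, h22, h24, h26, h28, h30, h32, mul_zero,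 zero_mul, add_zero, zero_add, neg_zero, sub_zero, sub_self])))
  have p := (((((((p1).comp p2).comp p3).comp p4).comp p5).comp p6).comp p7).comp p8
  have hc := Push.conj (g := R.n8) (by unfold n8; simpa only [mul_assoc] using p)
  exact (congrArg (fun y => R.n8 * y * (R.n8)⁻¹) e0).trans (hc.trans e9.symm)

theorem n8_35 (t : K) : R.n8 * R.X35 t * (R.n8)⁻¹ = R.X34 t := by
  have h2 : (2 : K) = 0 := CharTwo.two_eq_zero
  have h4 : (4 : K) = 0 := by linear_combination 2 * h2
  have h6 : (6 : K) = 0 := by linear_combination 3 * h2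
  have h8 : (8 : K) = 0 := by linear_combination 4 * h2
  have h10 : (10 : K) = 0 := by linear_combination 5 * h2
  have h12 : (12 : K) = 0 := by linear_combination 6 * h2
  have h14 : (14 : K) = 0 := by linear_combination 7 * h2
  have h16 : (16 : K) = 0 := by linear_combination 8 * h2
  have h18 : (18 : K) = 0 := by linear_combination 9 * h2
  have h20 : (20 : K) = 0 := by linear_combination 10 * h2
  have h22 : (22 : K) = 0 := by linear_combination 11 * h2
  have h24 : (24 : K) = 0 := by linear_combination 12 * h2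
  have h26 : (26 : K) = 0 := by linear_combination 13 * h2
  have h28 : (28 : K) = 0 := by linear_combination 14 * h2
  have h30 : (30 : K) = 0 := by linear_combination 15 * h2
  have h32 : (32 : K) = 0 := by linear_combination 16 * h2
  have e0 : R.X35 t = R.toRelF4.RNF1 (0) (0) (0) (0) (0) (0) (0) (0) (0) (0) (0) (0) (0) (0) (t) (0) (0) (0) (0) (0) := by
    unfold RelF4.RNF1; simp only [RelF4.zero33, RelF4.zero24, RelF4.zero34, RelF4.zero26, RelF4.zero36, RelF4.zero42, RelF4.zero38, RelF4.zero43, RelF4.zero29, RelF4.zero41, RelF4.zero44, RelF4.zero47, RelF4.zero39, RelF4.zero45, RelF4.zero35, RelF4.zero31, RelF4.zero40, RelF4.zero46, RelF4.zero37, RelF4.zero32, one_mul, mul_one]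
  have e9 : R.X34 t = R.toRelF4.RNF1 (0) (0) (t) (0) (0) (0) (0) (0) (0) (0) (0) (0) (0) (0) (0) (0) (0) (0) (0) (0) := by
    unfold RelF4.RNF1; simp only [RelF4.zero33, RelF4.zero24, RelF4.zero34, RelF4.zero26, RelF4.zero36, RelF4.zero42, RelF4.zero38, RelF4.zero43, RelF4.zero29, RelF4.zero41, RelF4.zero44, RelF4.zero47, RelF4.zero39, RelF4.zero45, RelF4.zero35, RelF4.zero31, RelF4.zero40, RelF4.zero46, RelF4.zero37, RelF4.zero32, one_mul, mul_one]
  have p1 : Push (R.X30 1) (R.toRelF4.RNF1 (0) (0) (0) (0) (0) (0) (0) (0) (0) (0) (0) (0) (0) (0) (t) (0) (0) (0) (0) (0)) (R.toRelF4.RNF1 (0) (0) (0) (0) (0) (0) (0) (0) (0) (0) (0) (0) (0) (0) (t) (0) (0) (0) (0) (0)) := by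
    unfold Push; rw [R.st30]; congr 2 <;> (first | rfl | (simp only [mul_zero, zero_mul, add_zero, zero_add, ne_eq, OfNat.ofNat_ne_zero, not_false_eq_true, zero_pow, one_pow, mul_one, one_mul, CharTwo.add_self_eq_zero]; done) | (simp only [mul_zero, zero_mul, add_zero, zero_add, ne_eq, OfNat.ofNat_ne_zero, not_false_eq_true, zero_pow, one_pow, mul_one, one_mul, CharTwo.add_self_eq_zero]; (first | rfl | ring1 | (rw [← sub_eq_zero]; ring_nf; simp only [h2, h4, h6, h8, h10, h12, h14, h16, h18, h20, h22, h24, h26, h28, h30, h32, mul_zero, zero_mul, add_zero, zero_add, neg_zero, sub_zero, sub_self]))) | (first | rfl | ring1 | (rw [← sub_eq_zero]; ring_nf; simp only [h2, h4, h6, h8, h10, h12, h14, h16, h18, h20, h22, h24, h26, h28, h30, h32, mul_zero, zero_mul, add_zero, zero_add, neg_zero, sub_zero, sub_self])))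
  have p2 : Push (R.X28 1) (R.toRelF4.RNF1 (0) (0) (0) (0) (0) (0) (0) (0) (0) (0) (0) (0) (0) (0) (t) (0) (0) (0) (0) (0)) (R.toRelF4.RNF1 (0) (0) (0) (0) (0) (0) (0) (0) (0) (0) (0) (0) (0) (0) (t) (0) (0) (0) (0) (0)) := by
    unfold Push; rw [R.st28]; congr 2 <;> (first | rfl | (simp only [mul_zero, zero_mul, add_zero, zero_add, ne_eq, OfNat.ofNat_ne_zero, not_false_eq_true, zero_pow, one_pow, mul_one, one_mul, CharTwo.add_self_eq_zero]; done) | (simp only [mul_zero, zero_mul, add_zero, zero_add, ne_eq, OfNat.ofNat_ne_zero, not_false_eq_true, zero_pow, one_pow, mul_one, one_mul, CharTwo.add_self_eq_zero]; (first | rfl | ring1 | (rw [← sub_eq_zero]; ring_nf; simp only [h2, h4, h6, h8, h10, h12, h14, h16, h18, h20, h22, h24, h26, h28, h30, h32, mul_zero, zero_mul, add_zero, zero_add, neg_zero, sub_zero, sub_self]))) | (first | rfl | ring1 | (rw [← sub_eq_zero]; ring_nf; simp only [h2, h4, h6, h8, h10, h12, h14, h16, h18, h20, h22, h24, h26, h28, h30, h32, mul_zero,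 zero_mul, add_zero, zero_add, neg_zero, sub_zero, sub_self])))
  have p3 : Push (R.X19 1) (R.toRelF4.RNF1 (0) (0) (0) (0) (0) (0) (0) (0) (0) (0) (0) (0) (0) (0) (t) (0) (0) (0) (0) (0)) (R.toRelF4.RNF1 (t) (0) (0) (0) (0) (0) (0) (0) (0) (0) (0) (0) (0) (0) (t) (0) (0) (0) (0) (0)) := by
    unfold Push; rw [R.st19]; congr 2 <;> (first | rfl | (simp only [mul_zero, zero_mul, add_zero, zero_add, ne_eq, OfNat.ofNat_ne_zero, not_false_eq_true, zero_pow, one_pow, mul_one, one_mul, CharTwo.add_self_eq_zero]; done) | (simp only [mul_zero, zero_mul, add_zero, zero_add, ne_eq, OfNat.ofNat_ne_zero, not_false_eq_true, zero_pow, one_pow, mul_one, one_mul, CharTwo.add_self_eq_zero]; (first | rfl | ring1 | (rw [← sub_eq_zero]; ring_nf; simp only [h2, h4, h6, h8, h10, h12, h14, h16, h18, h20, h22, h24, h26, h28, h30, h32, mul_zero, zero_mul, add_zero, zero_add, neg_zero, sub_zero, sub_self]))) | (first | rfl | ring1 | (rw [← sub_eq_zero]; ring_nf; simp only [h2, h4, h6, h8, h10,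 h12, h14, h16, h18, h20, h22, h24, h26, h28, h30, h32, mul_zero, zero_mul, add_zero, zero_add, neg_zero, sub_zero, sub_self])))
  have p4 : Push (R.X22 1) (R.toRelF4.RNF1 (t) (0) (0) (0) (0) (0) (0) (0) (0) (0) (0) (0) (0) (0) (t) (0) (0) (0) (0) (0)) (R.toRelF4.RNF1 (t) (0) (t) (0) (0) (0) (0) (0) (0) (t ^ 2) (0) (0) (0) (0) (t) (0) (0) (0) (0) (0)) := by
    unfold Push; rw [R.st22]; congr 2 <;> (first | rfl | (simp only [mul_zero, zero_mul, add_zero, zero_add, ne_eq, OfNat.ofNat_ne_zero, not_false_eq_true, zero_pow, one_pow, mul_one, one_mul, CharTwo.add_self_eq_zero]; done) | (simp only [mul_zero, zero_mul, add_zero, zero_add, ne_eq, OfNat.ofNat_ne_zero, not_false_eq_true, zero_pow, one_pow, mul_one, one_mul, CharTwo.add_self_eq_zero]; (first | rfl | ring1 | (rw [← sub_eq_zero]; ring_nf; simp only [h2, h4, h6, h8, h10, h12, h14, h16, h18, h20, h22, h24, h26, h28, h30, h32, mul_zero, zero_mul, add_zero, zero_add, neg_zero, sub_zero, sub_self]))) | (first | rfl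 | ring1 | (rw [← sub_eq_zero]; ring_nf; simp only [h2, h4, h6, h8, h10, h12, h14, h16, h18, h20, h22, h24, h26, h28, h30, h32, mul_zero, zero_mul, add_zero, zero_add, neg_zero, sub_zero, sub_self])))
  have p5 : Push (R.X20 1) (R.toRelF4.RNF1 (t) (0) (t) (0) (0) (0) (0) (0) (0) (t ^ 2) (0) (0) (0) (0) (t) (0) (0) (0) (0) (0)) (R.toRelF4.RNF1 (0) (0) (t) (0) (0) (0) (0) (0) (0) (t ^ 2) (0) (0) (0) (0) (t) (0) (0) (0) (0) (0)) := by
    unfold Push; rw [R.st20]; congr 2 <;> (first | rfl | (simp only [mul_zero, zero_mul, add_zero, zero_add, ne_eq, OfNat.ofNat_ne_zero, not_false_eq_true, zero_pow, one_pow, mul_one, one_mul, CharTwo.add_self_eq_zero]; done) | (simp only [mul_zero, zero_mul, add_zero, zero_add, ne_eq, OfNat.ofNat_ne_zero, not_false_eq_true, zero_pow, one_pow, mul_one, one_mul, CharTwo.add_self_eq_zero]; (first | rfl | ring1 | (rw [← sub_eq_zero]; ring_nf; simp only [h2, h4, h6, h8, h10, h12, h14, h16, h18, h20, h22, h24, h26, h28, h30, h32, mul_zero, zero_mul,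 add_zero, zero_add, neg_zero, sub_zero, sub_self]))) | (first | rfl | ring1 | (rw [← sub_eq_zero]; ring_nf; simp only [h2, h4, h6, h8, h10, h12, h14, h16, h18, h20, h22, h24, h26, h28, h30, h32, mul_zero, zero_mul, add_zero, zero_add, neg_zero, sub_zero, sub_self])))
  have p6 : Push (R.X27 1) (R.toRelF4.RNF1 (0) (0) (t) (0) (0) (0) (0) (0) (0) (t ^ 2) (0) (0) (0) (0) (t) (0) (0) (0) (0) (0)) (R.toRelF4.RNF1 (0) (0) (t) (0) (0) (0) (0) (0) (0) (t ^ 2) (0) (0) (0) (0) (t) (0) (0) (0) (t) (0)) := by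
    unfold Push; rw [R.st27]; congr 2 <;> (first | rfl | (simp only [mul_zero, zero_mul, add_zero, zero_add, ne_eq, OfNat.ofNat_ne_zero, not_false_eq_true, zero_pow, one_pow, mul_one, one_mul, CharTwo.add_self_eq_zero]; done) | (simp only [mul_zero, zero_mul, add_zero, zero_add, ne_eq, OfNat.ofNat_ne_zero, not_false_eq_true, zero_pow, one_pow, mul_one, one_mul, CharTwo.add_self_eq_zero]; (first | rfl | ring1 | (rw [← sub_eq_zero]; ring_nf; simp only [h2, h4, h6, h8, h10, h12, h14, h16, h18, h20, h22, h24, h26, h28, h30, h32, mul_zero, zero_mul, add_zero, zero_add, neg_zero, sub_zero, sub_self]))) | (first | rfl | ring1 | (rw [← sub_eq_zero]; ring_nf; simp only [h2, h4, h6, h8, h10, h12, h14, h16, h18, h20, h22, h24, h26, h28, h30, h32, mul_zero, zero_mul, add_zero, zero_add, neg_zero, sub_zero, sub_self])))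
  have p7 : Push (R.X25 1) (R.toRelF4.RNF1 (0) (0) (t) (0) (0) (0) (0) (0) (0) (t ^ 2) (0) (0) (0) (0) (t) (0) (0) (0) (t) (0)) (R.toRelF4.RNF1 (0) (0) (t) (0) (0) (0) (0) (0) (0) (0) (0) (0) (0) (0) (0) (0) (0) (0) (t) (0)) := by
    unfold Push; rw [R.st25]; congr 2 <;> (first | rfl | (simp only [mul_zero, zero_mul, add_zero, zero_add, ne_eq, OfNat.ofNat_ne_zero, not_false_eq_true, zero_pow, one_pow, mul_one, one_mul, CharTwo.add_self_eq_zero]; done) | (simp only [mul_zero, zero_mul, add_zero, zero_add, ne_eq, OfNat.ofNat_ne_zero, not_false_eq_true, zero_pow, one_pow, mul_one, one_mul, CharTwo.add_self_eq_zero]; (first | rfl | ring1 | (rw [← sub_eq_zero]; ring_nf; simp only [h2, h4, h6, h8, h10, h12, h14, h16, h18, h20, h22, h24, h26, h28, h30, h32, mul_zero, zero_mul, add_zero, zero_add, neg_zero, sub_zero, sub_self]))) | (first | rfl | ring1 | (rw [← sub_eq_zero]; ring_nf; simp only [h2, h4, h6, h8, h10, h12, h14, h16, h18, h20, h22, h24, h26, h28, h30, h32, mul_zero,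 zero_mul, add_zero, zero_add, neg_zero, sub_zero, sub_self])))
  have p8 : Push (R.X28 1) (R.toRelF4.RNF1 (0) (0) (t) (0) (0) (0) (0) (0) (0) (0) (0) (0) (0) (0) (0) (0) (0) (0) (t) (0)) (R.toRelF4.RNF1 (0) (0) (t) (0) (0) (0) (0) (0) (0) (0) (0) (0) (0) (0) (0) (0) (0) (0) (0) (0)) := by
    unfold Push; rw [R.st28]; congr 2 <;> (first | rfl | (simp only [mul_zero, zero_mul, add_zero, zero_add, ne_eq, OfNat.ofNat_ne_zero, not_false_eq_true, zero_pow, one_pow, mul_one, one_mul, CharTwo.add_self_eq_zero]; done) | (simp only [mul_zero, zero_mul, add_zero, zero_add, ne_eq, OfNat.ofNat_ne_zero, not_false_eq_true, zero_pow, one_pow, mul_one, one_mul, CharTwo.add_self_eq_zero]; (first | rfl | ring1 | (rw [← sub_eq_zero]; ring_nf; simp only [h2, h4, h6, h8, h10, h12, h14, h16, h18, h20, h22, h24, h26, h28, h30, h32, mul_zero, zero_mul, add_zero, zero_add, neg_zero, sub_zero, sub_self]))) | (first | rfl | ring1 | (rw [← sub_eq_zero]; ring_nf; simp only [h2, h4, h6, h8, h10,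 h12, h14, h16, h18, h20, h22, h24, h26, h28, h30, h32, mul_zero, zero_mul, add_zero, zero_add, neg_zero, sub_zero, sub_self])))
  have p := (((((((p1).comp p2).comp p3).comp p4).comp p5).comp p6).comp p7).comp p8
  have hc := Push.conj (g := R.n8) (by unfold n8; simpa only [mul_assoc] using p)
  exact (congrArg (fun y => R.n8 * y * (R.n8)⁻¹) e0).trans (hc.trans e9.symm)

theorem n8_31 (t : K) : R.n8 * R.X31 t * (R.n8)⁻¹ = R.X26 t := by
  have h2 : (2 : K) = 0 := CharTwo.two_eq_zero
  have h4 : (4 : K) = 0 := by linear_combination 2 * h2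
  have h6 : (6 : K) = 0 := by linear_combination 3 * h2
  have h8 : (8 : K) = 0 := by linear_combination 4 * h2
  have h10 : (10 : K) = 0 := by linear_combination 5 * h2
  have h12 : (12 : K) = 0 := by linear_combination 6 * h2
  have h14 : (14 : K) = 0 := by linear_combination 7 * h2
  have h16 : (16 : K) = 0 := by linear_combination 8 * h2
  have h18 : (18 : K) = 0 := by linear_combination 9 * h2
  have h20 : (20 : K) = 0 := by linear_combination 10 * h2
  have h22 : (22 : K) = 0 := by linear_combination 11 * h2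
  have h24 : (24 : K) = 0 := by linear_combination 12 * h2
  have h26 : (26 : K) = 0 := by linear_combination 13 * h2
  have h28 : (28 : K) = 0 := by linear_combination 14 * h2
  have h30 : (30 : K) = 0 := by linear_combination 15 * h2
  have h32 : (32 : K) = 0 := by linear_combination 16 * h2
  have e0 : R.X31 t = R.toRelF4.RNF1 (0) (0) (0) (0) (0) (0) (0) (0) (0) (0) (0) (0) (0) (0) (0) (t) (0) (0) (0) (0) := by
    unfold RelF4.RNF1; simp only [RelF4.zero33, RelF4.zero24, RelF4.zero34, RelF4.zero26, RelF4.zero36, RelF4.zero42, RelF4.zero38, RelF4.zero43, RelF4.zero29, RelF4.zero41, RelF4.zero44, RelF4.zero47, RelF4.zero39, RelF4.zero45, RelF4.zero35, RelF4.zero31, RelF4.zero40, RelF4.zero46, RelF4.zero37, RelF4.zero32, one_mul, mul_one]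
  have e9 : R.X26 t = R.toRelF4.RNF1 (0) (0) (0) (t) (0) (0) (0) (0) (0) (0) (0) (0) (0) (0) (0) (0) (0) (0) (0) (0) := by
    unfold RelF4.RNF1; simp only [RelF4.zero33, RelF4.zero24, RelF4.zero34, RelF4.zero26, RelF4.zero36, RelF4.zero42, RelF4.zero38, RelF4.zero43, RelF4.zero29, RelF4.zero41, RelF4.zero44, RelF4.zero47, RelF4.zero39, RelF4.zero45, RelF4.zero35, RelF4.zero31, RelF4.zero40, RelF4.zero46, RelF4.zero37, RelF4.zero32, one_mul, mul_one]
  have p1 : Push (R.X30 1) (R.toRelF4.RNF1 (0) (0) (0) (0) (0) (0) (0) (0) (0) (0) (0) (0) (0) (0) (0) (t) (0) (0) (0) (0)) (R.toRelF4.RNF1 (0) (0) (0) (0) (0) (0) (0) (0) (0) (0) (0) (0) (0) (0) (0) (t) (0) (0) (0) (0)) := by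
    unfold Push; rw [R.st30]; congr 2 <;> (first | rfl | (simp only [mul_zero, zero_mul, add_zero, zero_add, ne_eq, OfNat.ofNat_ne_zero, not_false_eq_true, zero_pow, one_pow, mul_one, one_mul, CharTwo.add_self_eq_zero]; done) | (simp only [mul_zero, zero_mul, add_zero, zero_add, ne_eq, OfNat.ofNat_ne_zero, not_false_eq_true, zero_pow, one_pow, mul_one, one_mul, CharTwo.add_self_eq_zero]; (first | rfl | ring1 | (rw [← sub_eq_zero]; ring_nf; simp only [h2, h4, h6, h8, h10, h12, h14, h16, h18, h20, h22, h24, h26, h28, h30, h32, mul_zero, zero_mul, add_zero, zero_add, neg_zero, sub_zero, sub_self]))) | (first | rfl | ring1 | (rw [← sub_eq_zero]; ring_nf; simp only [h2, h4, h6, h8, h10, h12, h14, h16, h18, h20, h22, h24, h26, h28, h30, h32, mul_zero, zero_mul, add_zero, zero_add, neg_zero, sub_zero, sub_self])))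
  have p2 : Push (R.X28 1) (R.toRelF4.RNF1 (0) (0) (0) (0) (0) (0) (0) (0) (0) (0) (0) (0) (0) (0) (0) (t) (0) (0) (0) (0)) (R.toRelF4.RNF1 (0) (0) (0) (0) (0) (0) (0) (0) (0) (0) (0) (0) (0) (0) (0) (t) (0) (0) (0) (0)) := by
    unfold Push; rw [R.st28]; congr 2 <;> (first | rfl | (simp only [mul_zero, zero_mul, add_zero, zero_add, ne_eq, OfNat.ofNat_ne_zero, not_false_eq_true, zero_pow, one_pow, mul_one, one_mul, CharTwo.add_self_eq_zero]; done) | (simp only [mul_zero, zero_mul, add_zero, zero_add, ne_eq, OfNat.ofNat_ne_zero, not_false_eq_true, zero_pow, one_pow, mul_one, one_mul, CharTwo.add_self_eq_zero]; (first | rfl | ring1 | (rw [← sub_eq_zero]; ring_nf; simp only [h2, h4, h6, h8, h10, h12, h14, h16, h18, h20, h22, h24, h26, h28, h30, h32, mul_zero, zero_mul, add_zero, zero_add, neg_zero, sub_zero, sub_self]))) | (first | rfl | ring1 | (rw [← sub_eq_zero]; ring_nf; simp only [h2, h4, h6, h8, h10, h12, h14, h16, h18, h20, h22, h24, h26, h28, h30, h32, mul_zero,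 zero_mul, add_zero, zero_add, neg_zero, sub_zero, sub_self])))
  have p3 : Push (R.X19 1) (R.toRelF4.RNF1 (0) (0) (0) (0) (0) (0) (0) (0) (0) (0) (0) (0) (0) (0) (0) (t) (0) (0) (0) (0)) (R.toRelF4.RNF1 (0) (0) (0) (0) (0) (0) (0) (0) (0) (0) (0) (0) (0) (0) (0) (t) (0) (0) (0) (0)) := by
    unfold Push; rw [R.st19]; congr 2 <;> (first | rfl | (simp only [mul_zero, zero_mul, add_zero, zero_add, ne_eq, OfNat.ofNat_ne_zero, not_false_eq_true, zero_pow, one_pow, mul_one, one_mul, CharTwo.add_self_eq_zero]; done) | (simp only [mul_zero, zero_mul, add_zero, zero_add, ne_eq, OfNat.ofNat_ne_zero, not_false_eq_true, zero_pow, one_pow, mul_one, one_mul, CharTwo.add_self_eq_zero]; (first | rfl | ring1 | (rw [← sub_eq_zero]; ring_nf; simp only [h2, h4, h6, h8, h10, h12, h14, h16, h18, h20, h22, h24, h26, h28, h30, h32, mul_zero, zero_mul, add_zero, zero_add, neg_zero, sub_zero, sub_self]))) | (first | rfl | ring1 | (rw [← sub_eq_zero]; ring_nf; simp only [h2, h4, h6, h8, h10,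 h12, h14, h16, h18, h20, h22, h24, h26, h28, h30, h32, mul_zero, zero_mul, add_zero, zero_add, neg_zero, sub_zero, sub_self])))
  have p4 : Push (R.X22 1) (R.toRelF4.RNF1 (0) (0) (0) (0) (0) (0) (0) (0) (0) (0) (0) (0) (0) (0) (0) (t) (0) (0) (0) (0)) (R.toRelF4.RNF1 (0) (0) (0) (0) (0) (0) (0) (0) (0) (0) (0) (0) (0) (0) (0) (t) (0) (0) (0) (0)) := by
    unfold Push; rw [R.st22]; congr 2 <;> (first | rfl | (simp only [mul_zero, zero_mul, add_zero, zero_add, ne_eq, OfNat.ofNat_ne_zero, not_false_eq_true, zero_pow, one_pow, mul_one, one_mul, CharTwo.add_self_eq_zero]; done) | (simp only [mul_zero, zero_mul, add_zero, zero_add, ne_eq, OfNat.ofNat_ne_zero, not_false_eq_true, zero_pow, one_pow, mul_one, one_mul, CharTwo.add_self_eq_zero]; (first | rfl | ring1 | (rw [← sub_eq_zero]; ring_nf; simp only [h2, h4, h6, h8, h10, h12, h14, h16, h18, h20, h22, h24, h26, h28, h30, h32, mul_zero, zero_mul, add_zero, zero_add, neg_zero, sub_zero, sub_self]))) | (first | rfl | ring1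 | (rw [← sub_eq_zero]; ring_nf; simp only [h2, h4, h6, h8, h10, h12, h14, h16, h18, h20, h22, h24, h26, h28, h30, h32, mul_zero, zero_mul, add_zero, zero_add, neg_zero, sub_zero, sub_self])))
  have p5 : Push (R.X20 1) (R.toRelF4.RNF1 (0) (0) (0) (0) (0) (0) (0) (0) (0) (0) (0) (0) (0) (0) (0) (t) (0) (0) (0) (0)) (R.toRelF4.RNF1 (0) (0) (0) (t) (0) (0) (0) (0) (t) (0) (0) (0) (0) (0) (0) (t) (0) (0) (0) (0)) := by
    unfold Push; rw [R.st20]; congr 2 <;> (first | rfl | (simp only [mul_zero, zero_mul, add_zero, zero_add, ne_eq, OfNat.ofNat_ne_zero, not_false_eq_true, zero_pow, one_pow, mul_one, one_mul, CharTwo.add_self_eq_zero]; done) | (simp only [mul_zero, zero_mul, add_zero, zero_add, ne_eq, OfNat.ofNat_ne_zero, not_false_eq_true, zero_pow, one_pow, mul_one, one_mul, CharTwo.add_self_eq_zero]; (first | rfl | ring1 | (rw [← sub_eq_zero]; ring_nf; simp only [h2, h4, h6, h8, h10, h12, h14, h16, h18, h20, h22, h24, h26, h28, h30, h32, mul_zero, zero_mul, add_zero,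 zero_add, neg_zero, sub_zero, sub_self]))) | (first | rfl | ring1 | (rw [← sub_eq_zero]; ring_nf; simp only [h2, h4, h6, h8, h10, h12, h14, h16, h18, h20, h22, h24, h26, h28, h30, h32, mul_zero, zero_mul, add_zero, zero_add, neg_zero, sub_zero, sub_self])))
  have p6 : Push (R.X27 1) (R.toRelF4.RNF1 (0) (0) (0) (t) (0) (0) (0) (0) (t) (0) (0) (0) (0) (0) (0) (t) (0) (0) (0) (0)) (R.toRelF4.RNF1 (0) (0) (0) (t) (0) (0) (0) (0) (0) (0) (0) (0) (0) (0) (0) (0) (0) (0) (0) (0)) := by
    unfold Push; rw [R.st27]; congr 2 <;> (first | rfl | (simp only [mul_zero, zero_mul, add_zero, zero_add, ne_eq, OfNat.ofNat_ne_zero, not_false_eq_true, zero_pow, one_pow, mul_one, one_mul, CharTwo.add_self_eq_zero]; done) | (simp only [mul_zero, zero_mul, add_zero, zero_add, ne_eq, OfNat.ofNat_ne_zero, not_false_eq_true, zero_pow, one_pow, mul_one, one_mul, CharTwo.add_self_eq_zero]; (first | rfl | ring1 | (rw [← sub_eq_zero]; ring_nf; simp only [h2, h4, h6, h8, h10, h12, h14, h16, h18,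 h20, h22, h24, h26, h28, h30, h32, mul_zero, zero_mul, add_zero, zero_add, neg_zero, sub_zero, sub_self]))) | (first | rfl | ring1 | (rw [← sub_eq_zero]; ring_nf; simp only [h2, h4, h6, h8, h10, h12, h14, h16, h18, h20, h22, h24, h26, h28, h30, h32, mul_zero, zero_mul, add_zero, zero_add, neg_zero, sub_zero, sub_self])))
  have p7 : Push (R.X25 1) (R.toRelF4.RNF1 (0) (0) (0) (t) (0) (0) (0) (0) (0) (0) (0) (0) (0) (0) (0) (0) (0) (0) (0) (0)) (R.toRelF4.RNF1 (0) (0) (0) (t) (0) (0) (0) (0) (0) (0) (0) (0) (0) (0) (0) (0) (0) (0) (0) (0)) := by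
    unfold Push; rw [R.st25]; congr 2 <;> (first | rfl | (simp only [mul_zero, zero_mul, add_zero, zero_add, ne_eq, OfNat.ofNat_ne_zero, not_false_eq_true, zero_pow, one_pow, mul_one, one_mul, CharTwo.add_self_eq_zero]; done) | (simp only [mul_zero, zero_mul, add_zero, zero_add, ne_eq, OfNat.ofNat_ne_zero, not_false_eq_true, zero_pow, one_pow, mul_one, one_mul, CharTwo.add_self_eq_zero]; (first | rfl | ring1 | (rw [← sub_eq_zero]; ring_nf; simp only [h2, h4, h6, h8, h10, h12, h14, h16, h18, h20, h22, h24, h26, h28, h30, h32, mul_zero, zero_mul, add_zero, zero_add, neg_zero, sub_zero, sub_self]))) | (first | rfl | ring1 | (rw [← sub_eq_zero]; ring_nf; simp only [h2, h4, h6, h8, h10, h12, h14, h16, h18, h20, h22, h24, h26, h28, h30, h32, mul_zero, zero_mul, add_zero, zero_add, neg_zero, sub_zero, sub_self])))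
  have p8 : Push (R.X28 1) (R.toRelF4.RNF1 (0) (0) (0) (t) (0) (0) (0) (0) (0) (0) (0) (0) (0) (0) (0) (0) (0) (0) (0) (0)) (R.toRelF4.RNF1 (0) (0) (0) (t) (0) (0) (0) (0) (0) (0) (0) (0) (0) (0) (0) (0) (0) (0) (0) (0)) := by
    unfold Push; rw [R.st28]; congr 2 <;> (first | rfl | (simp only [mul_zero, zero_mul, add_zero, zero_add, ne_eq, OfNat.ofNat_ne_zero, not_false_eq_true, zero_pow, one_pow, mul_one, one_mul, CharTwo.add_self_eq_zero]; done) | (simp only [mul_zero, zero_mul, add_zero, zero_add, ne_eq, OfNat.ofNat_ne_zero, not_false_eq_true, zero_pow, one_pow, mul_one, one_mul, CharTwo.add_self_eq_zero]; (first | rfl | ring1 | (rw [← sub_eq_zero]; ring_nf; simp only [h2, h4, h6, h8, h10, h12, h14, h16, h18, h20, h22, h24, h26, h28, h30, h32, mul_zero, zero_mul, add_zero, zero_add, neg_zero, sub_zero, sub_self]))) | (first | rfl | ring1 | (rw [← sub_eq_zero]; ring_nf; simp only [h2, h4, h6, h8, h10, h12, h14, h16, h18, h20, h22, h24, h26, h28, h30, h32, mul_zero,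 zero_mul, add_zero, zero_add, neg_zero, sub_zero, sub_self])))
  have p := (((((((p1).comp p2).comp p3).comp p4).comp p5).comp p6).comp p7).comp p8
  have hc := Push.conj (g := R.n8) (by unfold n8; simpa only [mul_assoc] using p)
  exact (congrArg (fun y => R.n8 * y * (R.n8)⁻¹) e0).trans (hc.trans e9.symm)

theorem n8_40 (t : K) : R.n8 * R.X40 t * (R.n8)⁻¹ = R.X36 t := by
  have h2 : (2 : K) = 0 := CharTwo.two_eq_zero
  have h4 : (4 : K) = 0 := by linear_combination 2 * h2
  have h6 : (6 : K) = 0 := by linear_combination 3 * h2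
  have h8 : (8 : K) = 0 := by linear_combination 4 * h2
  have h10 : (10 : K) = 0 := by linear_combination 5 * h2
  have h12 : (12 : K) = 0 := by linear_combination 6 * h2
  have h14 : (14 : K) = 0 := by linear_combination 7 * h2
  have h16 : (16 : K) = 0 := by linear_combination 8 * h2
  have h18 : (18 : K) = 0 := by linear_combination 9 * h2
  have h20 : (20 : K) = 0 := by linear_combination 10 * h2
  have h22 : (22 : K) = 0 := by linear_combination 11 * h2
  have h24 : (24 : K) = 0 := by linear_combination 12 * h2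
  have h26 : (26 : K) = 0 := by linear_combination 13 * h2
  have h28 : (28 : K) = 0 := by linear_combination 14 * h2
  have h30 : (30 : K) = 0 := by linear_combination 15 * h2
  have h32 : (32 : K) = 0 := by linear_combination 16 * h2
  have e0 : R.X40 t = R.toRelF4.RNF1 (0) (0) (0) (0) (0) (0) (0) (0) (0) (0) (0) (0) (0) (0) (0) (0) (t) (0) (0) (0) := by
    unfold RelF4.RNF1; simp only [RelF4.zero33, RelF4.zero24, RelF4.zero34, RelF4.zero26, RelF4.zero36, RelF4.zero42, RelF4.zero38, RelF4.zero43, RelF4.zero29, RelF4.zero41, RelF4.zero44, RelF4.zero47, RelF4.zero39, RelF4.zero45, RelF4.zero35, RelF4.zero31, RelF4.zero40, RelF4.zero46, RelF4.zero37, RelF4.zero32, one_mul, mul_one]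
  have e9 : R.X36 t = R.toRelF4.RNF1 (0) (0) (0) (0) (t) (0) (0) (0) (0) (0) (0) (0) (0) (0) (0) (0) (0) (0) (0) (0) := by
    unfold RelF4.RNF1; simp only [RelF4.zero33, RelF4.zero24, RelF4.zero34, RelF4.zero26, RelF4.zero36, RelF4.zero42, RelF4.zero38, RelF4.zero43, RelF4.zero29, RelF4.zero41, RelF4.zero44, RelF4.zero47, RelF4.zero39, RelF4.zero45, RelF4.zero35, RelF4.zero31, RelF4.zero40, RelF4.zero46, RelF4.zero37, RelF4.zero32, one_mul, mul_one]
  have p1 : Push (R.X30 1) (R.toRelF4.RNF1 (0) (0) (0) (0) (0) (0) (0) (0) (0) (0) (0) (0) (0) (0) (0) (0) (t) (0) (0) (0)) (R.toRelF4.RNF1 (0) (0) (0) (0) (0) (0) (0) (0) (0) (0) (0) (0) (0) (0) (0) (0) (t) (0) (0) (0)) := by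
    unfold Push; rw [R.st30]; congr 2 <;> (first | rfl | (simp only [mul_zero, zero_mul, add_zero, zero_add, ne_eq, OfNat.ofNat_ne_zero, not_false_eq_true, zero_pow, one_pow, mul_one, one_mul, CharTwo.add_self_eq_zero]; done) | (simp only [mul_zero, zero_mul, add_zero, zero_add, ne_eq, OfNat.ofNat_ne_zero, not_false_eq_true, zero_pow, one_pow, mul_one, one_mul, CharTwo.add_self_eq_zero]; (first | rfl | ring1 | (rw [← sub_eq_zero]; ring_nf; simp only [h2, h4, h6, h8, h10, h12, h14, h16, h18, h20, h22, h24, h26, h28, h30, h32, mul_zero, zero_mul, add_zero, zero_add, neg_zero, sub_zero, sub_self]))) | (first | rfl | ring1 | (rw [← sub_eq_zero]; ring_nf; simp only [h2, h4, h6, h8, h10, h12, h14, h16, h18, h20, h22, h24, h26, h28, h30, h32, mul_zero, zero_mul, add_zero, zero_add, neg_zero, sub_zero, sub_self])))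
  have p2 : Push (R.X28 1) (R.toRelF4.RNF1 (0) (0) (0) (0) (0) (0) (0) (0) (0) (0) (0) (0) (0) (0) (0) (0) (t) (0) (0) (0)) (R.toRelF4.RNF1 (0) (0) (0) (0) (0) (0) (0) (0) (0) (0) (0) (0) (0) (0) (0) (0) (t) (0) (0) (0)) := by
    unfold Push; rw [R.st28]; congr 2 <;> (first | rfl | (simp only [mul_zero, zero_mul, add_zero, zero_add, ne_eq, OfNat.ofNat_ne_zero, not_false_eq_true, zero_pow, one_pow, mul_one, one_mul, CharTwo.add_self_eq_zero]; done) | (simp only [mul_zero, zero_mul, add_zero, zero_add, ne_eq, OfNat.ofNat_ne_zero, not_false_eq_true, zero_pow, one_pow, mul_one, one_mul, CharTwo.add_self_eq_zero]; (first | rfl | ring1 | (rw [← sub_eq_zero]; ring_nf; simp only [h2, h4, h6, h8, h10, h12, h14, h16, h18, h20, h22, h24, h26, h28, h30, h32, mul_zero, zero_mul, add_zero, zero_add, neg_zero, sub_zero, sub_self]))) | (first | rfl | ring1 | (rw [← sub_eq_zero]; ring_nf; simp only [h2, h4, h6, h8, h10, h12, h14, h16, h18, h20, h22, h24, h26, h28, h30, h32, mul_zero,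 zero_mul, add_zero, zero_add, neg_zero, sub_zero, sub_self])))
  have p3 : Push (R.X19 1) (R.toRelF4.RNF1 (0) (0) (0) (0) (0) (0) (0) (0) (0) (0) (0) (0) (0) (0) (0) (0) (t) (0) (0) (0)) (R.toRelF4.RNF1 (0) (0) (0) (0) (0) (0) (t) (0) (0) (0) (0) (0) (0) (0) (0) (0) (t) (0) (0) (0)) := by
    unfold Push; rw [R.st19]; congr 2 <;> (first | rfl | (simp only [mul_zero, zero_mul, add_zero, zero_add, ne_eq, OfNat.ofNat_ne_zero, not_false_eq_true, zero_pow, one_pow, mul_one, one_mul, CharTwo.add_self_eq_zero]; done) | (simp only [mul_zero, zero_mul, add_zero, zero_add, ne_eq, OfNat.ofNat_ne_zero, not_false_eq_true, zero_pow, one_pow, mul_one, one_mul, CharTwo.add_self_eq_zero]; (first | rfl | ring1 | (rw [← sub_eq_zero]; ring_nf; simp only [h2, h4, h6, h8, h10, h12, h14, h16, h18, h20, h22, h24, h26, h28, h30, h32, mul_zero, zero_mul, add_zero, zero_add, neg_zero, sub_zero, sub_self]))) | (first | rfl | ring1 | (rw [← sub_eq_zero]; ring_nf; simp only [h2, h4, h6, h8, h10,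 h12, h14, h16, h18, h20, h22, h24, h26, h28, h30, h32, mul_zero, zero_mul, add_zero, zero_add, neg_zero, sub_zero, sub_self])))
  have p4 : Push (R.X22 1) (R.toRelF4.RNF1 (0) (0) (0) (0) (0) (0) (t) (0) (0) (0) (0) (0) (0) (0) (0) (0) (t) (0) (0) (0)) (R.toRelF4.RNF1 (0) (0) (0) (0) (0) (0) (t) (0) (0) (0) (0) (0) (0) (0) (0) (0) (t) (0) (0) (0)) := by
    unfold Push; rw [R.st22]; congr 2 <;> (first | rfl | (simp only [mul_zero, zero_mul, add_zero, zero_add, ne_eq, OfNat.ofNat_ne_zero, not_false_eq_true, zero_pow, one_pow, mul_one, one_mul, CharTwo.add_self_eq_zero]; done) | (simp only [mul_zero, zero_mul, add_zero, zero_add, ne_eq, OfNat.ofNat_ne_zero, not_false_eq_true, zero_pow, one_pow, mul_one, one_mul, CharTwo.add_self_eq_zero]; (first | rfl | ring1 | (rw [← sub_eq_zero]; ring_nf; simp only [h2, h4, h6, h8, h10, h12, h14, h16, h18, h20, h22, h24, h26, h28, h30, h32, mul_zero, zero_mul, add_zero, zero_add, neg_zero, sub_zero, sub_self]))) | (first | rfl | ring1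 | (rw [← sub_eq_zero]; ring_nf; simp only [h2, h4, h6, h8, h10, h12, h14, h16, h18, h20, h22, h24, h26, h28, h30, h32, mul_zero, zero_mul, add_zero, zero_add, neg_zero, sub_zero, sub_self])))
  have p5 : Push (R.X20 1) (R.toRelF4.RNF1 (0) (0) (0) (0) (0) (0) (t) (0) (0) (0) (0) (0) (0) (0) (0) (0) (t) (0) (0) (0)) (R.toRelF4.RNF1 (0) (0) (0) (0) (t) (0) (t) (0) (0) (0) (0) (0) (t) (0) (0) (0) (t) (0) (0) (0)) := by
    unfold Push; rw [R.st20]; congr 2 <;> (first | rfl | (simp only [mul_zero, zero_mul, add_zero, zero_add, ne_eq, OfNat.ofNat_ne_zero, not_false_eq_true, zero_pow, one_pow, mul_one, one_mul, CharTwo.add_self_eq_zero]; done) | (simp only [mul_zero, zero_mul, add_zero, zero_add, ne_eq, OfNat.ofNat_ne_zero, not_false_eq_true, zero_pow, one_pow, mul_one, one_mul, CharTwo.add_self_eq_zero]; (first | rfl | ring1 | (rw [← sub_eq_zero]; ring_nf; simp only [h2, h4, h6, h8, h10, h12, h14, h16, h18, h20, h22, h24, h26, h28, h30, h32, mul_zero, zero_mul, add_zero,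 zero_add, neg_zero, sub_zero, sub_self]))) | (first | rfl | ring1 | (rw [← sub_eq_zero]; ring_nf; simp only [h2, h4, h6, h8, h10, h12, h14, h16, h18, h20, h22, h24, h26, h28, h30, h32, mul_zero, zero_mul, add_zero, zero_add, neg_zero, sub_zero, sub_self])))
  have p6 : Push (R.X27 1) (R.toRelF4.RNF1 (0) (0) (0) (0) (t) (0) (t) (0) (0) (0) (0) (0) (t) (0) (0) (0) (t) (0) (0) (0)) (R.toRelF4.RNF1 (0) (0) (0) (0) (t) (0) (0) (0) (0) (0) (0) (0) (t) (0) (0) (0) (0) (0) (0) (0)) := by
    unfold Push; rw [R.st27]; congr 2 <;> (first | rfl | (simp only [mul_zero, zero_mul, add_zero, zero_add, ne_eq, OfNat.ofNat_ne_zero, not_false_eq_true, zero_pow, one_pow, mul_one, one_mul, CharTwo.add_self_eq_zero]; done) | (simp only [mul_zero, zero_mul, add_zero, zero_add, ne_eq, OfNat.ofNat_ne_zero, not_false_eq_true, zero_pow, one_pow, mul_one, one_mul, CharTwo.add_self_eq_zero]; (first | rfl | ring1 | (rw [← sub_eq_zero]; ring_nf; simp only [h2, h4, h6, h8, h10, h12, h14, h16, h18,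 h20, h22, h24, h26, h28, h30, h32, mul_zero, zero_mul, add_zero, zero_add, neg_zero, sub_zero, sub_self]))) | (first | rfl | ring1 | (rw [← sub_eq_zero]; ring_nf; simp only [h2, h4, h6, h8, h10, h12, h14, h16, h18, h20, h22, h24, h26, h28, h30, h32, mul_zero, zero_mul, add_zero, zero_add, neg_zero, sub_zero, sub_self])))
  have p7 : Push (R.X25 1) (R.toRelF4.RNF1 (0) (0) (0) (0) (t) (0) (0) (0) (0) (0) (0) (0) (t) (0) (0) (0) (0) (0) (0) (0)) (R.toRelF4.RNF1 (0) (0) (0) (0) (t) (0) (0) (0) (0) (0) (0) (0) (t) (0) (0) (0) (0) (0) (0) (0)) := by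
    unfold Push; rw [R.st25]; congr 2 <;> (first | rfl | (simp only [mul_zero, zero_mul, add_zero, zero_add, ne_eq, OfNat.ofNat_ne_zero, not_false_eq_true, zero_pow, one_pow, mul_one, one_mul, CharTwo.add_self_eq_zero]; done) | (simp only [mul_zero, zero_mul, add_zero, zero_add, ne_eq, OfNat.ofNat_ne_zero, not_false_eq_true, zero_pow, one_pow, mul_one, one_mul, CharTwo.add_self_eq_zero]; (first | rfl | ring1 | (rw [← sub_eq_zero]; ring_nf; simp only [h2, h4, h6, h8, h10, h12, h14, h16, h18, h20, h22, h24, h26, h28, h30, h32, mul_zero, zero_mul, add_zero, zero_add, neg_zero, sub_zero, sub_self]))) | (first | rfl | ring1 | (rw [← sub_eq_zero]; ring_nf; simp only [h2, h4, h6, h8, h10, h12, h14, h16, h18, h20, h22, h24, h26, h28, h30, h32, mul_zero, zero_mul, add_zero, zero_add, neg_zero, sub_zero, sub_self])))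
  have p8 : Push (R.X28 1) (R.toRelF4.RNF1 (0) (0) (0) (0) (t) (0) (0) (0) (0) (0) (0) (0) (t) (0) (0) (0) (0) (0) (0) (0)) (R.toRelF4.RNF1 (0) (0) (0) (0) (t) (0) (0) (0) (0) (0) (0) (0) (0) (0) (0) (0) (0) (0) (0) (0)) := by
    unfold Push; rw [R.st28]; congr 2 <;> (first | rfl | (simp only [mul_zero, zero_mul, add_zero, zero_add, ne_eq, OfNat.ofNat_ne_zero, not_false_eq_true, zero_pow, one_pow, mul_one, one_mul, CharTwo.add_self_eq_zero]; done) | (simp only [mul_zero, zero_mul, add_zero, zero_add, ne_eq, OfNat.ofNat_ne_zero, not_false_eq_true, zero_pow, one_pow, mul_one, one_mul, CharTwo.add_self_eq_zero]; (first | rfl | ring1 | (rw [← sub_eq_zero]; ring_nf; simp only [h2, h4, h6, h8, h10, h12, h14, h16, h18, h20, h22, h24, h26, h28, h30, h32, mul_zero, zero_mul, add_zero, zero_add, neg_zero, sub_zero, sub_self]))) | (first | rfl | ring1 | (rw [← sub_eq_zero]; ring_nf; simp only [h2, h4, h6, h8, h10, h12, h14, h16, h18, h20, h22, h24, h26, h28, h30, h32, mul_zero,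 zero_mul, add_zero, zero_add, neg_zero, sub_zero, sub_self])))
  have p := (((((((p1).comp p2).comp p3).comp p4).comp p5).comp p6).comp p7).comp p8
  have hc := Push.conj (g := R.n8) (by unfold n8; simpa only [mul_assoc] using p)
  exact (congrArg (fun y => R.n8 * y * (R.n8)⁻¹) e0).trans (hc.trans e9.symm)

theorem n8_46 (t : K) : R.n8 * R.X46 t * (R.n8)⁻¹ = R.X42 t := by
  have h2 : (2 : K) = 0 := CharTwo.two_eq_zero
  have h4 : (4 : K) = 0 := by linear_combination 2 * h2
  have h6 : (6 : K) = 0 := by linear_combination 3 * h2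
  have h8 : (8 : K) = 0 := by linear_combination 4 * h2
  have h10 : (10 : K) = 0 := by linear_combination 5 * h2
  have h12 : (12 : K) = 0 := by linear_combination 6 * h2
  have h14 : (14 : K) = 0 := by linear_combination 7 * h2
  have h16 : (16 : K) = 0 := by linear_combination 8 * h2
  have h18 : (18 : K) = 0 := by linear_combination 9 * h2
  have h20 : (20 : K) = 0 := by linear_combination 10 * h2
  have h22 : (22 : K) = 0 := by linear_combination 11 * h2
  have h24 : (24 : K) = 0 := by linear_combination 12 * h2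
  have h26 : (26 : K) = 0 := by linear_combination 13 * h2
  have h28 : (28 : K) = 0 := by linear_combination 14 * h2
  have h30 : (30 : K) = 0 := by linear_combination 15 * h2
  have h32 : (32 : K) = 0 := by linear_combination 16 * h2
  have e0 : R.X46 t = R.toRelF4.RNF1 (0) (0) (0) (0) (0) (0) (0) (0) (0) (0) (0) (0) (0) (0) (0) (0) (0) (t) (0) (0) := by
    unfold RelF4.RNF1; simp only [RelF4.zero33, RelF4.zero24, RelF4.zero34, RelF4.zero26, RelF4.zero36, RelF4.zero42, RelF4.zero38, RelF4.zero43, RelF4.zero29, RelF4.zero41, RelF4.zero44, RelF4.zero47, RelF4.zero39, RelF4.zero45, RelF4.zero35, RelF4.zero31, RelF4.zero40, RelF4.zero46, RelF4.zero37, RelF4.zero32, one_mul, mul_one]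
  have e9 : R.X42 t = R.toRelF4.RNF1 (0) (0) (0) (0) (0) (t) (0) (0) (0) (0) (0) (0) (0) (0) (0) (0) (0) (0) (0) (0) := by
    unfold RelF4.RNF1; simp only [RelF4.zero33, RelF4.zero24, RelF4.zero34, RelF4.zero26, RelF4.zero36, RelF4.zero42, RelF4.zero38, RelF4.zero43, RelF4.zero29, RelF4.zero41, RelF4.zero44, RelF4.zero47, RelF4.zero39, RelF4.zero45, RelF4.zero35, RelF4.zero31, RelF4.zero40, RelF4.zero46, RelF4.zero37, RelF4.zero32, one_mul, mul_one]
  have p1 : Push (R.X30 1) (R.toRelF4.RNF1 (0) (0) (0) (0) (0) (0) (0) (0) (0) (0) (0) (0) (0) (0) (0) (0) (0) (t) (0) (0)) (R.toRelF4.RNF1 (0) (0) (0) (0) (0) (0) (0) (0) (0) (0) (0) (0) (0) (0) (0) (0) (0) (t) (0) (0)) := by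
    unfold Push; rw [R.st30]; congr 2 <;> (first | rfl | (simp only [mul_zero, zero_mul, add_zero, zero_add, ne_eq, OfNat.ofNat_ne_zero, not_false_eq_true, zero_pow, one_pow, mul_one, one_mul, CharTwo.add_self_eq_zero]; done) | (simp only [mul_zero, zero_mul, add_zero, zero_add, ne_eq, OfNat.ofNat_ne_zero, not_false_eq_true, zero_pow, one_pow, mul_one, one_mul, CharTwo.add_self_eq_zero]; (first | rfl | ring1 | (rw [← sub_eq_zero]; ring_nf; simp only [h2, h4, h6, h8, h10, h12, h14, h16, h18, h20, h22, h24, h26, h28, h30, h32, mul_zero, zero_mul, add_zero, zero_add, neg_zero, sub_zero, sub_self]))) | (first | rfl | ring1 | (rw [← sub_eq_zero]; ring_nf; simp only [h2, h4, h6, h8, h10, h12, h14, h16, h18, h20, h22, h24, h26, h28, h30, h32, mul_zero, zero_mul, add_zero, zero_add, neg_zero, sub_zero, sub_self])))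
  have p2 : Push (R.X28 1) (R.toRelF4.RNF1 (0) (0) (0) (0) (0) (0) (0) (0) (0) (0) (0) (0) (0) (0) (0) (0) (0) (t) (0) (0)) (R.toRelF4.RNF1 (0) (0) (0) (0) (0) (0) (0) (0) (0) (0) (0) (0) (0) (0) (0) (0) (0) (t) (0) (0)) := by
    unfold Push; rw [R.st28]; congr 2 <;> (first | rfl | (simp only [mul_zero, zero_mul, add_zero, zero_add, ne_eq, OfNat.ofNat_ne_zero, not_false_eq_true, zero_pow, one_pow, mul_one, one_mul, CharTwo.add_self_eq_zero]; done) | (simp only [mul_zero, zero_mul, add_zero, zero_add, ne_eq, OfNat.ofNat_ne_zero, not_false_eq_true, zero_pow, one_pow, mul_one, one_mul, CharTwo.add_self_eq_zero]; (first | rfl | ring1 | (rw [← sub_eq_zero]; ring_nf; simp only [h2, h4, h6, h8, h10, h12, h14, h16, h18, h20, h22, h24, h26, h28, h30, h32, mul_zero, zero_mul, add_zero, zero_add, neg_zero, sub_zero, sub_self]))) | (first | rfl | ring1 | (rw [← sub_eq_zero]; ring_nf; simp only [h2, h4, h6, h8, h10, h12, h14, h16, h18, h20, h22, h24, h26, h28, h30, h32, mul_zero,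 zero_mul, add_zero, zero_add, neg_zero, sub_zero, sub_self])))
  have p3 : Push (R.X19 1) (R.toRelF4.RNF1 (0) (0) (0) (0) (0) (0) (0) (0) (0) (0) (0) (0) (0) (0) (0) (0) (0) (t) (0) (0)) (R.toRelF4.RNF1 (0) (0) (0) (0) (0) (t) (0) (0) (0) (0) (t) (0) (0) (0) (0) (0) (0) (t) (0) (0)) := by
    unfold Push; rw [R.st19]; congr 2 <;> (first | rfl | (simp only [mul_zero, zero_mul, add_zero, zero_add, ne_eq, OfNat.ofNat_ne_zero, not_false_eq_true, zero_pow, one_pow, mul_one, one_mul, CharTwo.add_self_eq_zero]; done) | (simp only [mul_zero, zero_mul, add_zero, zero_add, ne_eq, OfNat.ofNat_ne_zero, not_false_eq_true, zero_pow, one_pow, mul_one, one_mul, CharTwo.add_self_eq_zero]; (first | rfl | ring1 | (rw [← sub_eq_zero]; ring_nf; simp only [h2, h4, h6, h8, h10, h12, h14, h16, h18, h20, h22, h24, h26, h28, h30, h32, mul_zero, zero_mul, add_zero, zero_add, neg_zero, sub_zero, sub_self]))) | (first | rfl | ring1 | (rw [← sub_eq_zero]; ring_nf; simp only [h2, h4, h6, h8, h10,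 h12, h14, h16, h18, h20, h22, h24, h26, h28, h30, h32, mul_zero, zero_mul, add_zero, zero_add, neg_zero, sub_zero, sub_self])))
  have p4 : Push (R.X22 1) (R.toRelF4.RNF1 (0) (0) (0) (0) (0) (t) (0) (0) (0) (0) (t) (0) (0) (0) (0) (0) (0) (t) (0) (0)) (R.toRelF4.RNF1 (0) (0) (0) (0) (0) (t) (0) (0) (0) (0) (t) (0) (0) (t) (0) (0) (0) (t) (0) (0)) := by
    unfold Push; rw [R.st22]; congr 2 <;> (first | rfl | (simp only [mul_zero, zero_mul, add_zero, zero_add, ne_eq, OfNat.ofNat_ne_zero, not_false_eq_true, zero_pow, one_pow, mul_one, one_mul, CharTwo.add_self_eq_zero]; done) | (simp only [mul_zero, zero_mul, add_zero, zero_add, ne_eq, OfNat.ofNat_ne_zero, not_false_eq_true, zero_pow, one_pow, mul_one, one_mul, CharTwo.add_self_eq_zero]; (first | rfl | ring1 | (rw [← sub_eq_zero]; ring_nf; simp only [h2, h4, h6, h8, h10, h12, h14, h16, h18, h20, h22, h24, h26, h28, h30, h32, mul_zero, zero_mul, add_zero, zero_add, neg_zero, sub_zero, sub_self]))) | (first | rfl | ring1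 | (rw [← sub_eq_zero]; ring_nf; simp only [h2, h4, h6, h8, h10, h12, h14, h16, h18, h20, h22, h24, h26, h28, h30, h32, mul_zero, zero_mul, add_zero, zero_add, neg_zero, sub_zero, sub_self])))
  have p5 : Push (R.X20 1) (R.toRelF4.RNF1 (0) (0) (0) (0) (0) (t) (0) (0) (0) (0) (t) (0) (0) (t) (0) (0) (0) (t) (0) (0)) (R.toRelF4.RNF1 (0) (0) (0) (0) (0) (t) (0) (t) (0) (0) (0) (0) (0) (t) (0) (0) (0) (t) (0) (0)) := by
    unfold Push; rw [R.st20]; congr 2 <;> (first | rfl | (simp only [mul_zero, zero_mul, add_zero, zero_add, ne_eq, OfNat.ofNat_ne_zero, not_false_eq_true, zero_pow, one_pow, mul_one, one_mul, CharTwo.add_self_eq_zero]; done) | (simp only [mul_zero, zero_mul, add_zero, zero_add, ne_eq, OfNat.ofNat_ne_zero, not_false_eq_true, zero_pow, one_pow, mul_one, one_mul, CharTwo.add_self_eq_zero]; (first | rfl | ring1 | (rw [← sub_eq_zero]; ring_nf; simp only [h2, h4, h6, h8, h10, h12, h14, h16, h18, h20, h22, h24, h26, h28, h30, h32, mul_zero, zero_mul, add_zero,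 zero_add, neg_zero, sub_zero, sub_self]))) | (first | rfl | ring1 | (rw [← sub_eq_zero]; ring_nf; simp only [h2, h4, h6, h8, h10, h12, h14, h16, h18, h20, h22, h24, h26, h28, h30, h32, mul_zero, zero_mul, add_zero, zero_add, neg_zero, sub_zero, sub_self])))
  have p6 : Push (R.X27 1) (R.toRelF4.RNF1 (0) (0) (0) (0) (0) (t) (0) (t) (0) (0) (0) (0) (0) (t) (0) (0) (0) (t) (0) (0)) (R.toRelF4.RNF1 (0) (0) (0) (0) (0) (t) (0) (t) (0) (0) (t) (0) (0) (0) (0) (0) (0) (t) (0) (0)) := by
    unfold Push; rw [R.st27]; congr 2 <;> (first | rfl | (simp only [mul_zero, zero_mul, add_zero, zero_add, ne_eq, OfNat.ofNat_ne_zero, not_false_eq_true, zero_pow, one_pow, mul_one, one_mul, CharTwo.add_self_eq_zero]; done) | (simp only [mul_zero, zero_mul, add_zero, zero_add, ne_eq, OfNat.ofNat_ne_zero, not_false_eq_true, zero_pow, one_pow, mul_one, one_mul, CharTwo.add_self_eq_zero]; (first | rfl | ring1 | (rw [← sub_eq_zero]; ring_nf; simp only [h2, h4, h6, h8, h10, h12, h14, h16, h18,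 h20, h22, h24, h26, h28, h30, h32, mul_zero, zero_mul, add_zero, zero_add, neg_zero, sub_zero, sub_self]))) | (first | rfl | ring1 | (rw [← sub_eq_zero]; ring_nf; simp only [h2, h4, h6, h8, h10, h12, h14, h16, h18, h20, h22, h24, h26, h28, h30, h32, mul_zero, zero_mul, add_zero, zero_add, neg_zero, sub_zero, sub_self])))
  have p7 : Push (R.X25 1) (R.toRelF4.RNF1 (0) (0) (0) (0) (0) (t) (0) (t) (0) (0) (t) (0) (0) (0) (0) (0) (0) (t) (0) (0)) (R.toRelF4.RNF1 (0) (0) (0) (0) (0) (t) (0) (0) (0) (0) (t) (0) (0) (0) (0) (0) (0) (t) (0) (0)) := by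
    unfold Push; rw [R.st25]; congr 2 <;> (first | rfl | (simp only [mul_zero, zero_mul, add_zero, zero_add, ne_eq, OfNat.ofNat_ne_zero, not_false_eq_true, zero_pow, one_pow, mul_one, one_mul, CharTwo.add_self_eq_zero]; done) | (simp only [mul_zero, zero_mul, add_zero, zero_add, ne_eq, OfNat.ofNat_ne_zero, not_false_eq_true, zero_pow, one_pow, mul_one, one_mul, CharTwo.add_self_eq_zero]; (first | rfl | ring1 | (rw [← sub_eq_zero]; ring_nf; simp only [h2, h4, h6, h8, h10, h12, h14, h16, h18, h20, h22, h24, h26, h28, h30, h32, mul_zero, zero_mul, add_zero, zero_add, neg_zero, sub_zero, sub_self]))) | (first | rfl | ring1 | (rw [← sub_eq_zero]; ring_nf; simp only [h2, h4, h6, h8, h10, h12, h14, h16, h18, h20, h22, h24, h26, h28, h30, h32, mul_zero, zero_mul, add_zero, zero_add, neg_zero, sub_zero, sub_self])))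
  have p8 : Push (R.X28 1) (R.toRelF4.RNF1 (0) (0) (0) (0) (0) (t) (0) (0) (0) (0) (t) (0) (0) (0) (0) (0) (0) (t) (0) (0)) (R.toRelF4.RNF1 (0) (0) (0) (0) (0) (t) (0) (0) (0) (0) (0) (0) (0) (0) (0) (0) (0) (0) (0) (0)) := by
    unfold Push; rw [R.st28]; congr 2 <;> (first | rfl | (simp only [mul_zero, zero_mul, add_zero, zero_add, ne_eq, OfNat.ofNat_ne_zero, not_false_eq_true, zero_pow, one_pow, mul_one, one_mul, CharTwo.add_self_eq_zero]; done) | (simp only [mul_zero, zero_mul, add_zero, zero_add, ne_eq, OfNat.ofNat_ne_zero, not_false_eq_true, zero_pow, one_pow, mul_one, one_mul, CharTwo.add_self_eq_zero]; (first | rfl | ring1 | (rw [← sub_eq_zero]; ring_nf; simp only [h2, h4, h6, h8, h10, h12, h14, h16, h18, h20, h22, h24, h26, h28, h30, h32, mul_zero, zero_mul, add_zero, zero_add, neg_zero, sub_zero, sub_self]))) | (first | rfl | ring1 | (rw [← sub_eq_zero]; ring_nf; simp only [h2, h4, h6, h8, h10, h12, h14, h16, h18, h20, h22, h24, h26, h28, h30, h32, mul_zero,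 zero_mul, add_zero, zero_add, neg_zero, sub_zero, sub_self])))
  have p := (((((((p1).comp p2).comp p3).comp p4).comp p5).comp p6).comp p7).comp p8
  have hc := Push.conj (g := R.n8) (by unfold n8; simpa only [mul_assoc] using p)
  exact (congrArg (fun y => R.n8 * y * (R.n8)⁻¹) e0).trans (hc.trans e9.symm)

theorem n8_37 (t : K) : R.n8 * R.X37 t * (R.n8)⁻¹ = R.X33 t := by
  have h2 : (2 : K) = 0 := CharTwo.two_eq_zero
  have h4 : (4 : K) = 0 := by linear_combination 2 * h2
  have h6 : (6 : K) = 0 := by linear_combination 3 * h2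
  have h8 : (8 : K) = 0 := by linear_combination 4 * h2
  have h10 : (10 : K) = 0 := by linear_combination 5 * h2
  have h12 : (12 : K) = 0 := by linear_combination 6 * h2
  have h14 : (14 : K) = 0 := by linear_combination 7 * h2
  have h16 : (16 : K) = 0 := by linear_combination 8 * h2
  have h18 : (18 : K) = 0 := by linear_combination 9 * h2
  have h20 : (20 : K) = 0 := by linear_combination 10 * h2
  have h22 : (22 : K) = 0 := by linear_combination 11 * h2
  have h24 : (24 : K) = 0 := by linear_combination 12 * h2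
  have h26 : (26 : K) = 0 := by linear_combination 13 * h2
  have h28 : (28 : K) = 0 := by linear_combination 14 * h2
  have h30 : (30 : K) = 0 := by linear_combination 15 * h2
  have h32 : (32 : K) = 0 := by linear_combination 16 * h2
  have e0 : R.X37 t = R.toRelF4.RNF1 (0) (0) (0) (0) (0) (0) (0) (0) (0) (0) (0) (0) (0) (0) (0) (0) (0) (0) (t) (0) := by
    unfold RelF4.RNF1; simp only [RelF4.zero33, RelF4.zero24, RelF4.zero34, RelF4.zero26, RelF4.zero36, RelF4.zero42, RelF4.zero38, RelF4.zero43, RelF4.zero29, RelF4.zero41, RelF4.zero44, RelF4.zero47, RelF4.zero39, RelF4.zero45, RelF4.zero35, RelF4.zero31, RelF4.zero40, RelF4.zero46, RelF4.zero37, RelF4.zero32, one_mul, mul_one]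
  have e9 : R.X33 t = R.toRelF4.RNF1 (t) (0) (0) (0) (0) (0) (0) (0) (0) (0) (0) (0) (0) (0) (0) (0) (0) (0) (0) (0) := by
    unfold RelF4.RNF1; simp only [RelF4.zero33, RelF4.zero24, RelF4.zero34, RelF4.zero26, RelF4.zero36, RelF4.zero42, RelF4.zero38, RelF4.zero43, RelF4.zero29, RelF4.zero41, RelF4.zero44, RelF4.zero47, RelF4.zero39, RelF4.zero45, RelF4.zero35, RelF4.zero31, RelF4.zero40, RelF4.zero46, RelF4.zero37, RelF4.zero32, one_mul, mul_one]
  have p1 : Push (R.X30 1) (R.toRelF4.RNF1 (0) (0) (0) (0) (0) (0) (0) (0) (0) (0) (0) (0) (0) (0) (0) (0) (0) (0) (t) (0)) (R.toRelF4.RNF1 (0) (0) (0) (0) (0) (0) (0) (0) (0) (0) (0) (0) (0) (0) (0) (0) (0) (0) (t) (0)) := by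
    unfold Push; rw [R.st30]; congr 2 <;> (first | rfl | (simp only [mul_zero, zero_mul, add_zero, zero_add, ne_eq, OfNat.ofNat_ne_zero, not_false_eq_true, zero_pow, one_pow, mul_one, one_mul, CharTwo.add_self_eq_zero]; done) | (simp only [mul_zero, zero_mul, add_zero, zero_add, ne_eq, OfNat.ofNat_ne_zero, not_false_eq_true, zero_pow, one_pow, mul_one, one_mul, CharTwo.add_self_eq_zero]; (first | rfl | ring1 | (rw [← sub_eq_zero]; ring_nf; simp only [h2, h4, h6, h8, h10, h12, h14, h16, h18, h20, h22, h24, h26, h28, h30, h32, mul_zero, zero_mul, add_zero, zero_add, neg_zero, sub_zero, sub_self]))) | (first | rfl | ring1 | (rw [← sub_eq_zero]; ring_nf; simp only [h2, h4, h6, h8, h10, h12, h14, h16, h18, h20, h22, h24, h26, h28, h30, h32, mul_zero, zero_mul, add_zero, zero_add, neg_zero, sub_zero, sub_self])))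
  have p2 : Push (R.X28 1) (R.toRelF4.RNF1 (0) (0) (0) (0) (0) (0) (0) (0) (0) (0) (0) (0) (0) (0) (0) (0) (0) (0) (t) (0)) (R.toRelF4.RNF1 (0) (0) (0) (0) (0) (0) (0) (0) (0) (0) (0) (0) (0) (0) (0) (0) (0) (0) (t) (0)) := by
    unfold Push; rw [R.st28]; congr 2 <;> (first | rfl | (simp only [mul_zero, zero_mul, add_zero, zero_add, ne_eq, OfNat.ofNat_ne_zero, not_false_eq_true, zero_pow, one_pow, mul_one, one_mul, CharTwo.add_self_eq_zero]; done) | (simp only [mul_zero, zero_mul, add_zero, zero_add, ne_eq, OfNat.ofNat_ne_zero, not_false_eq_true, zero_pow, one_pow, mul_one, one_mul, CharTwo.add_self_eq_zero]; (first | rfl | ring1 | (rw [← sub_eq_zero]; ring_nf; simp only [h2, h4, h6, h8, h10, h12, h14, h16, h18, h20, h22, h24, h26, h28, h30, h32, mul_zero, zero_mul, add_zero, zero_add, neg_zero, sub_zero, sub_self]))) | (first | rfl | ring1 | (rw [← sub_eq_zero]; ring_nf; simp only [h2, h4, h6, h8, h10, h12, h14, h16, h18, h20, h22, h24, h26, h28, h30, h32, mul_zero,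 zero_mul, add_zero, zero_add, neg_zero, sub_zero, sub_self])))
  have p3 : Push (R.X19 1) (R.toRelF4.RNF1 (0) (0) (0) (0) (0) (0) (0) (0) (0) (0) (0) (0) (0) (0) (0) (0) (0) (0) (t) (0)) (R.toRelF4.RNF1 (0) (0) (t) (0) (0) (0) (0) (0) (0) (0) (0) (0) (0) (0) (0) (0) (0) (0) (t) (0)) := by
    unfold Push; rw [R.st19]; congr 2 <;> (first | rfl | (simp only [mul_zero, zero_mul, add_zero, zero_add, ne_eq, OfNat.ofNat_ne_zero, not_false_eq_true, zero_pow, one_pow, mul_one, one_mul, CharTwo.add_self_eq_zero]; done) | (simp only [mul_zero, zero_mul, add_zero, zero_add, ne_eq, OfNat.ofNat_ne_zero, not_false_eq_true, zero_pow, one_pow, mul_one, one_mul, CharTwo.add_self_eq_zero]; (first | rfl | ring1 | (rw [← sub_eq_zero]; ring_nf; simp only [h2, h4, h6, h8, h10, h12, h14, h16, h18, h20, h22, h24, h26, h28, h30, h32, mul_zero, zero_mul, add_zero, zero_add, neg_zero, sub_zero, sub_self]))) | (first | rfl | ring1 | (rw [← sub_eq_zero]; ring_nf; simp only [h2, h4, h6, h8, h10,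 h12, h14, h16, h18, h20, h22, h24, h26, h28, h30, h32, mul_zero, zero_mul, add_zero, zero_add, neg_zero, sub_zero, sub_self])))
  have p4 : Push (R.X22 1) (R.toRelF4.RNF1 (0) (0) (t) (0) (0) (0) (0) (0) (0) (0) (0) (0) (0) (0) (0) (0) (0) (0) (t) (0)) (R.toRelF4.RNF1 (0) (0) (t) (0) (0) (0) (0) (0) (0) (0) (0) (0) (0) (0) (0) (0) (0) (0) (t) (0)) := by
    unfold Push; rw [R.st22]; congr 2 <;> (first | rfl | (simp only [mul_zero, zero_mul, add_zero, zero_add, ne_eq, OfNat.ofNat_ne_zero, not_false_eq_true, zero_pow, one_pow, mul_one, one_mul, CharTwo.add_self_eq_zero]; done) | (simp only [mul_zero, zero_mul, add_zero, zero_add, ne_eq, OfNat.ofNat_ne_zero, not_false_eq_true, zero_pow, one_pow, mul_one, one_mul, CharTwo.add_self_eq_zero]; (first | rfl | ring1 | (rw [← sub_eq_zero]; ring_nf; simp only [h2, h4, h6, h8, h10, h12, h14, h16, h18, h20, h22, h24, h26, h28, h30, h32, mul_zero, zero_mul, add_zero, zero_add, neg_zero, sub_zero, sub_self]))) | (first | rfl | ring1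 | (rw [← sub_eq_zero]; ring_nf; simp only [h2, h4, h6, h8, h10, h12, h14, h16, h18, h20, h22, h24, h26, h28, h30, h32, mul_zero, zero_mul, add_zero, zero_add, neg_zero, sub_zero, sub_self])))
  have p5 : Push (R.X20 1) (R.toRelF4.RNF1 (0) (0) (t) (0) (0) (0) (0) (0) (0) (0) (0) (0) (0) (0) (0) (0) (0) (0) (t) (0)) (R.toRelF4.RNF1 (t) (0) (t) (0) (0) (0) (0) (0) (0) (0) (0) (0) (0) (0) (t) (0) (0) (0) (t) (0)) := by
    unfold Push; rw [R.st20]; congr 2 <;> (first | rfl | (simp only [mul_zero, zero_mul, add_zero, zero_add, ne_eq, OfNat.ofNat_ne_zero, not_false_eq_true, zero_pow, one_pow, mul_one, one_mul, CharTwo.add_self_eq_zero]; done) | (simp only [mul_zero, zero_mul, add_zero, zero_add, ne_eq, OfNat.ofNat_ne_zero, not_false_eq_true, zero_pow, one_pow, mul_one, one_mul, CharTwo.add_self_eq_zero]; (first | rfl | ring1 | (rw [← sub_eq_zero]; ring_nf; simp only [h2, h4, h6, h8, h10, h12, h14, h16, h18, h20, h22, h24, h26, h28, h30, h32, mul_zero, zero_mul, add_zero,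 zero_add, neg_zero, sub_zero, sub_self]))) | (first | rfl | ring1 | (rw [← sub_eq_zero]; ring_nf; simp only [h2, h4, h6, h8, h10, h12, h14, h16, h18, h20, h22, h24, h26, h28, h30, h32, mul_zero, zero_mul, add_zero, zero_add, neg_zero, sub_zero, sub_self])))
  have p6 : Push (R.X27 1) (R.toRelF4.RNF1 (t) (0) (t) (0) (0) (0) (0) (0) (0) (0) (0) (0) (0) (0) (t) (0) (0) (0) (t) (0)) (R.toRelF4.RNF1 (t) (0) (0) (0) (0) (0) (0) (0) (0) (0) (0) (0) (0) (0) (t) (0) (0) (0) (0) (0)) := by
    unfold Push; rw [R.st27]; congr 2 <;> (first | rfl | (simp only [mul_zero, zero_mul, add_zero, zero_add, ne_eq, OfNat.ofNat_ne_zero, not_false_eq_true, zero_pow, one_pow, mul_one, one_mul, CharTwo.add_self_eq_zero]; done) | (simp only [mul_zero, zero_mul, add_zero, zero_add, ne_eq, OfNat.ofNat_ne_zero, not_false_eq_true, zero_pow, one_pow, mul_one, one_mul, CharTwo.add_self_eq_zero]; (first | rfl | ring1 | (rw [← sub_eq_zero]; ring_nf; simp only [h2, h4, h6, h8, h10, h12, h14, h16, h18,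 h20, h22, h24, h26, h28, h30, h32, mul_zero, zero_mul, add_zero, zero_add, neg_zero, sub_zero, sub_self]))) | (first | rfl | ring1 | (rw [← sub_eq_zero]; ring_nf; simp only [h2, h4, h6, h8, h10, h12, h14, h16, h18, h20, h22, h24, h26, h28, h30, h32, mul_zero, zero_mul, add_zero, zero_add, neg_zero, sub_zero, sub_self])))
  have p7 : Push (R.X25 1) (R.toRelF4.RNF1 (t) (0) (0) (0) (0) (0) (0) (0) (0) (0) (0) (0) (0) (0) (t) (0) (0) (0) (0) (0)) (R.toRelF4.RNF1 (t) (0) (0) (0) (0) (0) (0) (0) (0) (0) (0) (0) (0) (0) (t) (0) (0) (0) (0) (0)) := by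
    unfold Push; rw [R.st25]; congr 2 <;> (first | rfl | (simp only [mul_zero, zero_mul, add_zero, zero_add, ne_eq, OfNat.ofNat_ne_zero, not_false_eq_true, zero_pow, one_pow, mul_one, one_mul, CharTwo.add_self_eq_zero]; done) | (simp only [mul_zero, zero_mul, add_zero, zero_add, ne_eq, OfNat.ofNat_ne_zero, not_false_eq_true, zero_pow, one_pow, mul_one, one_mul, CharTwo.add_self_eq_zero]; (first | rfl | ring1 | (rw [← sub_eq_zero]; ring_nf; simp only [h2, h4, h6, h8, h10, h12, h14, h16, h18, h20, h22, h24, h26, h28, h30, h32, mul_zero, zero_mul, add_zero, zero_add, neg_zero, sub_zero, sub_self]))) | (first | rfl | ring1 | (rw [← sub_eq_zero]; ring_nf; simp only [h2, h4, h6, h8, h10, h12, h14, h16, h18, h20, h22, h24, h26, h28, h30, h32, mul_zero, zero_mul, add_zero, zero_add, neg_zero, sub_zero, sub_self])))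
  have p8 : Push (R.X28 1) (R.toRelF4.RNF1 (t) (0) (0) (0) (0) (0) (0) (0) (0) (0) (0) (0) (0) (0) (t) (0) (0) (0) (0) (0)) (R.toRelF4.RNF1 (t) (0) (0) (0) (0) (0) (0) (0) (0) (0) (0) (0) (0) (0) (0) (0) (0) (0) (0) (0)) := by
    unfold Push; rw [R.st28]; congr 2 <;> (first | rfl | (simp only [mul_zero, zero_mul, add_zero, zero_add, ne_eq, OfNat.ofNat_ne_zero, not_false_eq_true, zero_pow, one_pow, mul_one, one_mul, CharTwo.add_self_eq_zero]; done) | (simp only [mul_zero, zero_mul, add_zero, zero_add, ne_eq, OfNat.ofNat_ne_zero, not_false_eq_true, zero_pow, one_pow, mul_one, one_mul, CharTwo.add_self_eq_zero]; (first | rfl | ring1 | (rw [← sub_eq_zero]; ring_nf; simp only [h2, h4, h6, h8, h10, h12, h14, h16, h18, h20, h22, h24, h26, h28, h30, h32, mul_zero, zero_mul, add_zero, zero_add, neg_zero, sub_zero, sub_self]))) | (first | rfl | ring1 | (rw [← sub_eq_zero]; ring_nf; simp only [h2, h4, h6, h8, h10, h12, h14, h16, h18, h20, h22, h24, h26, h28, h30, h32, mul_zero,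 zero_mul, add_zero, zero_add, neg_zero, sub_zero, sub_self])))
  have p := (((((((p1).comp p2).comp p3).comp p4).comp p5).comp p6).comp p7).comp p8
  have hc := Push.conj (g := R.n8) (by unfold n8; simpa only [mul_assoc] using p)
  exact (congrArg (fun y => R.n8 * y * (R.n8)⁻¹) e0).trans (hc.trans e9.symm)

theorem n8_32 (t : K) : R.n8 * R.X32 t * (R.n8)⁻¹ = R.X24 t := by
  have h2 : (2 : K) = 0 := CharTwo.two_eq_zero
  have h4 : (4 : K) = 0 := by linear_combination 2 * h2
  have h6 : (6 : K) = 0 := by linear_combination 3 * h2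
  have h8 : (8 : K) = 0 := by linear_combination 4 * h2
  have h10 : (10 : K) = 0 := by linear_combination 5 * h2
  have h12 : (12 : K) = 0 := by linear_combination 6 * h2
  have h14 : (14 : K) = 0 := by linear_combination 7 * h2
  have h16 : (16 : K) = 0 := by linear_combination 8 * h2
  have h18 : (18 : K) = 0 := by linear_combination 9 * h2
  have h20 : (20 : K) = 0 := by linear_combination 10 * h2
  have h22 : (22 : K) = 0 := by linear_combination 11 * h2
  have h24 : (24 : K) = 0 := by linear_combination 12 * h2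
  have h26 : (26 : K) = 0 := by linear_combination 13 * h2
  have h28 : (28 : K) = 0 := by linear_combination 14 * h2
  have h30 : (30 : K) = 0 := by linear_combination 15 * h2
  have h32 : (32 : K) = 0 := by linear_combination 16 * h2
  have e0 : R.X32 t = R.toRelF4.RNF1 (0) (0) (0) (0) (0) (0) (0) (0) (0) (0) (0) (0) (0) (0) (0) (0) (0) (0) (0) (t) := by
    unfold RelF4.RNF1; simp only [RelF4.zero33, RelF4.zero24, RelF4.zero34, RelF4.zero26, RelF4.zero36, RelF4.zero42, RelF4.zero38, RelF4.zero43, RelF4.zero29, RelF4.zero41, RelF4.zero44, RelF4.zero47, RelF4.zero39, RelF4.zero45, RelF4.zero35, RelF4.zero31, RelF4.zero40, RelF4.zero46, RelF4.zero37, RelF4.zero32, one_mul, mul_one]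
  have e9 : R.X24 t = R.toRelF4.RNF1 (0) (t) (0) (0) (0) (0) (0) (0) (0) (0) (0) (0) (0) (0) (0) (0) (0) (0) (0) (0) := by
    unfold RelF4.RNF1; simp only [RelF4.zero33, RelF4.zero24, RelF4.zero34, RelF4.zero26, RelF4.zero36, RelF4.zero42, RelF4.zero38, RelF4.zero43, RelF4.zero29, RelF4.zero41, RelF4.zero44, RelF4.zero47, RelF4.zero39, RelF4.zero45, RelF4.zero35, RelF4.zero31, RelF4.zero40, RelF4.zero46, RelF4.zero37, RelF4.zero32, one_mul, mul_one]
  have p1 : Push (R.X30 1) (R.toRelF4.RNF1 (0) (0) (0) (0) (0) (0) (0) (0) (0) (0) (0) (0) (0) (0) (0) (0) (0) (0) (0) (t)) (R.toRelF4.RNF1 (0) (0) (0) (0) (0) (0) (0) (0) (0) (0) (0) (0) (0) (0) (0) (0) (0) (0) (0) (t)) := by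
    unfold Push; rw [R.st30]; congr 2 <;> (first | rfl | (simp only [mul_zero, zero_mul, add_zero, zero_add, ne_eq, OfNat.ofNat_ne_zero, not_false_eq_true, zero_pow, one_pow, mul_one, one_mul, CharTwo.add_self_eq_zero]; done) | (simp only [mul_zero, zero_mul, add_zero, zero_add, ne_eq, OfNat.ofNat_ne_zero, not_false_eq_true, zero_pow, one_pow, mul_one, one_mul, CharTwo.add_self_eq_zero]; (first | rfl | ring1 | (rw [← sub_eq_zero]; ring_nf; simp only [h2, h4, h6, h8, h10, h12, h14, h16, h18, h20, h22, h24, h26, h28, h30, h32, mul_zero, zero_mul, add_zero, zero_add, neg_zero, sub_zero, sub_self]))) | (first | rfl | ring1 | (rw [← sub_eq_zero]; ring_nf; simp only [h2, h4, h6, h8, h10, h12, h14, h16, h18, h20, h22, h24, h26, h28, h30, h32, mul_zero, zero_mul, add_zero, zero_add, neg_zero, sub_zero, sub_self])))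
  have p2 : Push (R.X28 1) (R.toRelF4.RNF1 (0) (0) (0) (0) (0) (0) (0) (0) (0) (0) (0) (0) (0) (0) (0) (0) (0) (0) (0) (t)) (R.toRelF4.RNF1 (0) (0) (0) (0) (0) (0) (0) (0) (0) (0) (0) (0) (0) (0) (0) (0) (0) (0) (0) (t)) := by
    unfold Push; rw [R.st28]; congr 2 <;> (first | rfl | (simp only [mul_zero, zero_mul, add_zero, zero_add, ne_eq, OfNat.ofNat_ne_zero, not_false_eq_true, zero_pow, one_pow, mul_one, one_mul, CharTwo.add_self_eq_zero]; done) | (simp only [mul_zero, zero_mul, add_zero, zero_add, ne_eq, OfNat.ofNat_ne_zero, not_false_eq_true, zero_pow, one_pow, mul_one, one_mul, CharTwo.add_self_eq_zero]; (first | rfl | ring1 | (rw [← sub_eq_zero]; ring_nf; simp only [h2, h4, h6, h8, h10, h12, h14, h16, h18, h20, h22, h24, h26, h28, h30, h32, mul_zero, zero_mul, add_zero, zero_add, neg_zero, sub_zero, sub_self]))) | (first | rfl | ring1 | (rw [← sub_eq_zero]; ring_nf; simp only [h2, h4, h6, h8, h10, h12, h14, h16, h18, h20, h22, h24, h26, h28, h30, h32, mul_zero,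 zero_mul, add_zero, zero_add, neg_zero, sub_zero, sub_self])))
  have p3 : Push (R.X19 1) (R.toRelF4.RNF1 (0) (0) (0) (0) (0) (0) (0) (0) (0) (0) (0) (0) (0) (0) (0) (0) (0) (0) (0) (t)) (R.toRelF4.RNF1 (0) (t) (0) (0) (0) (0) (0) (0) (t) (0) (0) (0) (0) (0) (0) (0) (0) (0) (0) (t)) := by
    unfold Push; rw [R.st19]; congr 2 <;> (first | rfl | (simp only [mul_zero, zero_mul, add_zero, zero_add, ne_eq, OfNat.ofNat_ne_zero, not_false_eq_true, zero_pow, one_pow, mul_one, one_mul, CharTwo.add_self_eq_zero]; done) | (simp only [mul_zero, zero_mul, add_zero, zero_add, ne_eq, OfNat.ofNat_ne_zero, not_false_eq_true, zero_pow, one_pow, mul_one, one_mul, CharTwo.add_self_eq_zero]; (first | rfl | ring1 | (rw [← sub_eq_zero]; ring_nf; simp only [h2, h4, h6, h8, h10, h12, h14, h16, h18, h20, h22, h24, h26, h28, h30, h32, mul_zero, zero_mul, add_zero, zero_add, neg_zero, sub_zero, sub_self]))) | (first | rfl | ring1 | (rw [← sub_eq_zero]; ring_nf; simp only [h2, h4, h6, h8, h10,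 h12, h14, h16, h18, h20, h22, h24, h26, h28, h30, h32, mul_zero, zero_mul, add_zero, zero_add, neg_zero, sub_zero, sub_self])))
  have p4 : Push (R.X22 1) (R.toRelF4.RNF1 (0) (t) (0) (0) (0) (0) (0) (0) (t) (0) (0) (0) (0) (0) (0) (0) (0) (0) (0) (t)) (R.toRelF4.RNF1 (0) (t) (0) (0) (0) (0) (0) (0) (t) (0) (0) (0) (0) (0) (0) (t) (0) (0) (0) (t)) := by
    unfold Push; rw [R.st22]; congr 2 <;> (first | rfl | (simp only [mul_zero, zero_mul, add_zero, zero_add, ne_eq, OfNat.ofNat_ne_zero, not_false_eq_true, zero_pow, one_pow, mul_one, one_mul, CharTwo.add_self_eq_zero]; done) | (simp only [mul_zero, zero_mul, add_zero, zero_add, ne_eq, OfNat.ofNat_ne_zero, not_false_eq_true, zero_pow, one_pow, mul_one, one_mul, CharTwo.add_self_eq_zero]; (first | rfl | ring1 | (rw [← sub_eq_zero]; ring_nf; simp only [h2, h4, h6, h8, h10, h12, h14, h16, h18, h20, h22, h24, h26, h28, h30, h32, mul_zero, zero_mul, add_zero, zero_add, neg_zero, sub_zero, sub_self]))) | (first | rfl | ring1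 | (rw [← sub_eq_zero]; ring_nf; simp only [h2, h4, h6, h8, h10, h12, h14, h16, h18, h20, h22, h24, h26, h28, h30, h32, mul_zero, zero_mul, add_zero, zero_add, neg_zero, sub_zero, sub_self])))
  have p5 : Push (R.X20 1) (R.toRelF4.RNF1 (0) (t) (0) (0) (0) (0) (0) (0) (t) (0) (0) (0) (0) (0) (0) (t) (0) (0) (0) (t)) (R.toRelF4.RNF1 (0) (t) (0) (t) (0) (0) (0) (0) (0) (0) (0) (0) (0) (0) (0) (t) (0) (0) (0) (t)) := by
    unfold Push; rw [R.st20]; congr 2 <;> (first | rfl | (simp only [mul_zero, zero_mul, add_zero, zero_add, ne_eq, OfNat.ofNat_ne_zero, not_false_eq_true, zero_pow, one_pow, mul_one, one_mul, CharTwo.add_self_eq_zero]; done) | (simp only [mul_zero, zero_mul, add_zero, zero_add, ne_eq, OfNat.ofNat_ne_zero, not_false_eq_true, zero_pow, one_pow, mul_one, one_mul, CharTwo.add_self_eq_zero]; (first | rfl | ring1 | (rw [← sub_eq_zero]; ring_nf; simp only [h2, h4, h6, h8, h10, h12, h14, h16, h18, h20, h22, h24, h26, h28, h30, h32, mul_zero, zero_mul, add_zero,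 zero_add, neg_zero, sub_zero, sub_self]))) | (first | rfl | ring1 | (rw [← sub_eq_zero]; ring_nf; simp only [h2, h4, h6, h8, h10, h12, h14, h16, h18, h20, h22, h24, h26, h28, h30, h32, mul_zero, zero_mul, add_zero, zero_add, neg_zero, sub_zero, sub_self])))
  have p6 : Push (R.X27 1) (R.toRelF4.RNF1 (0) (t) (0) (t) (0) (0) (0) (0) (0) (0) (0) (0) (0) (0) (0) (t) (0) (0) (0) (t)) (R.toRelF4.RNF1 (0) (t) (0) (t) (0) (0) (0) (0) (t) (0) (0) (0) (0) (0) (0) (0) (0) (0) (0) (t)) := by
    unfold Push; rw [R.st27]; congr 2 <;> (first | rfl | (simp only [mul_zero, zero_mul, add_zero, zero_add, ne_eq, OfNat.ofNat_ne_zero, not_false_eq_true, zero_pow, one_pow, mul_one, one_mul, CharTwo.add_self_eq_zero]; done) | (simp only [mul_zero, zero_mul, add_zero, zero_add, ne_eq, OfNat.ofNat_ne_zero, not_false_eq_true, zero_pow, one_pow, mul_one, one_mul, CharTwo.add_self_eq_zero]; (first | rfl | ring1 | (rw [← sub_eq_zero]; ring_nf; simp only [h2, h4, h6, h8, h10, h12, h14, h16, h18,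 h20, h22, h24, h26, h28, h30, h32, mul_zero, zero_mul, add_zero, zero_add, neg_zero, sub_zero, sub_self]))) | (first | rfl | ring1 | (rw [← sub_eq_zero]; ring_nf; simp only [h2, h4, h6, h8, h10, h12, h14, h16, h18, h20, h22, h24, h26, h28, h30, h32, mul_zero, zero_mul, add_zero, zero_add, neg_zero, sub_zero, sub_self])))
  have p7 : Push (R.X25 1) (R.toRelF4.RNF1 (0) (t) (0) (t) (0) (0) (0) (0) (t) (0) (0) (0) (0) (0) (0) (0) (0) (0) (0) (t)) (R.toRelF4.RNF1 (0) (t) (0) (0) (0) (0) (0) (0) (t) (0) (0) (0) (0) (0) (0) (0) (0) (0) (0) (t)) := by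
    unfold Push; rw [R.st25]; congr 2 <;> (first | rfl | (simp only [mul_zero, zero_mul, add_zero, zero_add, ne_eq, OfNat.ofNat_ne_zero, not_false_eq_true, zero_pow, one_pow, mul_one, one_mul, CharTwo.add_self_eq_zero]; done) | (simp only [mul_zero, zero_mul, add_zero, zero_add, ne_eq, OfNat.ofNat_ne_zero, not_false_eq_true, zero_pow, one_pow, mul_one, one_mul, CharTwo.add_self_eq_zero]; (first | rfl | ring1 | (rw [← sub_eq_zero]; ring_nf; simp only [h2, h4, h6, h8, h10, h12, h14, h16, h18, h20, h22, h24, h26, h28, h30, h32, mul_zero, zero_mul, add_zero, zero_add, neg_zero, sub_zero, sub_self]))) | (first | rfl | ring1 | (rw [← sub_eq_zero]; ring_nf; simp only [h2, h4, h6, h8, h10, h12, h14, h16, h18, h20, h22, h24, h26, h28, h30, h32, mul_zero, zero_mul, add_zero, zero_add, neg_zero, sub_zero, sub_self])))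
  have p8 : Push (R.X28 1) (R.toRelF4.RNF1 (0) (t) (0) (0) (0) (0) (0) (0) (t) (0) (0) (0) (0) (0) (0) (0) (0) (0) (0) (t)) (R.toRelF4.RNF1 (0) (t) (0) (0) (0) (0) (0) (0) (0) (0) (0) (0) (0) (0) (0) (0) (0) (0) (0) (0)) := by
    unfold Push; rw [R.st28]; congr 2 <;> (first | rfl | (simp only [mul_zero, zero_mul, add_zero, zero_add, ne_eq, OfNat.ofNat_ne_zero, not_false_eq_true, zero_pow, one_pow, mul_one, one_mul, CharTwo.add_self_eq_zero]; done) | (simp only [mul_zero, zero_mul, add_zero, zero_add, ne_eq, OfNat.ofNat_ne_zero, not_false_eq_true, zero_pow, one_pow, mul_one, one_mul, CharTwo.add_self_eq_zero]; (first | rfl | ring1 | (rw [← sub_eq_zero]; ring_nf; simp only [h2, h4, h6, h8, h10, h12, h14, h16, h18, h20, h22, h24, h26, h28, h30, h32, mul_zero, zero_mul, add_zero, zero_add, neg_zero, sub_zero, sub_self]))) | (first | rfl | ring1 | (rw [← sub_eq_zero]; ring_nf; simp only [h2, h4, h6, h8, h10, h12, h14, h16, h18, h20, h22, h24, h26, h28, h30, h32, mul_zero,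 zero_mul, add_zero, zero_add, neg_zero, sub_zero, sub_self])))
  have p := (((((((p1).comp p2).comp p3).comp p4).comp p5).comp p6).comp p7).comp p8
  have hc := Push.conj (g := R.n8) (by unfold n8; simpa only [mul_assoc] using p)
  exact (congrArg (fun y => R.n8 * y * (R.n8)⁻¹) e0).trans (hc.trans e9.symm)

end RelF4N

end Cfsg.Agent.Helper4.F4Inv
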