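import Cfsg.Agent.Helper4.F4Inv.Skel
import Cfsg.Agent.Helper4.F4Inv.NAct1
import Cfsg.Agent.Helper4.F4Inv.NAct8
import Cfsg.Agent.Helper4.F4Inv.Inj2
import Cfsg.Agent.Helper36.F4UFinal
import Cfsg.Agent.Helper19.Twist.OrdProd

/-!
# S2184, concrete part 1: the twisted root elements in `²F₄(q)`, the Weyl elements, uniqueness of the
normal form
-/

set_option autoImplicit false
set_option maxRecDepth 100000
set_option maxHeartbeats 1000000
set_option linter.unusedSimpArgs false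
set_option linter.unusedVariables false
set_option linter.unusedSectionVars false

namespace Cfsg.Agent.Helper4.F4Inv

open Cfsg Cfsg.Lie Cfsg.Agent.Helper18 Cfsg.Agent.Helper36.F4Class Cfsg.Agent.Helper36.SigmaF4
  Cfsg.Agent.Helper40.UT Cfsg.Agent.Helper40.UGrade Cfsg.Agent.Helper19.Twist

section

variable {K : Type*} [Field K] [CharP K 2] [Fintype K] {m : ℕ}

local notation "Rc" => (f4RelN (K := K))
local notation "R0" => (f4Rel (K := K))
local notation "Gt" => twistedF4 K (2 ^ m)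
local notation "θ" => (phi (K := K) m)

theorem memA (t : K) : RelF4.PA R0 θ t ∈ Gt := by
  have h := PpG_mem (K := K) (m := m) t
  unfold PpG at h
  rw [Subgroup.coe_mul, XG_val, XG_val] at h
  exact h

theorem memAm (t : K) : xGL chevF4 K 14 (θ t) * xGL chevF4 K 23 t ∈ Gt := by
  have h := PmG_mem (K := K) (m := m) t
  unfold PmG at h
  rw [Subgroup.coe_mul, XG_val, XG_val] at h
  exact h

theorem memH (t u : K) : RelF4.SH R0 θ t u ∈ Gt := by
  have h := BpG_mem (K := K) (m := m) t u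
  unfold BpG Cfsg.Agent.Helper36.B2Class.beta Cfsg.Agent.Helper36.B2Class.nf at h
  simp only [Subgroup.coe_mul, XG_val, mul_assoc] at h
  exact h

theorem memHm (t u : K) : xGL chevF4 K 20 (θ t) * (xGL chevF4 K 22 t *
    (xGL chevF4 K 19 (θ t * t + u) * xGL chevF4 K 17 (θ u ^ 2))) ∈ Gt := by
  have h := BmG_mem (K := K) (m := m) t u
  unfold BmG Cfsg.Agent.Helper36.B2Class.beta Cfsg.Agent.Helper36.B2Class.nf at h
  simp only [Subgroup.coe_mul, XG_val, mul_assoc] at h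
  exact h

/-- the Weyl element `n1` lies in the twisted group -/
theorem n1_mem : RelF4N.n1 Rc ∈ Gt := by
  have h1 := memA (K := K) (m := m) 1
  have h2 := memAm (K := K) (m := m) 1
  have e : RelF4N.n1 Rc = RelF4.PA R0 θ 1 * ((xGL chevF4 K 14 (θ 1) * xGL chevF4 K 23 1) * RelF4.PA R0 θ 1) := by
    unfold RelF4N.n1 RelF4.PA
    simp only [map_one, mul_assoc]
    rfl
  rw [e]
  exact mul_mem h1 (mul_mem h2 h1)

/-- the Weyl element `n8` lies in the twisted group -/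
theorem n8_mem : RelF4N.n8 Rc ∈ Gt := by
  have h1 := memH (K := K) (m := m) 1 0
  have h2 := memHm (K := K) (m := m) 1 0
  have h3 := memH (K := K) (m := m) 0 1
  have e : RelF4N.n8 Rc = (RelF4.SH R0 θ 1 0)⁻¹ * ((xGL chevF4 K 20 (θ 1) * (xGL chevF4 K 22 1 *
      (xGL chevF4 K 19 (θ 1 * 1 + 0) * xGL chevF4 K 17 (θ 0 ^ 2)))) * RelF4.SH R0 θ 0 1) := by
    unfold RelF4N.n8 RelF4.SH
    simp only [map_one, map_zero, mul_one, add_zero, zero_add, ne_eq, OfNat.ofNat_ne_zero,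
      not_false_eq_true, zero_pow, one_pow, mul_zero, mul_inv_rev, (RelF4.inv27 R0), (RelF4.inv25 R0), (RelF4.inv28 R0), (RelF4.inv30 R0),
      (RelF4.zero27 R0), (RelF4.zero25 R0), (RelF4.zero30 R0), xg_zero, one_mul, mul_assoc]
    rfl
  rw [e]
  exact mul_mem (inv_mem h1) (mul_mem h2 h3)

/-! ### stripping the first and the last class -/

omit [CharP K 2] [Fintype K] in
theorem xmem {φ : ℕ → ℤ} {wit : ℕ → ℕ × ℕ} (hg : gradeOK' chevF4 φ wit = true) (n : ℕ) (r : ℕ)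
    (hr : 24 ≤ r ∧ r < 48) (hn : (n : ℤ) + 1 ≤ φ r) (c : K) :
    xGL chevF4 K r c ∈ utSub (lvOf chevF4 φ) K n := by
  rw [mem_utSub, xGL_val chevF4 _ (triOK_of_mem chevF4 Cfsg.Agent.Helper4.F4Inv.hF4)]
  exact (x_raises' hg r ((isPosRoot_iff r).mpr hr) c).mono hn

omit [CharP K 2] [Fintype K] in
theorem strip_front {φ : ℕ → ℤ} {wit : ℕ → ℕ × ℕ} (hg : gradeOK' chevF4 φ wit = true) (r : ℕ)
    (hr : 24 ≤ r ∧ r < 48) (c : K) (y : GL chevF4.Idx K)
    (hy : y ∈ utSub (lvOf chevF4 φ) K (φ r).toNat) (h : xGL chevF4 K r c * y = 1) : c = 0 := by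
  have hpos := (isPosRoot_iff r).mpr hr
  have hφ : 0 < φ r := (gradeOK'_root hg r hpos.1).2.2.mp hpos
  have e : xGL chevF4 K r c = y⁻¹ := eq_inv_of_mul_eq_one_left h
  have hmem : xGL chevF4 K r c ∈ utSub (lvOf chevF4 φ) K (φ r).toNat := by
    rw [e]; exact inv_mem hy
  rw [mem_utSub, xGL_val chevF4 _ (triOK_of_mem chevF4 Cfsg.Agent.Helper4.F4Inv.hF4),
    Int.toNat_of_nonneg hφ.le] at hmem
  exact eq_zero_of_raises' hg r hpos c hmem

omit [Fintype K] in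
/-- the first class component of a trivial normal form is trivial -/
theorem stripA (th : K →+* K) (a b b1 c d d1 e f f1 g h h1 : K)
    (h0 : RelF4.NF R0 th a b b1 c d d1 e f f1 g h h1 = 1) : a = 0 := by
  unfold RelF4.NF RelF4.PA RelF4.SB RelF4.PC RelF4.SD RelF4.PE RelF4.SF RelF4.PG RelF4.SH at h0
  simp only [mul_assoc] at h0
  have h1' : th a = 0 := by
    refine strip_front gradeOK_P 33 (by norm_num) (th a) _ ?_ h0
    have e : (phiP 33).toNat = 1 := by decide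
    rw [e]
    repeat (first | exact xmem gradeOK_P 1 _ (by norm_num) (by decide) _ | apply Subgroup.mul_mem)
  exact (map_eq_zero th).mp h1'

omit [Fintype K] in
/-- the last class component of a trivial normal form is trivial -/
theorem stripH (th : K →+* K) (a b b1 c d d1 e f f1 g h h1 : K)
    (h0 : RelF4.NF R0 th a b b1 c d d1 e f f1 g h h1 = 1) : h = 0 ∧ h1 = 0 := by
  have e1 : RelF4.NF R0 th a b b1 c d d1 e f f1 g h h1 =
      RelF4.NF1 R0 th a b b1 c d d1 e f f1 g * RelF4.SH R0 th h h1 := by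
    unfold RelF4.NF RelF4.NF1; simp only [mul_assoc]
  rw [e1] at h0
  have h2 : RelF4.SH R0 th h h1 * RelF4.NF1 R0 th a b b1 c d d1 e f f1 g = 1 := by
    have e2 : RelF4.SH R0 th h h1 = (RelF4.NF1 R0 th a b b1 c d d1 e f f1 g)⁻¹ :=
      eq_inv_of_mul_eq_one_right h0
    rw [e2, inv_mul_cancel]
  unfold RelF4.NF1 RelF4.PA RelF4.SB RelF4.PC RelF4.SD RelF4.PE RelF4.SF RelF4.PG RelF4.SH at h2
  simp only [mul_assoc] at h2
  have hh' : th h = 0 := by
    refine strip_front gradeOK_S 27 (by norm_num) (th h) _ ?_ h2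
    have e : (phiS 27).toNat = 1 := by decide
    rw [e]
    repeat (first | exact xmem gradeOK_S 1 _ (by norm_num) (by decide) _ | apply Subgroup.mul_mem)
  have hh : h = 0 := (map_eq_zero th).mp hh'
  subst hh
  refine ⟨rfl, ?_⟩
  simp only [map_zero, mul_zero, zero_add, (RelF4.zero27 R0), (RelF4.zero25 R0), one_mul] at h2
  refine strip_front gradeOK_S 28 (by norm_num) h1 _ ?_ h2
  have e : (phiS 28).toNat = 11 := by decide
  rw [e]
  repeat (first | exact xmem gradeOK_S 11 _ (by norm_num) (by decide) _ | apply Subgroup.mul_mem)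

/-! ### the twisted data -/

variable (hK : Fintype.card K = 2 ^ (2 * m + 1))

/-- the Weyl elements of `²F₄(q)` -/
noncomputable def twN : TwN R0 θ where
  hth := phi_phi hK
  n1 := RelF4N.n1 Rc
  n1_34 := RelF4N.n1_34 Rc
  n1_26 := RelF4N.n1_26 Rc
  n1_36 := RelF4N.n1_36 Rc
  n1_42 := RelF4N.n1_42 Rc
  n1_38 := RelF4N.n1_38 Rc
  n1_43 := RelF4N.n1_43 Rc
  n1_29 := RelF4N.n1_29 Rc
  n1_41 := RelF4N.n1_41 Rc
  n1_44 := RelF4N.n1_44 Rc
  n1_47 := RelF4N.n1_47 Rc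
  n1_39 := RelF4N.n1_39 Rc
  n1_45 := RelF4N.n1_45 Rc
  n1_35 := RelF4N.n1_35 Rc
  n1_31 := RelF4N.n1_31 Rc
  n1_40 := RelF4N.n1_40 Rc
  n1_46 := RelF4N.n1_46 Rc
  n1_37 := RelF4N.n1_37 Rc
  n1_32 := RelF4N.n1_32 Rc
  n1_27 := RelF4N.n1_27 Rc
  n1_25 := RelF4N.n1_25 Rc
  n1_28 := RelF4N.n1_28 Rc
  n1_30 := RelF4N.n1_30 Rc
  n8 := RelF4N.n8 Rc
  n8_33 := RelF4N.n8_33 Rc
  n8_24 := RelF4N.n8_24 Rc
  n8_34 := RelF4N.n8_34 Rc
  n8_26 := RelF4N.n8_26 Rc
  n8_36 := RelF4N.n8_36 Rc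
  n8_42 := RelF4N.n8_42 Rc
  n8_38 := RelF4N.n8_38 Rc
  n8_43 := RelF4N.n8_43 Rc
  n8_29 := RelF4N.n8_29 Rc
  n8_41 := RelF4N.n8_41 Rc
  n8_44 := RelF4N.n8_44 Rc
  n8_47 := RelF4N.n8_47 Rc
  n8_39 := RelF4N.n8_39 Rc
  n8_45 := RelF4N.n8_45 Rc
  n8_35 := RelF4N.n8_35 Rc
  n8_31 := RelF4N.n8_31 Rc
  n8_40 := RelF4N.n8_40 Rc
  n8_46 := RelF4N.n8_46 Rc
  n8_37 := RelF4N.n8_37 Rc
  n8_32 := RelF4N.n8_32 Rc

/-- the twisted group `²F₄(q)` with its root elements and Weyl elements -/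
noncomputable def twG : TwG R0 θ where
  toTwN := twN hK
  G1 := Gt
  memA := memA
  memH := memH
  n1_mem := n1_mem
  n8_mem := n8_mem

include hK in
/-- uniqueness of the normal form -/
theorem inj_NF (a b b1 c d d1 e f f1 g h h1 : K)
    (h0 : RelF4.NF R0 θ a b b1 c d d1 e f f1 g h h1 = 1) :
    a = 0 ∧ b = 0 ∧ b1 = 0 ∧ c = 0 ∧ d = 0 ∧ d1 = 0 ∧ e = 0 ∧ f = 0 ∧ f1 = 0 ∧ g = 0 ∧ h = 0 ∧ h1 = 0 :=
  (twN hK).inj_of_strip (stripA θ) (stripH θ) a b b1 c d d1 e f f1 g h h1 h0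

end

end Cfsg.Agent.Helper4.F4Inv
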