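import Cfsg.Agent.Helper4.F4Inv.Conc1
import Cfsg.Agent.Helper18.TwF4.P_Sylow
import Cfsg.Agent.S1090

/-!
# S2184, concrete part 2: the normal forms exhaust `U ∩ ²F₄(q)`; Sylow
-/

set_option autoImplicit false
set_option maxRecDepth 100000
set_option maxHeartbeats 1000000
set_option linter.unusedSimpArgs false
set_option linter.unusedVariables false
set_option linter.unusedSectionVars false

namespace Cfsg.Agent.Helper4.F4Inv

open Cfsg Cfsg.Lie Cfsg.Agent.Helper18 Cfsg.Agent.Helper36.F4Class Cfsg.Agent.Helper36.SigmaF4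

section

variable {K : Type*} [Field K] [CharP K 2] [Fintype K] {m : ℕ}

local notation "Rc" => (f4RelN (K := K))
local notation "R0" => (f4Rel (K := K))
local notation "Gt" => twistedF4 K (2 ^ m)
local notation "θ" => (phi (K := K) m)

omit [CharP K 2] [Fintype K] in
theorem xpos (r : ℕ) (hr : 24 ≤ r ∧ r < 48) (t : K) : xGL chevF4 K r t ∈ chevF4.posUnipotent K :=
  Subgroup.subset_closure ⟨r, t, (isPosRoot_iff r).mpr hr,
    xGL_val chevF4 _ (triOK_of_mem chevF4 Cfsg.Agent.Helper4.F4Inv.hF4) r t⟩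

omit [Fintype K] in
theorem NF_pos (th : K →+* K) (a b b1 c d d1 e f f1 g h h1 : K) :
    RelF4.NF R0 th a b b1 c d d1 e f f1 g h h1 ∈ chevF4.posUnipotent K := by
  unfold RelF4.NF RelF4.PA RelF4.SB RelF4.PC RelF4.SD RelF4.PE RelF4.SF RelF4.PG RelF4.SH
  repeat (first | exact xpos _ (by norm_num) _ | apply Subgroup.mul_mem)

variable (hK : Fintype.card K = 2 ^ (2 * m + 1))

include hK in
theorem NF_memU (a b b1 c d d1 e f f1 g h h1 : K) :
    RelF4.NF R0 θ a b b1 c d d1 e f f1 g h h1 ∈ chevF4.posUnipotent K ⊓ Gt :=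
  ⟨NF_pos θ a b b1 c d d1 e f f1 g h h1, (twG hK).NF_mem a b b1 c d d1 e f f1 g h h1⟩

/-- the normal form map -/
noncomputable def nfMap (p : Fin 12 → K) : ↥(chevF4.posUnipotent K ⊓ Gt) :=
  ⟨RelF4.NF R0 θ (p 0) (p 1) (p 2) (p 3) (p 4) (p 5) (p 6) (p 7) (p 8) (p 9) (p 10) (p 11),
    NF_memU hK _ _ _ _ _ _ _ _ _ _ _ _⟩

theorem nfMap_injective : Function.Injective (nfMap (K := K) (m := m) hK) := by
  intro p q hpq
  have h := congrArg Subtype.val hpq
  simp only [nfMap] at h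
  obtain ⟨h0, h1, h2, h3, h4, h5, h6, h7, h8, h9, h10, h11⟩ :=
    NF_injective R0 θ (phi_phi hK) (inj_NF hK) _ _ _ _ _ _ _ _ _ _ _ _ _ _ _ _ _ _ _ _ _ _ _ _ h
  funext i
  fin_cases i <;> assumption

theorem nfMap_surjective : Function.Surjective (nfMap (K := K) (m := m) hK) := by
  have hcard : Nat.card (Fin 12 → K) = Nat.card ↥(chevF4.posUnipotent K ⊓ Gt) := by
    rw [Cfsg.Agent.S1090.result hK, Nat.card_eq_fintype_card, Fintype.card_fun, Fintype.card_fin, hK]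
  have : Finite ↥(chevF4.posUnipotent K ⊓ Gt) := inferInstance
  exact ((Nat.bijective_iff_injective_and_card _).mpr ⟨nfMap_injective hK, hcard⟩).2

include hK in
/-- every element of `U ∩ ²F₄(q)` is a normal form -/
theorem exists_NF (u : GL chevF4.Idx K) (hu : u ∈ chevF4.posUnipotent K ⊓ Gt) :
    ∃ a b b1 c d d1 e f f1 g h h1 : K, u = RelF4.NF R0 θ a b b1 c d d1 e f f1 g h h1 := by
  obtain ⟨p, hp⟩ := nfMap_surjective hK ⟨u, hu⟩
  exact ⟨p 0, p 1, p 2, p 3, p 4, p 5, p 6, p 7, p 8, p 9, p 10, p 11, (congrArg Subtype.val hp).symm⟩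

include hK in
/-- every involution of `²F₄(q)` is conjugate into `U ∩ ²F₄(q)` -/
theorem conj_into_U (g : ↥Gt) (hg : g * g = 1) :
    ∃ k : ↥Gt, ((k * g * k⁻¹ : ↥Gt) : GL chevF4.Idx K) ∈ chevF4.posUnipotent K ⊓ Gt := by
  haveI : Fact (Nat.Prime 2) := ⟨Nat.prime_two⟩
  obtain ⟨Q, hQ⟩ := Cfsg.Agent.Helper18.TwF4.sylow_F4 hK
  have hy : IsPGroup 2 (Subgroup.zpowers g) := by
    apply IsPGroup.of_card (n := (Nat.card (Subgroup.zpowers g)).factorization 2)
    have h1 : Nat.card (Subgroup.zpowers g) ∣ 2 ^ 1 := by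
      rw [Nat.card_zpowers]
      apply orderOf_dvd_of_pow_eq_one
      rw [pow_one, pow_two]
      exact hg
    obtain ⟨j, _, hj⟩ := (Nat.dvd_prime_pow Nat.prime_two).mp h1
    rw [hj, Nat.prime_two.factorization_pow]
    simp
  obtain ⟨P, hP⟩ := hy.exists_le_sylow
  obtain ⟨k, hk⟩ := MulAction.exists_smul_eq ↥Gt P Q
  refine ⟨k, ?_⟩
  have h1 : g ∈ P := hP (Subgroup.mem_zpowers g)
  have h2 : k * g * k⁻¹ ∈ ((k • P : Sylow 2 ↥Gt) : Subgroup ↥Gt) := by
    rw [Sylow.smul_def, Sylow.pointwise_smul_def]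
    exact Subgroup.smul_mem_pointwise_smul g (MulAut.conj k) P h1
  rw [hk, hQ] at h2
  unfold Cfsg.Agent.Helper18.TwF4.U1 at h2
  rw [Subgroup.mem_subgroupOf] at h2
  exact ⟨h2, (k * g * k⁻¹).2⟩

end

end Cfsg.Agent.Helper4.F4Inv
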