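import Cfsg.Agent.Helper4.F4Inv.Conc2

/-!
# S2184, concrete part 3: `²F₄(q)` has exactly two classes of involutions (modulo the pieces
`PieceSUR`, `PieceTOR`, `PieceNC`)
-/

set_option autoImplicit false
set_option maxRecDepth 100000
set_option maxHeartbeats 1000000
set_option linter.unusedSimpArgs false
set_option linter.unusedVariables false
set_option linter.unusedSectionVars false

namespace Cfsg.Agent.Helper4.F4Inv

open Cfsg Cfsg.Lie Cfsg.Agent.Helper18 Cfsg.Agent.Helper36.F4Class Cfsg.Agent.Helper36.SigmaF4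

section

variable {K : Type*} [Field K] [CharP K 2] [Fintype K] {m : ℕ}

local notation "Rc" => (f4RelN (K := K))
local notation "R0" => (f4Rel (K := K))
local notation "Gt" => twistedF4 K (2 ^ m)
local notation "θ" => (phi (K := K) m)

variable (hK : Fintype.card K = 2 ^ (2 * m + 1))

/-- the twisted data from the pieces -/
noncomputable def tw (hsur : PieceSUR K m) (htor : PieceTOR K m) : Tw R0 θ where
  toTwG := twG hK
  inj := inj_NF hK
  sur1 := (hsur hK).1
  sur2 := (hsur hK).2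
  torD := (htor hK).1
  torE := (htor hK).2

/-- the central involution `z = x₄₄(1) x₄₇(1)` as an element of `²F₄(q)` -/
noncomputable def zG : ↥Gt := ⟨RelF4.SD R0 θ 0 1, (twG hK).memD 0 1⟩

/-- the involution `v = x₃₉(1) x₄₅(1)` as an element of `²F₄(q)` -/
noncomputable def vG : ↥Gt := ⟨RelF4.PE R0 θ 1, (twG hK).memE 1⟩

omit [Fintype K] in
theorem z_eq : RelF4.SD R0 θ 0 1 = xGL chevF4 K 44 1 * xGL chevF4 K 47 1 := by
  unfold RelF4.SD
  simp only [map_zero, map_one, mul_zero, zero_add, one_pow, (RelF4.zero29 R0), (RelF4.zero41 R0), one_mul]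
  rfl

omit [Fintype K] in
theorem v_eq : RelF4.PE R0 θ 1 = xGL chevF4 K 39 1 * xGL chevF4 K 45 1 := by
  unfold RelF4.PE
  simp only [map_one]
  rfl

omit [Fintype K] in
theorem z_sq : RelF4.SD R0 θ 0 1 * RelF4.SD R0 θ 0 1 = 1 := by
  have e : RelF4.SD R0 θ 0 1 = RelF4.X44 R0 1 * RelF4.X47 R0 1 := by
    unfold RelF4.SD
    simp only [map_zero, map_one, mul_zero, zero_add, one_pow, (RelF4.zero29 R0), (RelF4.zero41 R0), one_mul]
  rw [e]
  have c := RelF4.c44_47 R0 (1 : K) 1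
  have e2 : RelF4.X44 R0 1 * RelF4.X47 R0 1 * (RelF4.X44 R0 1 * RelF4.X47 R0 1) =
      RelF4.X44 R0 1 * (RelF4.X47 R0 1 * RelF4.X44 R0 1) * RelF4.X47 R0 (1 : K) := by group
  have e3 : RelF4.X44 R0 1 * (RelF4.X44 R0 1 * RelF4.X47 R0 1) * RelF4.X47 R0 (1 : K) =
      (RelF4.X44 R0 1 * RelF4.X44 R0 1) * (RelF4.X47 R0 1 * RelF4.X47 R0 (1 : K)) := by group
  rw [e2, c, e3, ← RelF4.add44, ← RelF4.add47, CharTwo.add_self_eq_zero, RelF4.zero44, RelF4.zero47, one_mul]

omit [Fintype K] in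
theorem v_sq : RelF4.PE R0 θ 1 * RelF4.PE R0 θ 1 = 1 := by
  unfold RelF4.PE
  have c := RelF4.c39_45 R0 (θ 1) (1 : K)
  have e2 : RelF4.X39 R0 (θ 1) * RelF4.X45 R0 1 * (RelF4.X39 R0 (θ 1) * RelF4.X45 R0 1) =
      RelF4.X39 R0 (θ 1) * (RelF4.X45 R0 1 * RelF4.X39 R0 (θ 1)) * RelF4.X45 R0 (1 : K) := by group
  have e3 : RelF4.X39 R0 (θ 1) * (RelF4.X39 R0 (θ 1) * RelF4.X45 R0 1) * RelF4.X45 R0 (1 : K) =
      (RelF4.X39 R0 (θ 1) * RelF4.X39 R0 (θ 1)) * (RelF4.X45 R0 1 * RelF4.X45 R0 (1 : K)) := by group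
  rw [e2, c, e3, ← RelF4.add39, ← RelF4.add45, CharTwo.add_self_eq_zero, CharTwo.add_self_eq_zero,
    RelF4.zero39, RelF4.zero45, one_mul]

variable (hsur : PieceSUR K m) (htor : PieceTOR K m)

include hK hsur htor in
theorem z_ne : RelF4.SD R0 θ 0 1 ≠ 1 := by
  intro h
  rw [← (tw hK hsur htor).NF_D] at h
  have := (inj_NF hK _ _ _ _ _ _ _ _ _ _ _ _ h).2.2.2.2.2.1
  exact one_ne_zero this

include hK hsur htor in
theorem v_ne : RelF4.PE R0 θ 1 ≠ 1 := by
  intro h
  rw [← (tw hK hsur htor).NF_E] at h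
  have := (inj_NF hK _ _ _ _ _ _ _ _ _ _ _ _ h).2.2.2.2.2.2.1
  exact one_ne_zero this

include hsur htor in
theorem orderOf_zG : orderOf (zG hK) = 2 := by
  apply orderOf_eq_prime
  · apply Subtype.ext
    rw [pow_two]
    exact z_sq
  · intro h
    exact z_ne hK hsur htor (congrArg Subtype.val h)

include hsur htor in
theorem orderOf_vG : orderOf (vG hK) = 2 := by
  apply orderOf_eq_prime
  · apply Subtype.ext
    rw [pow_two]
    exact v_sq
  · intro h
    exact v_ne hK hsur htor (congrArg Subtype.val h)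

/-- conjugacy in the subgroup gives conjugacy in the subtype -/
theorem isConj_of_conjIn {Γ : Type*} [Group Γ] {H : Subgroup Γ} (x y : ↥H)
    (h : ConjIn H (x : Γ) (y : Γ)) : IsConj x y := by
  obtain ⟨w, hw, e⟩ := h
  rw [isConj_iff]
  exact ⟨⟨w, hw⟩, Subtype.ext e⟩

include hsur htor in
/-- every involution of `²F₄(q)` is conjugate to `z` or to `v` -/
theorem invol_class (g : ↥Gt) (hg : orderOf g = 2) :
    ConjClasses.mk g = ConjClasses.mk (zG hK) ∨ ConjClasses.mk g = ConjClasses.mk (vG hK) := by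
  have h2 : g * g = 1 := by
    have h := pow_orderOf_eq_one g
    rw [hg, pow_two] at h
    exact h
  have h1 : g ≠ 1 := by
    intro e
    rw [e, orderOf_one] at hg
    norm_num at hg
  obtain ⟨k, hk⟩ := conj_into_U hK g h2
  obtain ⟨a, b, b1, c, d, d1, e, f, f1, g', h, h1', hu⟩ := exists_NF hK _ hk
  have hu2 : ((k * g * k⁻¹ : ↥Gt) : GL chevF4.Idx K) * ((k * g * k⁻¹ : ↥Gt) : GL chevF4.Idx K) = 1 := by
    rw [← Subgroup.coe_mul]
    have : (k * g * k⁻¹) * (k * g * k⁻¹) = k * (g * g) * k⁻¹ := by group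
    rw [this, h2]
    simp
  have hu1 : ((k * g * k⁻¹ : ↥Gt) : GL chevF4.Idx K) ≠ 1 := by
    intro e'
    apply h1
    have e'' : k * g * k⁻¹ = 1 := Subtype.ext e'
    have : g = k⁻¹ * (k * g * k⁻¹) * k := by group
    rw [this, e'']
    group
  have hkg : IsConj g (k * g * k⁻¹) := isConj_iff.mpr ⟨k, rfl⟩
  rw [hu] at hu2 hu1
  rcases (tw hK hsur htor).main a b b1 c d d1 e f f1 g' h h1' hu2 hu1 with hz | hv
  · left
    rw [ConjClasses.mk_eq_mk_iff_isConj]
    refine hkg.trans (isConj_of_conjIn _ _ ?_)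
    rw [hu]
    exact hz
  · right
    rw [ConjClasses.mk_eq_mk_iff_isConj]
    refine hkg.trans (isConj_of_conjIn _ _ ?_)
    rw [hu]
    exact hv

include hK hsur htor in
/-- **`²F₄(q)` has exactly two classes of involutions** (modulo the pieces) -/
theorem two_classes (hnc : PieceNC K) :
    (ConjClasses.mk '' {g : ↥Gt | orderOf g = 2}).ncard = 2 := by
  have hne : ConjClasses.mk (zG hK) ≠ ConjClasses.mk (vG hK) := by
    intro h
    rw [ConjClasses.mk_eq_mk_iff_isConj, isConj_iff] at h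
    obtain ⟨c, hc⟩ := h
    apply hnc
    refine ⟨(c : GL chevF4.Idx K), ?_⟩
    have := congrArg Subtype.val hc
    rw [← z_eq (m := m), ← v_eq (m := m)]
    simpa [zG, vG] using this
  have hset : ConjClasses.mk '' {g : ↥Gt | orderOf g = 2} =
      {ConjClasses.mk (zG hK), ConjClasses.mk (vG hK)} := by
    ext C
    constructor
    · rintro ⟨g, hg, rfl⟩
      rcases invol_class hK hsur htor g hg with h | h
      · exact Or.inl h
      · exact Or.inr h
    · rintro (rfl | rfl)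
      · exact ⟨zG hK, orderOf_zG hK hsur htor, rfl⟩
      · exact ⟨vG hK, orderOf_vG hK hsur htor, rfl⟩
  rw [hset]
  exact Set.ncard_pair hne

end

end Cfsg.Agent.Helper4.F4Inv
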