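import Cfsg.Agent.Helper4.F4Inv.Abs
import Cfsg.Agent.Helper18.Core
import Cfsg.Agent.Helper18.Graded
import Cfsg.Agent.S1025

/-!
The positive root elements of `F₄(K)`, `char K = 2`, satisfy the abstract relations of
`Cfsg.Agent.Helper4.F4Inv.RelF4`.  (Generated.)
-/

set_option autoImplicit false

namespace Cfsg.Agent.Helper4.F4Inv

open Cfsg Cfsg.Lie Cfsg.Agent.Helper18

variable {K : Type*} [Field K]

theorem hF4 : chevF4 ∈ [chevG2, chevB2, chevD4, chevF4, chevE6, chevE7, chevE8] := by simp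

/-- the commutator formula in `GL` -/
theorem comm_GL (r s : ℕ) (hr : r < 48) (hs : s < 48) (h1 : s ≠ r) (h2 : s ≠ chevF4.neg r) (t u : K) :
    xGL chevF4 K s u * xGL chevF4 K r t =
      xGL chevF4 K r t * xGL chevF4 K s u * wordGL chevF4 K (chevF4.commWord K r s t u) := by
  have htri := triOK_of_mem chevF4 hF4
  apply Units.ext
  simp only [Units.val_mul, xGL_val chevF4 _ htri, wordGL_val chevF4 _ htri]
  exact Cfsg.Agent.S1025.result chevF4 hF4 r s hr hs h1 h2 t u

/-- pairs with no commutator term -/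
def pairs0 : List (ℕ × ℕ) :=
  [(33, 24), (33, 34), (33, 26), (33, 36), (33, 42), (33, 43), (33, 41), (33, 44), (33, 47), (33, 45), (33, 35), (33, 46), (33, 25), (24, 34), (24, 26), (24, 36), (24, 42), (24, 38), (24, 43), (24, 29), (24, 44), (24, 47), (24, 39), (24, 45), (24, 31), (24, 40), (24, 32), (24, 27), (34, 42), (34, 38), (34, 43), (34, 41), (34, 44), (34, 47), (34, 45), (34, 31), (34, 46), (34, 37), (34, 27), (34, 30), (26, 36), (26, 42), (26, 38), (26, 43), (26, 29), (26, 44), (26, 47), (26, 39), (26, 35), (26, 31), (26, 40), (26, 46), (26, 32), (26, 25), (26, 28), (36, 42), (36, 38), (36, 43), (36, 29), (36, 41), (36, 44), (36, 47), (36, 39), (36, 45), (36, 31), (36, 46), (36, 32), (36, 25), (42, 38), (42, 43), (42, 29), (42, 41), (42, 44), (42, 47), (42, 39), (42, 45), (42, 35), (42, 31), (42, 40), (42, 46), (42, 37), (42, 27), (38, 43), (38, 29), (38, 41), (38, 44), (38, 47), (38, 45), (38, 31), (38, 40), (38, 46), (38, 32), (38, 27),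 (38, 30), (43, 29), (43, 41), (43, 44), (43, 47), (43, 39), (43, 45), (43, 35), (43, 40), (43, 46), (43, 37), (43, 32), (43, 25), (43, 28), (29, 47), (29, 39), (29, 45), (29, 31), (29, 40), (29, 46), (29, 32), (29, 25), (29, 30), (41, 44), (41, 47), (41, 39), (41, 45), (41, 35), (41, 40), (41, 46), (41, 37), (41, 27), (41, 25), (41, 28), (41, 30), (44, 47), (44, 39), (44, 45), (44, 35), (44, 31), (44, 40), (44, 46), (44, 37), (44, 32), (44, 25), (44, 30), (47, 39), (47, 45), (47, 35), (47, 31), (47, 40), (47, 46), (47, 37), (47, 32), (47, 27), (47, 25), (47, 28), (47, 30), (39, 45), (39, 35), (39, 31), (39, 40), (39, 46), (39, 32), (39, 25), (39, 28), (39, 30), (45, 35), (45, 31), (45, 40), (45, 46), (45, 37), (45, 32), (45, 27), (45, 28), (45, 30), (35, 46), (35, 37), (35, 32), (35, 25), (35, 28), (35, 30), (31, 40), (31, 46), (31, 37), (31, 32), (31, 27), (31, 28), (31, 30), (40, 46), (40, 37), (40, 32), (40, 27), (40, 25), (40, 28), (40, 30),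 (46, 37), (46, 32), (46, 27), (46, 25), (46, 28), (46, 30), (37, 32), (37, 27), (37, 25), (37, 28), (37, 30), (32, 27), (32, 25), (32, 28), (32, 30), (27, 30), (25, 28), (25, 30), (28, 30)]

/-- pairs `(r, s, r + s, N)` with one term and odd constant -/
def pairs1 : List (ℕ × ℕ × ℕ × ℤ) :=
  [(33, 29, 36, -1), (33, 40, 44, 1), (33, 27, 34, -1), (33, 28, 35, -1), (24, 41, 42, 1), (24, 46, 47, 1), (24, 25, 26, 1), (24, 30, 31, 1), (34, 29, 38, 1), (34, 39, 44, 1), (34, 28, 37, 1), (26, 41, 43, -1), (26, 45, 47, 1), (26, 30, 32, -1), (36, 37, 44, 1), (36, 27, 38, -1), (36, 28, 39, -1), (42, 32, 47, -1), (42, 25, 43, -1), (42, 30, 45, 1), (38, 35, 44, 1), (38, 28, 40, 1), (43, 31, 47, 1), (43, 30, 46, 1), (29, 35, 39, -1), (29, 37, 40, 1), (41, 31, 45, -1), (41, 32, 46, -1), (39, 27, 40, -1), (45, 25, 46, -1), (35, 27, 37, -1), (31, 25, 32, -1)]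

/-- pairs `(r, s, r + s, N)` with one term and even constant -/
def pairs2 : List (ℕ × ℕ × ℕ × ℤ) :=
  [(33, 38, 42, 2), (33, 39, 43, 2), (33, 37, 41, 2), (34, 36, 42, -2), (34, 35, 41, -2), (34, 40, 45, 2), (36, 35, 43, 2), (36, 40, 47, 2), (38, 39, 47, -2), (38, 37, 45, 2), (29, 44, 47, 2), (29, 27, 31, -2), (29, 28, 32, -2), (44, 27, 45, -2), (44, 28, 46, -2), (39, 37, 46, 2), (35, 40, 46, 2), (27, 28, 30, 2)]

/-- pairs `(r, s, k₁, N₁, k₂, N₂, i, j)` with two terms, both constants odd -/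
def pairs3 : List (ℕ × ℕ × ℕ × ℤ × ℕ × ℤ × ℕ × ℕ) :=
  [(33, 31, 38, -1, 42, -1, 2, 1), (33, 32, 39, -1, 43, -1, 2, 1), (33, 30, 37, -1, 41, -1, 2, 1), (24, 35, 36, 1, 43, 1, 1, 2), (24, 37, 38, 1, 45, 1, 1, 2), (24, 28, 29, 1, 32, -1, 1, 2), (34, 26, 36, -1, 42, 1, 2, 1), (34, 32, 40, -1, 45, -1, 2, 1), (34, 25, 35, -1, 41, 1, 2, 1), (26, 37, 39, -1, 46, -1, 1, 2), (26, 27, 29, 1, 31, -1, 1, 2), (36, 30, 40, -1, 47, -1, 2, 1), (42, 28, 44, 1, 46, -1, 1, 2), (38, 25, 39, -1, 47, 1, 2, 1), (43, 27, 44, -1, 45, 1, 1, 2), (29, 41, 44, 1, 47, 1, 2, 1), (35, 31, 40, 1, 46, 1, 2, 1), (27, 25, 28, -1, 30, -1, 2, 1)]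

theorem ct0 : ∀ p ∈ pairs0, chevF4.commTerms p.1 p.2 = [] ∧ p.1 < 48 ∧ p.2 < 48 ∧ p.2 ≠ p.1 ∧
    p.2 ≠ chevF4.neg p.1 := by decide +kernel

theorem ct1 : ∀ p ∈ pairs1, chevF4.commTerms p.1 p.2.1 = [(p.2.2.1, p.2.2.2, 1, 1)] ∧ p.1 < 48 ∧ p.2.1 < 48 ∧
    p.2.1 ≠ p.1 ∧ p.2.1 ≠ chevF4.neg p.1 ∧ (p.2.2.2 = 1 ∨ p.2.2.2 = -1) := by decide +kernel

theorem ct2 : ∀ p ∈ pairs2, chevF4.commTerms p.1 p.2.1 = [(p.2.2.1, p.2.2.2, 1, 1)] ∧ p.1 < 48 ∧ p.2.1 < 48 ∧
    p.2.1 ≠ p.1 ∧ p.2.1 ≠ chevF4.neg p.1 ∧ (p.2.2.2 = 2 ∨ p.2.2.2 = -2) := by decide +kernel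

theorem ct3 : ∀ p ∈ pairs3, chevF4.commTerms p.1 p.2.1 =
      [(p.2.2.1, p.2.2.2.1, 1, 1), (p.2.2.2.2.1, p.2.2.2.2.2.1, p.2.2.2.2.2.2.1, p.2.2.2.2.2.2.2)] ∧
    p.1 < 48 ∧ p.2.1 < 48 ∧ p.2.1 ≠ p.1 ∧ p.2.1 ≠ chevF4.neg p.1 ∧ (p.2.2.2.1 = 1 ∨ p.2.2.2.1 = -1) ∧
    (p.2.2.2.2.2.1 = 1 ∨ p.2.2.2.2.2.1 = -1) := by decide +kernel

theorem xg_add (r : ℕ) (s t : K) : xGL chevF4 K r (s + t) = xGL chevF4 K r s * xGL chevF4 K r t :=
  (xGL_mul_add chevF4 hF4 r s t).symm

theorem xg_zero (r : ℕ) : xGL chevF4 K r 0 = 1 := by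
  have := xg_add (K := K) r 0 0
  rw [add_zero] at this
  exact (mul_eq_left.mp this.symm)

section char2

variable [CharP K 2]

theorem rel0 (r s : ℕ) (h : (r, s) ∈ pairs0) (t u : K) :
    xGL chevF4 K s u * xGL chevF4 K r t = xGL chevF4 K r t * xGL chevF4 K s u := by
  obtain ⟨hct, hr, hs, h1, h2⟩ := ct0 _ h
  rw [comm_GL r s hr hs h1 h2 t u]
  unfold ChevalleyDatum.commWord
  simp only at hct
  rw [hct]
  simp [wordGL]

theorem cast_odd (ε : ℤ) (h : ε = 1 ∨ ε = -1) : ((ε : ℤ) : K) = 1 := by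
  rcases h with h | h
  · rw [h]; simp
  · rw [h]; simp [CharTwo.neg_eq]

theorem cast_even (ε : ℤ) (h : ε = 2 ∨ ε = -2) : ((ε : ℤ) : K) = 0 := by
  have h2 : (2 : K) = 0 := CharTwo.two_eq_zero
  rcases h with h | h
  · rw [h]; simpa using h2
  · rw [h]; simp [h2]

theorem rel1 (r s m : ℕ) (ε : ℤ) (h : (r, s, m, ε) ∈ pairs1) (t u : K) :
    xGL chevF4 K s u * xGL chevF4 K r t = xGL chevF4 K r t * xGL chevF4 K s u * xGL chevF4 K m (t * u) := by
  obtain ⟨hct, hr, hs, h1, h2, hε⟩ := ct1 _ h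
  rw [comm_GL r s hr hs h1 h2 t u]
  unfold ChevalleyDatum.commWord
  simp only at hct hε
  rw [hct]
  have e : ((ε : ℤ) : K) * (-t) ^ 1 * u ^ 1 = t * u := by
    rw [cast_odd ε hε]; simp [CharTwo.neg_eq]
  simp only [wordGL, List.map_cons, List.map_nil, List.prod_cons, List.prod_nil, mul_one, e]

theorem rel2 (r s m : ℕ) (ε : ℤ) (h : (r, s, m, ε) ∈ pairs2) (t u : K) :
    xGL chevF4 K s u * xGL chevF4 K r t = xGL chevF4 K r t * xGL chevF4 K s u := by
  obtain ⟨hct, hr, hs, h1, h2, hε⟩ := ct2 _ h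
  rw [comm_GL r s hr hs h1 h2 t u]
  unfold ChevalleyDatum.commWord
  simp only at hct hε
  rw [hct]
  have e : ((ε : ℤ) : K) * (-t) ^ 1 * u ^ 1 = 0 := by
    rw [cast_even ε hε]; simp
  simp only [wordGL, List.map_cons, List.map_nil, List.prod_cons, List.prod_nil, mul_one, e, xg_zero]

theorem rel3 (r s k₁ : ℕ) (ε₁ : ℤ) (k₂ : ℕ) (ε₂ : ℤ) (i j : ℕ)
    (h : (r, s, k₁, ε₁, k₂, ε₂, i, j) ∈ pairs3) (t u : K) :
    xGL chevF4 K s u * xGL chevF4 K r t =
      xGL chevF4 K r t * xGL chevF4 K s u * xGL chevF4 K k₁ (t * u) * xGL chevF4 K k₂ (t ^ i * u ^ j) := by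
  obtain ⟨hct, hr, hs, h1, h2, hε₁, hε₂⟩ := ct3 _ h
  rw [comm_GL r s hr hs h1 h2 t u]
  unfold ChevalleyDatum.commWord
  simp only at hct hε₁ hε₂
  rw [hct]
  have e1 : ((ε₁ : ℤ) : K) * (-t) ^ 1 * u ^ 1 = t * u := by
    rw [cast_odd ε₁ hε₁]; simp [CharTwo.neg_eq]
  have e2 : ((ε₂ : ℤ) : K) * (-t) ^ i * u ^ j = t ^ i * u ^ j := by
    rw [cast_odd ε₂ hε₂]; simp [CharTwo.neg_eq]
  simp only [wordGL, List.map_cons, List.map_nil, List.prod_cons, List.prod_nil, mul_one, e1, e2]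
  simp only [mul_assoc]

/-- the abstract relations hold in `F₄(K)` -/
noncomputable def f4Rel : RelF4 K (GL chevF4.Idx K) where
  X33 := xGL chevF4 K 33
  X24 := xGL chevF4 K 24
  X34 := xGL chevF4 K 34
  X26 := xGL chevF4 K 26
  X36 := xGL chevF4 K 36
  X42 := xGL chevF4 K 42
  X38 := xGL chevF4 K 38
  X43 := xGL chevF4 K 43
  X29 := xGL chevF4 K 29
  X41 := xGL chevF4 K 41
  X44 := xGL chevF4 K 44
  X47 := xGL chevF4 K 47
  X39 := xGL chevF4 K 39
  X45 := xGL chevF4 K 45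
  X35 := xGL chevF4 K 35
  X31 := xGL chevF4 K 31
  X40 := xGL chevF4 K 40
  X46 := xGL chevF4 K 46
  X37 := xGL chevF4 K 37
  X32 := xGL chevF4 K 32
  X27 := xGL chevF4 K 27
  X25 := xGL chevF4 K 25
  X28 := xGL chevF4 K 28
  X30 := xGL chevF4 K 30
  add33 := xg_add 33
  add24 := xg_add 24
  add34 := xg_add 34
  add26 := xg_add 26
  add36 := xg_add 36
  add42 := xg_add 42
  add38 := xg_add 38
  add43 := xg_add 43
  add29 := xg_add 29
  add41 := xg_add 41
  add44 := xg_add 44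
  add47 := xg_add 47
  add39 := xg_add 39
  add45 := xg_add 45
  add35 := xg_add 35
  add31 := xg_add 31
  add40 := xg_add 40
  add46 := xg_add 46
  add37 := xg_add 37
  add32 := xg_add 32
  add27 := xg_add 27
  add25 := xg_add 25
  add28 := xg_add 28
  add30 := xg_add 30
  c33_24 := rel0 33 24 (by decide)
  c33_34 := rel0 33 34 (by decide)
  c33_26 := rel0 33 26 (by decide)
  c33_36 := rel0 33 36 (by decide)
  c33_42 := rel0 33 42 (by decide)
  c33_38 := rel2 33 38 42 (2) (by decide)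
  c33_43 := rel0 33 43 (by decide)
  r33_29 := rel1 33 29 36 (-1) (by decide)
  c33_41 := rel0 33 41 (by decide)
  c33_44 := rel0 33 44 (by decide)
  c33_47 := rel0 33 47 (by decide)
  c33_39 := rel2 33 39 43 (2) (by decide)
  c33_45 := rel0 33 45 (by decide)
  c33_35 := rel0 33 35 (by decide)
  r33_31 := fun t u => by
    have := rel3 33 31 38 (-1) 42 (-1) 2 1 (by decide) t u
    simpa only [pow_one, mul_assoc] using this
  r33_40 := rel1 33 40 44 (1) (by decide)
  c33_46 := rel0 33 46 (by decide)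
  c33_37 := rel2 33 37 41 (2) (by decide)
  r33_32 := fun t u => by
    have := rel3 33 32 39 (-1) 43 (-1) 2 1 (by decide) t u
    simpa only [pow_one, mul_assoc] using this
  r33_27 := rel1 33 27 34 (-1) (by decide)
  c33_25 := rel0 33 25 (by decide)
  r33_28 := rel1 33 28 35 (-1) (by decide)
  r33_30 := fun t u => by
    have := rel3 33 30 37 (-1) 41 (-1) 2 1 (by decide) t u
    simpa only [pow_one, mul_assoc] using this
  c24_34 := rel0 24 34 (by decide)
  c24_26 := rel0 24 26 (by decide)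
  c24_36 := rel0 24 36 (by decide)
  c24_42 := rel0 24 42 (by decide)
  c24_38 := rel0 24 38 (by decide)
  c24_43 := rel0 24 43 (by decide)
  c24_29 := rel0 24 29 (by decide)
  r24_41 := rel1 24 41 42 (1) (by decide)
  c24_44 := rel0 24 44 (by decide)
  c24_47 := rel0 24 47 (by decide)
  c24_39 := rel0 24 39 (by decide)
  c24_45 := rel0 24 45 (by decide)
  r24_35 := fun t u => by
    have := rel3 24 35 36 (1) 43 (1) 1 2 (by decide) t u
    simpa only [pow_one, mul_assoc] using this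
  c24_31 := rel0 24 31 (by decide)
  c24_40 := rel0 24 40 (by decide)
  r24_46 := rel1 24 46 47 (1) (by decide)
  r24_37 := fun t u => by
    have := rel3 24 37 38 (1) 45 (1) 1 2 (by decide) t u
    simpa only [pow_one, mul_assoc] using this
  c24_32 := rel0 24 32 (by decide)
  c24_27 := rel0 24 27 (by decide)
  r24_25 := rel1 24 25 26 (1) (by decide)
  r24_28 := fun t u => by
    have := rel3 24 28 29 (1) 32 (-1) 1 2 (by decide) t u
    simpa only [pow_one, mul_assoc] using this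
  r24_30 := rel1 24 30 31 (1) (by decide)
  r34_26 := fun t u => by
    have := rel3 34 26 36 (-1) 42 (1) 2 1 (by decide) t u
    simpa only [pow_one, mul_assoc] using this
  c34_36 := rel2 34 36 42 (-2) (by decide)
  c34_42 := rel0 34 42 (by decide)
  c34_38 := rel0 34 38 (by decide)
  c34_43 := rel0 34 43 (by decide)
  r34_29 := rel1 34 29 38 (1) (by decide)
  c34_41 := rel0 34 41 (by decide)
  c34_44 := rel0 34 44 (by decide)
  c34_47 := rel0 34 47 (by decide)
  r34_39 := rel1 34 39 44 (1) (by decide)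
  c34_45 := rel0 34 45 (by decide)
  c34_35 := rel2 34 35 41 (-2) (by decide)
  c34_31 := rel0 34 31 (by decide)
  c34_40 := rel2 34 40 45 (2) (by decide)
  c34_46 := rel0 34 46 (by decide)
  c34_37 := rel0 34 37 (by decide)
  r34_32 := fun t u => by
    have := rel3 34 32 40 (-1) 45 (-1) 2 1 (by decide) t u
    simpa only [pow_one, mul_assoc] using this
  c34_27 := rel0 34 27 (by decide)
  r34_25 := fun t u => by
    have := rel3 34 25 35 (-1) 41 (1) 2 1 (by decide) t u
    simpa only [pow_one, mul_assoc] using this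
  r34_28 := rel1 34 28 37 (1) (by decide)
  c34_30 := rel0 34 30 (by decide)
  c26_36 := rel0 26 36 (by decide)
  c26_42 := rel0 26 42 (by decide)
  c26_38 := rel0 26 38 (by decide)
  c26_43 := rel0 26 43 (by decide)
  c26_29 := rel0 26 29 (by decide)
  r26_41 := rel1 26 41 43 (-1) (by decide)
  c26_44 := rel0 26 44 (by decide)
  c26_47 := rel0 26 47 (by decide)
  c26_39 := rel0 26 39 (by decide)
  r26_45 := rel1 26 45 47 (1) (by decide)
  c26_35 := rel0 26 35 (by decide)
  c26_31 := rel0 26 31 (by decide)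
  c26_40 := rel0 26 40 (by decide)
  c26_46 := rel0 26 46 (by decide)
  r26_37 := fun t u => by
    have := rel3 26 37 39 (-1) 46 (-1) 1 2 (by decide) t u
    simpa only [pow_one, mul_assoc] using this
  c26_32 := rel0 26 32 (by decide)
  r26_27 := fun t u => by
    have := rel3 26 27 29 (1) 31 (-1) 1 2 (by decide) t u
    simpa only [pow_one, mul_assoc] using this
  c26_25 := rel0 26 25 (by decide)
  c26_28 := rel0 26 28 (by decide)
  r26_30 := rel1 26 30 32 (-1) (by decide)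
  c36_42 := rel0 36 42 (by decide)
  c36_38 := rel0 36 38 (by decide)
  c36_43 := rel0 36 43 (by decide)
  c36_29 := rel0 36 29 (by decide)
  c36_41 := rel0 36 41 (by decide)
  c36_44 := rel0 36 44 (by decide)
  c36_47 := rel0 36 47 (by decide)
  c36_39 := rel0 36 39 (by decide)
  c36_45 := rel0 36 45 (by decide)
  c36_35 := rel2 36 35 43 (2) (by decide)
  c36_31 := rel0 36 31 (by decide)
  c36_40 := rel2 36 40 47 (2) (by decide)
  c36_46 := rel0 36 46 (by decide)
  r36_37 := rel1 36 37 44 (1) (by decide)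
  c36_32 := rel0 36 32 (by decide)
  r36_27 := rel1 36 27 38 (-1) (by decide)
  c36_25 := rel0 36 25 (by decide)
  r36_28 := rel1 36 28 39 (-1) (by decide)
  r36_30 := fun t u => by
    have := rel3 36 30 40 (-1) 47 (-1) 2 1 (by decide) t u
    simpa only [pow_one, mul_assoc] using this
  c42_38 := rel0 42 38 (by decide)
  c42_43 := rel0 42 43 (by decide)
  c42_29 := rel0 42 29 (by decide)
  c42_41 := rel0 42 41 (by decide)
  c42_44 := rel0 42 44 (by decide)
  c42_47 := rel0 42 47 (by decide)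
  c42_39 := rel0 42 39 (by decide)
  c42_45 := rel0 42 45 (by decide)
  c42_35 := rel0 42 35 (by decide)
  c42_31 := rel0 42 31 (by decide)
  c42_40 := rel0 42 40 (by decide)
  c42_46 := rel0 42 46 (by decide)
  c42_37 := rel0 42 37 (by decide)
  r42_32 := rel1 42 32 47 (-1) (by decide)
  c42_27 := rel0 42 27 (by decide)
  r42_25 := rel1 42 25 43 (-1) (by decide)
  r42_28 := fun t u => by
    have := rel3 42 28 44 (1) 46 (-1) 1 2 (by decide) t u
    simpa only [pow_one, mul_assoc] using this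
  r42_30 := rel1 42 30 45 (1) (by decide)
  c38_43 := rel0 38 43 (by decide)
  c38_29 := rel0 38 29 (by decide)
  c38_41 := rel0 38 41 (by decide)
  c38_44 := rel0 38 44 (by decide)
  c38_47 := rel0 38 47 (by decide)
  c38_39 := rel2 38 39 47 (-2) (by decide)
  c38_45 := rel0 38 45 (by decide)
  r38_35 := rel1 38 35 44 (1) (by decide)
  c38_31 := rel0 38 31 (by decide)
  c38_40 := rel0 38 40 (by decide)
  c38_46 := rel0 38 46 (by decide)
  c38_37 := rel2 38 37 45 (2) (by decide)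
  c38_32 := rel0 38 32 (by decide)
  c38_27 := rel0 38 27 (by decide)
  r38_25 := fun t u => by
    have := rel3 38 25 39 (-1) 47 (1) 2 1 (by decide) t u
    simpa only [pow_one, mul_assoc] using this
  r38_28 := rel1 38 28 40 (1) (by decide)
  c38_30 := rel0 38 30 (by decide)
  c43_29 := rel0 43 29 (by decide)
  c43_41 := rel0 43 41 (by decide)
  c43_44 := rel0 43 44 (by decide)
  c43_47 := rel0 43 47 (by decide)
  c43_39 := rel0 43 39 (by decide)
  c43_45 := rel0 43 45 (by decide)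
  c43_35 := rel0 43 35 (by decide)
  r43_31 := rel1 43 31 47 (1) (by decide)
  c43_40 := rel0 43 40 (by decide)
  c43_46 := rel0 43 46 (by decide)
  c43_37 := rel0 43 37 (by decide)
  c43_32 := rel0 43 32 (by decide)
  r43_27 := fun t u => by
    have := rel3 43 27 44 (-1) 45 (1) 1 2 (by decide) t u
    simpa only [pow_one, mul_assoc] using this
  c43_25 := rel0 43 25 (by decide)
  c43_28 := rel0 43 28 (by decide)
  r43_30 := rel1 43 30 46 (1) (by decide)
  r29_41 := fun t u => by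
    have := rel3 29 41 44 (1) 47 (1) 2 1 (by decide) t u
    simpa only [pow_one, mul_assoc] using this
  c29_44 := rel2 29 44 47 (2) (by decide)
  c29_47 := rel0 29 47 (by decide)
  c29_39 := rel0 29 39 (by decide)
  c29_45 := rel0 29 45 (by decide)
  r29_35 := rel1 29 35 39 (-1) (by decide)
  c29_31 := rel0 29 31 (by decide)
  c29_40 := rel0 29 40 (by decide)
  c29_46 := rel0 29 46 (by decide)
  r29_37 := rel1 29 37 40 (1) (by decide)
  c29_32 := rel0 29 32 (by decide)
  c29_27 := rel2 29 27 31 (-2) (by decide)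
  c29_25 := rel0 29 25 (by decide)
  c29_28 := rel2 29 28 32 (-2) (by decide)
  c29_30 := rel0 29 30 (by decide)
  c41_44 := rel0 41 44 (by decide)
  c41_47 := rel0 41 47 (by decide)
  c41_39 := rel0 41 39 (by decide)
  c41_45 := rel0 41 45 (by decide)
  c41_35 := rel0 41 35 (by decide)
  r41_31 := rel1 41 31 45 (-1) (by decide)
  c41_40 := rel0 41 40 (by decide)
  c41_46 := rel0 41 46 (by decide)
  c41_37 := rel0 41 37 (by decide)
  r41_32 := rel1 41 32 46 (-1) (by decide)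
  c41_27 := rel0 41 27 (by decide)
  c41_25 := rel0 41 25 (by decide)
  c41_28 := rel0 41 28 (by decide)
  c41_30 := rel0 41 30 (by decide)
  c44_47 := rel0 44 47 (by decide)
  c44_39 := rel0 44 39 (by decide)
  c44_45 := rel0 44 45 (by decide)
  c44_35 := rel0 44 35 (by decide)
  c44_31 := rel0 44 31 (by decide)
  c44_40 := rel0 44 40 (by decide)
  c44_46 := rel0 44 46 (by decide)
  c44_37 := rel0 44 37 (by decide)
  c44_32 := rel0 44 32 (by decide)
  c44_27 := rel2 44 27 45 (-2) (by decide)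
  c44_25 := rel0 44 25 (by decide)
  c44_28 := rel2 44 28 46 (-2) (by decide)
  c44_30 := rel0 44 30 (by decide)
  c47_39 := rel0 47 39 (by decide)
  c47_45 := rel0 47 45 (by decide)
  c47_35 := rel0 47 35 (by decide)
  c47_31 := rel0 47 31 (by decide)
  c47_40 := rel0 47 40 (by decide)
  c47_46 := rel0 47 46 (by decide)
  c47_37 := rel0 47 37 (by decide)
  c47_32 := rel0 47 32 (by decide)
  c47_27 := rel0 47 27 (by decide)
  c47_25 := rel0 47 25 (by decide)
  c47_28 := rel0 47 28 (by decide)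
  c47_30 := rel0 47 30 (by decide)
  c39_45 := rel0 39 45 (by decide)
  c39_35 := rel0 39 35 (by decide)
  c39_31 := rel0 39 31 (by decide)
  c39_40 := rel0 39 40 (by decide)
  c39_46 := rel0 39 46 (by decide)
  c39_37 := rel2 39 37 46 (2) (by decide)
  c39_32 := rel0 39 32 (by decide)
  r39_27 := rel1 39 27 40 (-1) (by decide)
  c39_25 := rel0 39 25 (by decide)
  c39_28 := rel0 39 28 (by decide)
  c39_30 := rel0 39 30 (by decide)
  c45_35 := rel0 45 35 (by decide)
  c45_31 := rel0 45 31 (by decide)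
  c45_40 := rel0 45 40 (by decide)
  c45_46 := rel0 45 46 (by decide)
  c45_37 := rel0 45 37 (by decide)
  c45_32 := rel0 45 32 (by decide)
  c45_27 := rel0 45 27 (by decide)
  r45_25 := rel1 45 25 46 (-1) (by decide)
  c45_28 := rel0 45 28 (by decide)
  c45_30 := rel0 45 30 (by decide)
  r35_31 := fun t u => by
    have := rel3 35 31 40 (1) 46 (1) 2 1 (by decide) t u
    simpa only [pow_one, mul_assoc] using this
  c35_40 := rel2 35 40 46 (2) (by decide)
  c35_46 := rel0 35 46 (by decide)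
  c35_37 := rel0 35 37 (by decide)
  c35_32 := rel0 35 32 (by decide)
  r35_27 := rel1 35 27 37 (-1) (by decide)
  c35_25 := rel0 35 25 (by decide)
  c35_28 := rel0 35 28 (by decide)
  c35_30 := rel0 35 30 (by decide)
  c31_40 := rel0 31 40 (by decide)
  c31_46 := rel0 31 46 (by decide)
  c31_37 := rel0 31 37 (by decide)
  c31_32 := rel0 31 32 (by decide)
  c31_27 := rel0 31 27 (by decide)
  r31_25 := rel1 31 25 32 (-1) (by decide)
  c31_28 := rel0 31 28 (by decide)
  c31_30 := rel0 31 30 (by decide)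
  c40_46 := rel0 40 46 (by decide)
  c40_37 := rel0 40 37 (by decide)
  c40_32 := rel0 40 32 (by decide)
  c40_27 := rel0 40 27 (by decide)
  c40_25 := rel0 40 25 (by decide)
  c40_28 := rel0 40 28 (by decide)
  c40_30 := rel0 40 30 (by decide)
  c46_37 := rel0 46 37 (by decide)
  c46_32 := rel0 46 32 (by decide)
  c46_27 := rel0 46 27 (by decide)
  c46_25 := rel0 46 25 (by decide)
  c46_28 := rel0 46 28 (by decide)
  c46_30 := rel0 46 30 (by decide)
  c37_32 := rel0 37 32 (by decide)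
  c37_27 := rel0 37 27 (by decide)
  c37_25 := rel0 37 25 (by decide)
  c37_28 := rel0 37 28 (by decide)
  c37_30 := rel0 37 30 (by decide)
  c32_27 := rel0 32 27 (by decide)
  c32_25 := rel0 32 25 (by decide)
  c32_28 := rel0 32 28 (by decide)
  c32_30 := rel0 32 30 (by decide)
  r27_25 := fun t u => by
    have := rel3 27 25 28 (-1) 30 (-1) 2 1 (by decide) t u
    simpa only [pow_one, mul_assoc] using this
  c27_28 := rel2 27 28 30 (2) (by decide)
  c27_30 := rel0 27 30 (by decide)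
  c25_28 := rel0 25 28 (by decide)
  c25_30 := rel0 25 30 (by decide)
  c28_30 := rel0 28 30 (by decide)

end char2

end Cfsg.Agent.Helper4.F4Inv
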