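import Cfsg.Agent.Helper4.F4Inv.ConcRel
import Cfsg.Agent.Helper4.F4Inv.AbsN

/-!
The root elements of `F₄(K)`, `char K = 2`, satisfy the abstract relations of
`Cfsg.Agent.Helper4.F4Inv.RelF4N`.  (Generated.)
-/

set_option autoImplicit false

namespace Cfsg.Agent.Helper4.F4Inv

open Cfsg Cfsg.Lie Cfsg.Agent.Helper18

variable {K : Type*} [Field K]

/-- pairs with no commutator term -/
def qpairs0 : List (ℕ × ℕ) :=
  [(34, 33), (26, 33), (36, 33), (42, 33), (43, 33), (41, 33), (44, 33), (47, 33), (45, 33), (35, 33), (46, 33), (25, 33), (34, 24), (26, 24), (36, 24), (42, 24), (38, 24), (43, 24), (29, 24), (44, 24), (47, 24), (39, 24), (45, 24), (31, 24), (40, 24), (32, 24), (27, 24), (26, 14), (29, 14), (47, 14), (45, 14), (31, 14), (40, 14), (46, 14), (32, 14), (27, 14), (25, 14), (28, 14), (30, 14), (34, 23), (43, 23), (41, 23), (44, 23), (39, 23), (45, 23), (35, 23), (40, 23), (46, 23), (37, 23), (32, 23), (27, 23), (25, 23), (28, 23),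 (30, 23), (33, 20), (24, 20), (26, 20), (36, 20), (42, 20), (43, 20), (41, 20), (47, 20), (39, 20), (35, 20), (46, 20), (32, 20), (33, 22), (24, 22), (34, 22), (36, 22), (42, 22), (38, 22), (29, 22), (41, 22), (44, 22), (47, 22), (45, 22), (31, 22), (40, 22), (37, 22), (33, 19), (24, 19), (34, 19), (26, 19), (36, 19), (42, 19), (38, 19), (43, 19), (41, 19), (47, 19), (45, 19), (31, 19)]

/-- pairs `(r, s, r + s, N)` with one term and odd constant -/
def qpairs1 : List (ℕ × ℕ × ℕ × ℤ) :=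
  [(29, 33, 36, 1), (40, 33, 44, -1), (27, 33, 34, 1), (28, 33, 35, 1), (41, 24, 42, -1), (46, 24, 47, -1), (25, 24, 26, -1), (30, 24, 31, -1), (34, 14, 27, 1), (36, 14, 29, 1), (44, 14, 40, -1), (35, 14, 28, 1), (26, 23, 25, -1), (42, 23, 41, -1), (47, 23, 46, -1), (31, 23, 30, -1), (34, 20, 33, -1), (38, 20, 36, -1), (40, 20, 39, -1), (37, 20, 35, -1), (26, 22, 24, 1), (43, 22, 42, -1), (46, 22, 45, -1), (32, 22, 31, -1), (39, 19, 36, -1), (35, 19, 33, -1), (40, 19, 38, 1), (37, 19, 34, 1)]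

/-- pairs `(r, s, r + s, N)` with one term and even constant -/
def qpairs2 : List (ℕ × ℕ × ℕ × ℤ) :=
  [(38, 33, 42, -2), (39, 33, 43, -2), (37, 33, 41, -2), (38, 14, 31, 2), (39, 14, 32, 2), (37, 14, 30, 2), (29, 20, 26, 2), (44, 20, 43, -2), (29, 19, 24, 2), (44, 19, 42, 2)]

/-- pairs `(r, s, k₁, N₁, k₂, N₂, i, j)` with two terms, both constants odd -/
def qpairs3 : List (ℕ × ℕ × ℕ × ℤ × ℕ × ℤ × ℕ × ℕ) :=
  [(31, 33, 38, 1, 42, -1, 1, 2), (32, 33, 39, 1, 43, -1, 1, 2), (30, 33, 37, 1, 41, -1, 1, 2), (35, 24, 36, -1, 43, 1, 2, 1), (37, 24, 38, -1, 45, 1, 2, 1), (28, 24, 29, -1, 32, -1, 2, 1), (42, 14, 38, -1, 31, -1, 1, 2), (43, 14, 39, -1, 32, -1, 1, 2), (41, 14, 37, -1, 30, -1, 1, 2), (36, 23, 35, -1, 43, -1, 2, 1), (38, 23, 37, -1, 45, -1, 2, 1), (29, 23, 28, -1, 32, 1, 2, 1), (45, 20, 44, -1, 43, 1, 1, 2), (31, 20, 29, -1, 26, -1, 1, 2), (39, 22, 38, -1, 47, -1, 2, 1), (35, 22, 34, -1, 41, -1, 2, 1), (46, 19, 44, -1, 42, -1, 1,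 2), (32, 19, 29, -1, 24, -1, 1, 2)]

theorem qt0 : ∀ p ∈ qpairs0, chevF4.commTerms p.1 p.2 = [] ∧ p.1 < 48 ∧ p.2 < 48 ∧ p.2 ≠ p.1 ∧
    p.2 ≠ chevF4.neg p.1 := by decide +kernel

theorem qt1 : ∀ p ∈ qpairs1, chevF4.commTerms p.1 p.2.1 = [(p.2.2.1, p.2.2.2, 1, 1)] ∧ p.1 < 48 ∧ p.2.1 < 48 ∧
    p.2.1 ≠ p.1 ∧ p.2.1 ≠ chevF4.neg p.1 ∧ (p.2.2.2 = 1 ∨ p.2.2.2 = -1) := by decide +kernel

theorem qt2 : ∀ p ∈ qpairs2, chevF4.commTerms p.1 p.2.1 = [(p.2.2.1, p.2.2.2, 1, 1)] ∧ p.1 < 48 ∧ p.2.1 < 48 ∧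
    p.2.1 ≠ p.1 ∧ p.2.1 ≠ chevF4.neg p.1 ∧ (p.2.2.2 = 2 ∨ p.2.2.2 = -2) := by decide +kernel

theorem qt3 : ∀ p ∈ qpairs3, chevF4.commTerms p.1 p.2.1 =
      [(p.2.2.1, p.2.2.2.1, 1, 1), (p.2.2.2.2.1, p.2.2.2.2.2.1, p.2.2.2.2.2.2.1, p.2.2.2.2.2.2.2)] ∧
    p.1 < 48 ∧ p.2.1 < 48 ∧ p.2.1 ≠ p.1 ∧ p.2.1 ≠ chevF4.neg p.1 ∧ (p.2.2.2.1 = 1 ∨ p.2.2.2.1 = -1) ∧
    (p.2.2.2.2.2.1 = 1 ∨ p.2.2.2.2.2.1 = -1) := by decide +kernel

section char2

variable [CharP K 2]

theorem qrel0 (r s : ℕ) (h : (r, s) ∈ qpairs0) (t u : K) :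
    xGL chevF4 K s u * xGL chevF4 K r t = xGL chevF4 K r t * xGL chevF4 K s u := by
  obtain ⟨hct, hr, hs, h1, h2⟩ := qt0 _ h
  rw [comm_GL r s hr hs h1 h2 t u]
  unfold ChevalleyDatum.commWord
  simp only at hct
  rw [hct]
  simp [wordGL]

theorem qrel1 (r s m : ℕ) (ε : ℤ) (h : (r, s, m, ε) ∈ qpairs1) (t u : K) :
    xGL chevF4 K s u * xGL chevF4 K r t = xGL chevF4 K r t * xGL chevF4 K s u * xGL chevF4 K m (t * u) := by
  obtain ⟨hct, hr, hs, h1, h2, hε⟩ := qt1 _ h
  rw [comm_GL r s hr hs h1 h2 t u]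
  unfold ChevalleyDatum.commWord
  simp only at hct hε
  rw [hct]
  have e : ((ε : ℤ) : K) * (-t) ^ 1 * u ^ 1 = t * u := by
    rw [cast_odd ε hε]; simp [CharTwo.neg_eq]
  simp only [wordGL, List.map_cons, List.map_nil, List.prod_cons, List.prod_nil, mul_one, e]

theorem qrel2 (r s m : ℕ) (ε : ℤ) (h : (r, s, m, ε) ∈ qpairs2) (t u : K) :
    xGL chevF4 K s u * xGL chevF4 K r t = xGL chevF4 K r t * xGL chevF4 K s u := by
  obtain ⟨hct, hr, hs, h1, h2, hε⟩ := qt2 _ h
  rw [comm_GL r s hr hs h1 h2 t u]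
  unfold ChevalleyDatum.commWord
  simp only at hct hε
  rw [hct]
  have e : ((ε : ℤ) : K) * (-t) ^ 1 * u ^ 1 = 0 := by
    rw [cast_even ε hε]; simp
  simp only [wordGL, List.map_cons, List.map_nil, List.prod_cons, List.prod_nil, mul_one, e, xg_zero]

theorem qrel3 (r s k₁ : ℕ) (ε₁ : ℤ) (k₂ : ℕ) (ε₂ : ℤ) (i j : ℕ)
    (h : (r, s, k₁, ε₁, k₂, ε₂, i, j) ∈ qpairs3) (t u : K) :
    xGL chevF4 K s u * xGL chevF4 K r t =
      xGL chevF4 K r t * xGL chevF4 K s u * xGL chevF4 K k₁ (t * u) * xGL chevF4 K k₂ (t ^ i * u ^ j) := by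
  obtain ⟨hct, hr, hs, h1, h2, hε₁, hε₂⟩ := qt3 _ h
  rw [comm_GL r s hr hs h1 h2 t u]
  unfold ChevalleyDatum.commWord
  simp only at hct hε₁ hε₂
  rw [hct]
  have e1 : ((ε₁ : ℤ) : K) * (-t) ^ 1 * u ^ 1 = t * u := by
    rw [cast_odd ε₁ hε₁]; simp [CharTwo.neg_eq]
  have e2 : ((ε₂ : ℤ) : K) * (-t) ^ i * u ^ j = t ^ i * u ^ j := by
    rw [cast_odd ε₂ hε₂]; simp [CharTwo.neg_eq]
  simp only [wordGL, List.map_cons, List.map_nil, List.prod_cons, List.prod_nil, mul_one, e1, e2]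
  simp only [mul_assoc]

/-- the abstract relations hold in `F₄(K)` -/
noncomputable def f4RelN : RelF4N K (GL chevF4.Idx K) where
  toRelF4 := f4Rel
  X14 := xGL chevF4 K 14
  X23 := xGL chevF4 K 23
  X20 := xGL chevF4 K 20
  X22 := xGL chevF4 K 22
  X19 := xGL chevF4 K 19
  k34_33 := qrel0 34 33 (by decide)
  k26_33 := qrel0 26 33 (by decide)
  k36_33 := qrel0 36 33 (by decide)
  k42_33 := qrel0 42 33 (by decide)
  k38_33 := qrel2 38 33 42 (-2) (by decide)
  k43_33 := qrel0 43 33 (by decide)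
  q29_33 := qrel1 29 33 36 (1) (by decide)
  k41_33 := qrel0 41 33 (by decide)
  k44_33 := qrel0 44 33 (by decide)
  k47_33 := qrel0 47 33 (by decide)
  k39_33 := qrel2 39 33 43 (-2) (by decide)
  k45_33 := qrel0 45 33 (by decide)
  k35_33 := qrel0 35 33 (by decide)
  q31_33 := fun t u => by
    have := qrel3 31 33 38 (1) 42 (-1) 1 2 (by decide) t u
    simp only [pow_one, mul_assoc] at this
    simp only [mul_assoc]
    exact this
  q40_33 := qrel1 40 33 44 (-1) (by decide)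
  k46_33 := qrel0 46 33 (by decide)
  k37_33 := qrel2 37 33 41 (-2) (by decide)
  q32_33 := fun t u => by
    have := qrel3 32 33 39 (1) 43 (-1) 1 2 (by decide) t u
    simp only [pow_one, mul_assoc] at this
    simp only [mul_assoc]
    exact this
  q27_33 := qrel1 27 33 34 (1) (by decide)
  k25_33 := qrel0 25 33 (by decide)
  q28_33 := qrel1 28 33 35 (1) (by decide)
  q30_33 := fun t u => by
    have := qrel3 30 33 37 (1) 41 (-1) 1 2 (by decide) t u
    simp only [pow_one, mul_assoc] at this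
    simp only [mul_assoc]
    exact this
  k34_24 := qrel0 34 24 (by decide)
  k26_24 := qrel0 26 24 (by decide)
  k36_24 := qrel0 36 24 (by decide)
  k42_24 := qrel0 42 24 (by decide)
  k38_24 := qrel0 38 24 (by decide)
  k43_24 := qrel0 43 24 (by decide)
  k29_24 := qrel0 29 24 (by decide)
  q41_24 := qrel1 41 24 42 (-1) (by decide)
  k44_24 := qrel0 44 24 (by decide)
  k47_24 := qrel0 47 24 (by decide)
  k39_24 := qrel0 39 24 (by decide)
  k45_24 := qrel0 45 24 (by decide)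
  q35_24 := fun t u => by
    have := qrel3 35 24 36 (-1) 43 (1) 2 1 (by decide) t u
    simp only [pow_one, mul_assoc] at this
    simp only [mul_assoc]
    exact this
  k31_24 := qrel0 31 24 (by decide)
  k40_24 := qrel0 40 24 (by decide)
  q46_24 := qrel1 46 24 47 (-1) (by decide)
  q37_24 := fun t u => by
    have := qrel3 37 24 38 (-1) 45 (1) 2 1 (by decide) t u
    simp only [pow_one, mul_assoc] at this
    simp only [mul_assoc]
    exact this
  k32_24 := qrel0 32 24 (by decide)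
  k27_24 := qrel0 27 24 (by decide)
  q25_24 := qrel1 25 24 26 (-1) (by decide)
  q28_24 := fun t u => by
    have := qrel3 28 24 29 (-1) 32 (-1) 2 1 (by decide) t u
    simp only [pow_one, mul_assoc] at this
    simp only [mul_assoc]
    exact this
  q30_24 := qrel1 30 24 31 (-1) (by decide)
  q34_14 := qrel1 34 14 27 (1) (by decide)
  k26_14 := qrel0 26 14 (by decide)
  q36_14 := qrel1 36 14 29 (1) (by decide)
  q42_14 := fun t u => by
    have := qrel3 42 14 38 (-1) 31 (-1) 1 2 (by decide) t u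
    simp only [pow_one, mul_assoc] at this
    simp only [mul_assoc]
    exact this
  k38_14 := qrel2 38 14 31 (2) (by decide)
  q43_14 := fun t u => by
    have := qrel3 43 14 39 (-1) 32 (-1) 1 2 (by decide) t u
    simp only [pow_one, mul_assoc] at this
    simp only [mul_assoc]
    exact this
  k29_14 := qrel0 29 14 (by decide)
  q41_14 := fun t u => by
    have := qrel3 41 14 37 (-1) 30 (-1) 1 2 (by decide) t u
    simp only [pow_one, mul_assoc] at this
    simp only [mul_assoc]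
    exact this
  q44_14 := qrel1 44 14 40 (-1) (by decide)
  k47_14 := qrel0 47 14 (by decide)
  k39_14 := qrel2 39 14 32 (2) (by decide)
  k45_14 := qrel0 45 14 (by decide)
  q35_14 := qrel1 35 14 28 (1) (by decide)
  k31_14 := qrel0 31 14 (by decide)
  k40_14 := qrel0 40 14 (by decide)
  k46_14 := qrel0 46 14 (by decide)
  k37_14 := qrel2 37 14 30 (2) (by decide)
  k32_14 := qrel0 32 14 (by decide)
  k27_14 := qrel0 27 14 (by decide)
  k25_14 := qrel0 25 14 (by decide)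
  k28_14 := qrel0 28 14 (by decide)
  k30_14 := qrel0 30 14 (by decide)
  k34_23 := qrel0 34 23 (by decide)
  q26_23 := qrel1 26 23 25 (-1) (by decide)
  q36_23 := fun t u => by
    have := qrel3 36 23 35 (-1) 43 (-1) 2 1 (by decide) t u
    simp only [pow_one, mul_assoc] at this
    simp only [mul_assoc]
    exact this
  q42_23 := qrel1 42 23 41 (-1) (by decide)
  q38_23 := fun t u => by
    have := qrel3 38 23 37 (-1) 45 (-1) 2 1 (by decide) t u
    simp only [pow_one, mul_assoc] at this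
    simp only [mul_assoc]
    exact this
  k43_23 := qrel0 43 23 (by decide)
  q29_23 := fun t u => by
    have := qrel3 29 23 28 (-1) 32 (1) 2 1 (by decide) t u
    simp only [pow_one, mul_assoc] at this
    simp only [mul_assoc]
    exact this
  k41_23 := qrel0 41 23 (by decide)
  k44_23 := qrel0 44 23 (by decide)
  q47_23 := qrel1 47 23 46 (-1) (by decide)
  k39_23 := qrel0 39 23 (by decide)
  k45_23 := qrel0 45 23 (by decide)
  k35_23 := qrel0 35 23 (by decide)
  q31_23 := qrel1 31 23 30 (-1) (by decide)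
  k40_23 := qrel0 40 23 (by decide)
  k46_23 := qrel0 46 23 (by decide)
  k37_23 := qrel0 37 23 (by decide)
  k32_23 := qrel0 32 23 (by decide)
  k27_23 := qrel0 27 23 (by decide)
  k25_23 := qrel0 25 23 (by decide)
  k28_23 := qrel0 28 23 (by decide)
  k30_23 := qrel0 30 23 (by decide)
  k33_20 := qrel0 33 20 (by decide)
  k24_20 := qrel0 24 20 (by decide)
  q34_20 := qrel1 34 20 33 (-1) (by decide)
  k26_20 := qrel0 26 20 (by decide)
  k36_20 := qrel0 36 20 (by decide)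
  k42_20 := qrel0 42 20 (by decide)
  q38_20 := qrel1 38 20 36 (-1) (by decide)
  k43_20 := qrel0 43 20 (by decide)
  k29_20 := qrel2 29 20 26 (2) (by decide)
  k41_20 := qrel0 41 20 (by decide)
  k44_20 := qrel2 44 20 43 (-2) (by decide)
  k47_20 := qrel0 47 20 (by decide)
  k39_20 := qrel0 39 20 (by decide)
  q45_20 := fun t u => by
    have := qrel3 45 20 44 (-1) 43 (1) 1 2 (by decide) t u
    simp only [pow_one, mul_assoc] at this
    simp only [mul_assoc]
    exact this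
  k35_20 := qrel0 35 20 (by decide)
  q31_20 := fun t u => by
    have := qrel3 31 20 29 (-1) 26 (-1) 1 2 (by decide) t u
    simp only [pow_one, mul_assoc] at this
    simp only [mul_assoc]
    exact this
  q40_20 := qrel1 40 20 39 (-1) (by decide)
  k46_20 := qrel0 46 20 (by decide)
  q37_20 := qrel1 37 20 35 (-1) (by decide)
  k32_20 := qrel0 32 20 (by decide)
  k33_22 := qrel0 33 22 (by decide)
  k24_22 := qrel0 24 22 (by decide)
  k34_22 := qrel0 34 22 (by decide)
  q26_22 := qrel1 26 22 24 (1) (by decide)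
  k36_22 := qrel0 36 22 (by decide)
  k42_22 := qrel0 42 22 (by decide)
  k38_22 := qrel0 38 22 (by decide)
  q43_22 := qrel1 43 22 42 (-1) (by decide)
  k29_22 := qrel0 29 22 (by decide)
  k41_22 := qrel0 41 22 (by decide)
  k44_22 := qrel0 44 22 (by decide)
  k47_22 := qrel0 47 22 (by decide)
  q39_22 := fun t u => by
    have := qrel3 39 22 38 (-1) 47 (-1) 2 1 (by decide) t u
    simp only [pow_one, mul_assoc] at this
    simp only [mul_assoc]
    exact this
  k45_22 := qrel0 45 22 (by decide)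
  q35_22 := fun t u => by
    have := qrel3 35 22 34 (-1) 41 (-1) 2 1 (by decide) t u
    simp only [pow_one, mul_assoc] at this
    simp only [mul_assoc]
    exact this
  k31_22 := qrel0 31 22 (by decide)
  k40_22 := qrel0 40 22 (by decide)
  q46_22 := qrel1 46 22 45 (-1) (by decide)
  k37_22 := qrel0 37 22 (by decide)
  q32_22 := qrel1 32 22 31 (-1) (by decide)
  k33_19 := qrel0 33 19 (by decide)
  k24_19 := qrel0 24 19 (by decide)
  k34_19 := qrel0 34 19 (by decide)
  k26_19 := qrel0 26 19 (by decide)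
  k36_19 := qrel0 36 19 (by decide)
  k42_19 := qrel0 42 19 (by decide)
  k38_19 := qrel0 38 19 (by decide)
  k43_19 := qrel0 43 19 (by decide)
  k29_19 := qrel2 29 19 24 (2) (by decide)
  k41_19 := qrel0 41 19 (by decide)
  k44_19 := qrel2 44 19 42 (2) (by decide)
  k47_19 := qrel0 47 19 (by decide)
  q39_19 := qrel1 39 19 36 (-1) (by decide)
  k45_19 := qrel0 45 19 (by decide)
  q35_19 := qrel1 35 19 33 (-1) (by decide)
  k31_19 := qrel0 31 19 (by decide)
  q40_19 := qrel1 40 19 38 (1) (by decide)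
  q46_19 := fun t u => by
    have := qrel3 46 19 44 (-1) 42 (-1) 1 2 (by decide) t u
    simp only [pow_one, mul_assoc] at this
    simp only [mul_assoc]
    exact this
  q37_19 := qrel1 37 19 34 (1) (by decide)
  q32_19 := fun t u => by
    have := qrel3 32 19 29 (-1) 24 (-1) 1 2 (by decide) t u
    simp only [pow_one, mul_assoc] at this
    simp only [mul_assoc]
    exact this

end char2

end Cfsg.Agent.Helper4.F4Inv
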