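import Mathlib

/-!
# Conjugacy classes in a subgroup of index two

If `T` is a subgroup of index two of `G`, every involution of `G` lies in `T` and is `G`-conjugate to one of
two non-conjugate involutions `z`, `v`, each centralised by an element outside `T`, then `T` has exactly
two conjugacy classes of involutions.
-/

set_option autoImplicit false

namespace Cfsg.Agent.Helper4.F4Inv

/-- in a subgroup of index two, the product of two elements outside lies inside -/
theorem mul_mem_of_index_two {G : Type*} [Group G] (T : Subgroup G) (hidx : T.index = 2) {a b : G}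
    (ha : a ∉ T) (hb : b ∉ T) : a * b ∈ T :=
  (Subgroup.mul_mem_iff_of_index_two hidx).mpr (iff_of_false ha hb)

/-- `G`-conjugacy to `x` is `T`-conjugacy when the centraliser of `x` is not contained in `T` -/
theorem conj_in_of_index_two {G : Type*} [Group G] (T : Subgroup G) (hidx : T.index = 2) (x y c : G)
    (hc : c ∉ T) (hcx : c * x = x * c) (h : IsConj y x) : ∃ w ∈ T, w * y * w⁻¹ = x := by
  obtain ⟨g, hg⟩ := isConj_iff.mp h
  by_cases hgT : g ∈ T
  · exact ⟨g, hgT, hg⟩
  · refine ⟨c * g, mul_mem_of_index_two T hidx hc hgT, ?_⟩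
    have : c * g * y * (c * g)⁻¹ = c * (g * y * g⁻¹) * c⁻¹ := by group
    rw [this, hg, hcx]
    group

/-- **two classes of involutions in a subgroup of index two** -/
theorem two_classes_index_two {G : Type*} [Group G] (T : Subgroup G) (hidx : T.index = 2)
    (hall : ∀ g : G, orderOf g = 2 → g ∈ T) (z v : G) (hz : orderOf z = 2) (hv : orderOf v = 2)
    (hcls : ∀ g : G, orderOf g = 2 → IsConj g z ∨ IsConj g v) (hne : ¬ IsConj z v)
    (cz cv : G) (hcz : cz ∉ T) (hcv : cv ∉ T) (hzc : cz * z = z * cz) (hvc : cv * v = v * cv) :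
    (ConjClasses.mk '' {g : ↥T | orderOf g = 2}).ncard = 2 := by
  let zT : ↥T := ⟨z, hall z hz⟩
  let vT : ↥T := ⟨v, hall v hv⟩
  have hoz : orderOf zT = 2 := by
    rw [← hz]; exact (Subgroup.orderOf_coe zT).symm
  have hov : orderOf vT = 2 := by
    rw [← hv]; exact (Subgroup.orderOf_coe vT).symm
  have hne' : ConjClasses.mk zT ≠ ConjClasses.mk vT := by
    intro h
    rw [ConjClasses.mk_eq_mk_iff_isConj, isConj_iff] at h
    obtain ⟨c, hc⟩ := h
    apply hne
    rw [isConj_iff]
    exact ⟨c, congrArg Subtype.val hc⟩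
  have hset : ConjClasses.mk '' {g : ↥T | orderOf g = 2} = {ConjClasses.mk zT, ConjClasses.mk vT} := by
    ext C
    constructor
    · rintro ⟨g, hg, rfl⟩
      have hg' : orderOf (g : G) = 2 := by rw [Subgroup.orderOf_coe]; exact hg
      rcases hcls g hg' with h | h
      · left
        obtain ⟨w, hw, e⟩ := conj_in_of_index_two T hidx z g cz hcz hzc h
        rw [ConjClasses.mk_eq_mk_iff_isConj, isConj_iff]
        exact ⟨⟨w, hw⟩, Subtype.ext e⟩
      · right
        obtain ⟨w, hw, e⟩ := conj_in_of_index_two T hidx v g cv hcv hvc h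
        rw [Set.mem_singleton_iff, ConjClasses.mk_eq_mk_iff_isConj, isConj_iff]
        exact ⟨⟨w, hw⟩, Subtype.ext e⟩
    · rintro (rfl | rfl)
      · exact ⟨zT, hoz, rfl⟩
      · exact ⟨vT, hov, rfl⟩
  rw [hset]
  exact Set.ncard_pair hne'

end Cfsg.Agent.Helper4.F4Inv
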