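import Cfsg.Agent.Helper4.F4Inv.TwDefs

/-! Generated: one collection formula for the twisted unipotent group of `²F₄` (see `TwDefs`). -/

set_option autoImplicit false
set_option maxHeartbeats 4000000
set_option maxRecDepth 100000
set_option linter.unusedSimpArgs false
set_option linter.unusedVariables false

namespace Cfsg.Agent.Helper4.F4Inv

variable {K Γ : Type*} [Field K] [Group Γ] (R : RelF4 K Γ) (th : K →+* K) [CharP K 2]

namespace RelF4

theorem cjD (hth : ∀ x, th (th x) ^ 2 = x) (a b b1 c d d1 e f f1 g h h1 x y : K) :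
    R.SD th x y * R.NF th a b b1 c d d1 e f f1 g h h1 * (R.SD th x y)⁻¹ =
      R.NF th (a) (b) (th a * th x + b1) (b * x + c) (d) (th d * x + d * th x + d1) (e + f * x) (f) (f1 + th g * th x) (g) (h) (h1) := by
  obtain ⟨a, rfl⟩ : ∃ r, a = r ^ 2 := ⟨th (th a), (hth a).symm⟩
  obtain ⟨b, rfl⟩ : ∃ r, b = r ^ 2 := ⟨th (th b), (hth b).symm⟩
  obtain ⟨b1, rfl⟩ : ∃ r, b1 = r ^ 2 := ⟨th (th b1), (hth b1).symm⟩
  obtain ⟨c, rfl⟩ : ∃ r, c = r ^ 2 := ⟨th (th c), (hth c).symm⟩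
  obtain ⟨d, rfl⟩ : ∃ r, d = r ^ 2 := ⟨th (th d), (hth d).symm⟩
  obtain ⟨d1, rfl⟩ : ∃ r, d1 = r ^ 2 := ⟨th (th d1), (hth d1).symm⟩
  obtain ⟨e, rfl⟩ : ∃ r, e = r ^ 2 := ⟨th (th e), (hth e).symm⟩
  obtain ⟨f, rfl⟩ : ∃ r, f = r ^ 2 := ⟨th (th f), (hth f).symm⟩
  obtain ⟨f1, rfl⟩ : ∃ r, f1 = r ^ 2 := ⟨th (th f1), (hth f1).symm⟩
  obtain ⟨g, rfl⟩ : ∃ r, g = r ^ 2 := ⟨th (th g), (hth g).symm⟩
  obtain ⟨h, rfl⟩ : ∃ r, h = r ^ 2 := ⟨th (th h), (hth h).symm⟩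
  obtain ⟨h1, rfl⟩ : ∃ r, h1 = r ^ 2 := ⟨th (th h1), (hth h1).symm⟩
  obtain ⟨x, rfl⟩ : ∃ r, x = r ^ 2 := ⟨th (th x), (hth x).symm⟩
  obtain ⟨y, rfl⟩ : ∃ r, y = r ^ 2 := ⟨th (th y), (hth y).symm⟩
  have h2 : (2 : K) = 0 := CharTwo.two_eq_zero
  have h4 : (4 : K) = 0 := by linear_combination 2 * h2
  have h6 : (6 : K) = 0 := by linear_combination 3 * h2
  have h8 : (8 : K) = 0 := by linear_combination 4 * h2
  have h10 : (10 : K) = 0 := by linear_combination 5 * h2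
  have h12 : (12 : K) = 0 := by linear_combination 6 * h2
  have h14 : (14 : K) = 0 := by linear_combination 7 * h2
  have h16 : (16 : K) = 0 := by linear_combination 8 * h2
  have h18 : (18 : K) = 0 := by linear_combination 9 * h2
  have h20 : (20 : K) = 0 := by linear_combination 10 * h2
  have h22 : (22 : K) = 0 := by linear_combination 11 * h2
  have h24 : (24 : K) = 0 := by linear_combination 12 * h2
  have h26 : (26 : K) = 0 := by linear_combination 13 * h2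
  have h28 : (28 : K) = 0 := by linear_combination 14 * h2
  have h30 : (30 : K) = 0 := by linear_combination 15 * h2
  have h32 : (32 : K) = 0 := by linear_combination 16 * h2
  have h34 : (34 : K) = 0 := by linear_combination 17 * h2
  have h36 : (36 : K) = 0 := by linear_combination 18 * h2
  have h38 : (38 : K) = 0 := by linear_combination 19 * h2
  have h40 : (40 : K) = 0 := by linear_combination 20 * h2
  have h42 : (42 : K) = 0 := by linear_combination 21 * h2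
  have h44 : (44 : K) = 0 := by linear_combination 22 * h2
  have h46 : (46 : K) = 0 := by linear_combination 23 * h2
  have h48 : (48 : K) = 0 := by linear_combination 24 * h2
  have h50 : (50 : K) = 0 := by linear_combination 25 * h2
  have h52 : (52 : K) = 0 := by linear_combination 26 * h2
  have h54 : (54 : K) = 0 := by linear_combination 27 * h2
  have h56 : (56 : K) = 0 := by linear_combination 28 * h2
  have h58 : (58 : K) = 0 := by linear_combination 29 * h2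
  have h60 : (60 : K) = 0 := by linear_combination 30 * h2
  have h62 : (62 : K) = 0 := by linear_combination 31 * h2
  have h64 : (64 : K) = 0 := by linear_combination 32 * h2
  unfold NF PA SB PC SD PE SF PG SH
  simp only [mul_inv_rev, R.inv29, R.inv41, R.inv44, R.inv47]
  simp only [mul_assoc, R.t33_24, R.t33_34, R.t33_26, R.t33_36, R.t33_42, R.t33_38, R.t33_43,
    R.t33_29, R.t33_41, R.t33_44, R.t33_47, R.t33_39, R.t33_45, R.t33_35, R.t33_31,
    R.t33_40, R.t33_46, R.t33_37, R.t33_32, R.t33_27, R.t33_25, R.t33_28, R.t33_30,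
    R.t24_34, R.t24_26, R.t24_36, R.t24_42, R.t24_38, R.t24_43, R.t24_29, R.t24_41,
    R.t24_44, R.t24_47, R.t24_39, R.t24_45, R.t24_35, R.t24_31, R.t24_40, R.t24_46,
    R.t24_37, R.t24_32, R.t24_27, R.t24_25, R.t24_28, R.t24_30, R.t34_26, R.t34_36,
    R.t34_42, R.t34_38, R.t34_43, R.t34_29, R.t34_41, R.t34_44, R.t34_47, R.t34_39,
    R.t34_45, R.t34_35, R.t34_31, R.t34_40, R.t34_46, R.t34_37, R.t34_32, R.t34_27,
    R.t34_25, R.t34_28, R.t34_30, R.t26_36, R.t26_42, R.t26_38, R.t26_43, R.t26_29,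
    R.t26_41, R.t26_44, R.t26_47, R.t26_39, R.t26_45, R.t26_35, R.t26_31, R.t26_40,
    R.t26_46, R.t26_37, R.t26_32, R.t26_27, R.t26_25, R.t26_28, R.t26_30, R.t36_42,
    R.t36_38, R.t36_43, R.t36_29, R.t36_41, R.t36_44, R.t36_47, R.t36_39, R.t36_45,
    R.t36_35, R.t36_31, R.t36_40, R.t36_46, R.t36_37, R.t36_32, R.t36_27, R.t36_25,
    R.t36_28, R.t36_30, R.t42_38, R.t42_43, R.t42_29, R.t42_41, R.t42_44, R.t42_47,
    R.t42_39, R.t42_45, R.t42_35, R.t42_31, R.t42_40, R.t42_46, R.t42_37, R.t42_32,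
    R.t42_27, R.t42_25, R.t42_28, R.t42_30, R.t38_43, R.t38_29, R.t38_41, R.t38_44,
    R.t38_47, R.t38_39, R.t38_45, R.t38_35, R.t38_31, R.t38_40, R.t38_46, R.t38_37,
    R.t38_32, R.t38_27, R.t38_25, R.t38_28, R.t38_30, R.t43_29, R.t43_41, R.t43_44,
    R.t43_47, R.t43_39, R.t43_45, R.t43_35, R.t43_31, R.t43_40, R.t43_46, R.t43_37,
    R.t43_32, R.t43_27, R.t43_25, R.t43_28, R.t43_30, R.t29_41, R.t29_44, R.t29_47,
    R.t29_39, R.t29_45, R.t29_35, R.t29_31, R.t29_40, R.t29_46, R.t29_37, R.t29_32,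
    R.t29_27, R.t29_25, R.t29_28, R.t29_30, R.t41_44, R.t41_47, R.t41_39, R.t41_45,
    R.t41_35, R.t41_31, R.t41_40, R.t41_46, R.t41_37, R.t41_32, R.t41_27, R.t41_25,
    R.t41_28, R.t41_30, R.t44_47, R.t44_39, R.t44_45, R.t44_35, R.t44_31, R.t44_40,
    R.t44_46, R.t44_37, R.t44_32, R.t44_27, R.t44_25, R.t44_28, R.t44_30, R.t47_39,
    R.t47_45, R.t47_35, R.t47_31, R.t47_40, R.t47_46, R.t47_37, R.t47_32, R.t47_27,
    R.t47_25, R.t47_28, R.t47_30, R.t39_45, R.t39_35, R.t39_31, R.t39_40, R.t39_46,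
    R.t39_37, R.t39_32, R.t39_27, R.t39_25, R.t39_28, R.t39_30, R.t45_35, R.t45_31,
    R.t45_40, R.t45_46, R.t45_37, R.t45_32, R.t45_27, R.t45_25, R.t45_28, R.t45_30,
    R.t35_31, R.t35_40, R.t35_46, R.t35_37, R.t35_32, R.t35_27, R.t35_25, R.t35_28,
    R.t35_30, R.t31_40, R.t31_46, R.t31_37, R.t31_32, R.t31_27, R.t31_25, R.t31_28,
    R.t31_30, R.t40_46, R.t40_37, R.t40_32, R.t40_27, R.t40_25, R.t40_28, R.t40_30,
    R.t46_37, R.t46_32, R.t46_27, R.t46_25, R.t46_28, R.t46_30, R.t37_32, R.t37_27,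
    R.t37_25, R.t37_28, R.t37_30, R.t32_27, R.t32_25, R.t32_28, R.t32_30, R.t27_25,
    R.t27_28, R.t27_30, R.t25_28, R.t25_30, R.t28_30, R.m33, R.m24, R.m34,
    R.m26, R.m36, R.m42, R.m38, R.m43, R.m29, R.m41, R.m44,
    R.m47, R.m39, R.m45, R.m35, R.m31, R.m40, R.m46, R.m37,
    R.m32, R.m27, R.m25, R.m28, R.m30, R.c33_24, R.c33_34, R.c33_26,
    R.c33_36, R.c33_42, R.c33_38, R.c33_43, R.r33_29, R.c33_41, R.c33_44, R.c33_47,
    R.c33_39, R.c33_45, R.c33_35, R.r33_31, R.r33_40, R.c33_46, R.c33_37, R.r33_32,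
    R.r33_27, R.c33_25, R.r33_28, R.r33_30, R.c24_34, R.c24_26, R.c24_36, R.c24_42,
    R.c24_38, R.c24_43, R.c24_29, R.r24_41, R.c24_44, R.c24_47, R.c24_39, R.c24_45,
    R.r24_35, R.c24_31, R.c24_40, R.r24_46, R.r24_37, R.c24_32, R.c24_27, R.r24_25,
    R.r24_28, R.r24_30, R.r34_26, R.c34_36, R.c34_42, R.c34_38, R.c34_43, R.r34_29,
    R.c34_41, R.c34_44, R.c34_47, R.r34_39, R.c34_45, R.c34_35, R.c34_31, R.c34_40,
    R.c34_46, R.c34_37, R.r34_32, R.c34_27, R.r34_25, R.r34_28, R.c34_30, R.c26_36,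
    R.c26_42, R.c26_38, R.c26_43, R.c26_29, R.r26_41, R.c26_44, R.c26_47, R.c26_39,
    R.r26_45, R.c26_35, R.c26_31, R.c26_40, R.c26_46, R.r26_37, R.c26_32, R.r26_27,
    R.c26_25, R.c26_28, R.r26_30, R.c36_42, R.c36_38, R.c36_43, R.c36_29, R.c36_41,
    R.c36_44, R.c36_47, R.c36_39, R.c36_45, R.c36_35, R.c36_31, R.c36_40, R.c36_46,
    R.r36_37, R.c36_32, R.r36_27, R.c36_25, R.r36_28, R.r36_30, R.c42_38, R.c42_43,
    R.c42_29, R.c42_41, R.c42_44, R.c42_47, R.c42_39, R.c42_45, R.c42_35, R.c42_31,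
    R.c42_40, R.c42_46, R.c42_37, R.r42_32, R.c42_27, R.r42_25, R.r42_28, R.r42_30,
    R.c38_43, R.c38_29, R.c38_41, R.c38_44, R.c38_47, R.c38_39, R.c38_45, R.r38_35,
    R.c38_31, R.c38_40, R.c38_46, R.c38_37, R.c38_32, R.c38_27, R.r38_25, R.r38_28,
    R.c38_30, R.c43_29, R.c43_41, R.c43_44, R.c43_47, R.c43_39, R.c43_45, R.c43_35,
    R.r43_31, R.c43_40, R.c43_46, R.c43_37, R.c43_32, R.r43_27, R.c43_25, R.c43_28,
    R.r43_30, R.r29_41, R.c29_44, R.c29_47, R.c29_39, R.c29_45, R.r29_35, R.c29_31,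
    R.c29_40, R.c29_46, R.r29_37, R.c29_32, R.c29_27, R.c29_25, R.c29_28, R.c29_30,
    R.c41_44, R.c41_47, R.c41_39, R.c41_45, R.c41_35, R.r41_31, R.c41_40, R.c41_46,
    R.c41_37, R.r41_32, R.c41_27, R.c41_25, R.c41_28, R.c41_30, R.c44_47, R.c44_39,
    R.c44_45, R.c44_35, R.c44_31, R.c44_40, R.c44_46, R.c44_37, R.c44_32, R.c44_27,
    R.c44_25, R.c44_28, R.c44_30, R.c47_39, R.c47_45, R.c47_35, R.c47_31, R.c47_40,
    R.c47_46, R.c47_37, R.c47_32, R.c47_27, R.c47_25, R.c47_28, R.c47_30, R.c39_45,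
    R.c39_35, R.c39_31, R.c39_40, R.c39_46, R.c39_37, R.c39_32, R.r39_27, R.c39_25,
    R.c39_28, R.c39_30, R.c45_35, R.c45_31, R.c45_40, R.c45_46, R.c45_37, R.c45_32,
    R.c45_27, R.r45_25, R.c45_28, R.c45_30, R.r35_31, R.c35_40, R.c35_46, R.c35_37,
    R.c35_32, R.r35_27, R.c35_25, R.c35_28, R.c35_30, R.c31_40, R.c31_46, R.c31_37,
    R.c31_32, R.c31_27, R.r31_25, R.c31_28, R.c31_30, R.c40_46, R.c40_37, R.c40_32,
    R.c40_27, R.c40_25, R.c40_28, R.c40_30, R.c46_37, R.c46_32, R.c46_27, R.c46_25,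
    R.c46_28, R.c46_30, R.c37_32, R.c37_27, R.c37_25, R.c37_28, R.c37_30, R.c32_27,
    R.c32_25, R.c32_28, R.c32_30, R.r27_25, R.c27_28, R.c27_30, R.c25_28, R.c25_30,
    R.c28_30, ← R.add33, ← R.add24, ← R.add34, ← R.add26, ← R.add36, ← R.add42, ← R.add38,
    ← R.add43, ← R.add29, ← R.add41, ← R.add44, ← R.add47, ← R.add39, ← R.add45, ← R.add35,
    ← R.add31, ← R.add40, ← R.add46, ← R.add37, ← R.add32, ← R.add27, ← R.add25, ← R.add28,
    ← R.add30]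
  change R.RNF _ _ _ _ _ _ _ _ _ _ _ _ _ _ _ _ _ _ _ _ _ _ _ _ = R.RNF _ _ _ _ _ _ _ _ _ _ _ _ _ _ _ _ _ _ _ _ _ _ _ _
  congr 1 <;> ((try simp only [map_add, map_mul, map_pow, map_zero, hth]) <;> (first | ring1 | (rw [← sub_eq_zero]; ring_nf; simp only [h2, h4, h6, h8, h10, h12, h14, h16, h18, h20, h22, h24, h26, h28, h30, h32, h34, h36, h38, h40, h42, h44, h46, h48, h50, h52, h54, h56, h58, h60, h62, h64, mul_zero, zero_mul, add_zero, zero_add, neg_zero, sub_zero, sub_self])))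

end RelF4

end Cfsg.Agent.Helper4.F4Inv
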