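import Cfsg.Agent.Helper4.F4Inv.TwDefs
import Cfsg.Agent.Helper4.F4Inv.TwCjA
import Cfsg.Agent.Helper4.F4Inv.TwCjB
import Cfsg.Agent.Helper4.F4Inv.TwCjC
import Cfsg.Agent.Helper4.F4Inv.TwCjD
import Cfsg.Agent.Helper4.F4Inv.TwCjE
import Cfsg.Agent.Helper4.F4Inv.TwCjF
import Cfsg.Agent.Helper4.F4Inv.TwCjG
import Cfsg.Agent.Helper4.F4Inv.TwCjH
import Cfsg.Agent.Helper4.F4Inv.TwSq
import Cfsg.Agent.Helper4.F4Inv.TwW1
import Cfsg.Agent.Helper4.F4Inv.TwW8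

/-! The collection formulas for the twisted unipotent group of `²F₄` (generated files). -/
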