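import Cfsg.Agent.Helper4.F4Inv.Abs

/-!
# The unipotent subgroup of `²F₄` (abstract form)

For root maps `R : RelF4 K Γ` and a ring endomorphism `th` of `K` with `th (th x) ^ 2 = x`
(the Tits endomorphism), the eight families of twisted root elements
`PA, SB, PC, SD, PE, SF, PG, SH` (in the cyclic order of the octagon), the normal form `NF`, and
the formulas for squaring a normal form, for conjugating it by a twisted root element, and for
the images of normal forms under the two reflections of the twisted Weyl group.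
This file is generated.
-/

set_option autoImplicit false
set_option maxHeartbeats 4000000
set_option linter.unusedSimpArgs false
set_option linter.unusedVariables false

namespace Cfsg.Agent.Helper4.F4Inv

variable {K Γ : Type*} [Field K] [Group Γ] (R : RelF4 K Γ) (th : K →+* K)

namespace RelF4

/-- twisted root element of the class `[33, 24]` -/
def PA (t : K) : Γ := R.X33 (th t) * R.X24 t

/-- twisted root element of the class `[34, 26, 36, 42]` -/
def SB (t u : K) : Γ :=
  R.X34 (th t) * (R.X26 t * (R.X36 (th t * t + u) * R.X42 (th u ^ 2)))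

/-- twisted root element of the class `[38, 43]` -/
def PC (t : K) : Γ := R.X38 (th t) * R.X43 t

/-- twisted root element of the class `[29, 41, 44, 47]` -/
def SD (t u : K) : Γ :=
  R.X29 (th t) * (R.X41 t * (R.X44 (th t * t + u) * R.X47 (th u ^ 2)))

/-- twisted root element of the class `[39, 45]` -/
def PE (t : K) : Γ := R.X39 (th t) * R.X45 t

/-- twisted root element of the class `[35, 31, 40, 46]` -/
def SF (t u : K) : Γ :=
  R.X35 (th t) * (R.X31 t * (R.X40 (th t * t + u) * R.X46 (th u ^ 2)))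

/-- twisted root element of the class `[37, 32]` -/
def PG (t : K) : Γ := R.X37 (th t) * R.X32 t

/-- twisted root element of the class `[27, 25, 28, 30]` -/
def SH (t u : K) : Γ :=
  R.X27 (th t) * (R.X25 t * (R.X28 (th t * t + u) * R.X30 (th u ^ 2)))

/-- the normal form of an element of the twisted unipotent group -/
def NF (a b b1 c d d1 e f f1 g h h1 : K) : Γ :=
  R.PA th a * (R.SB th b b1 * (R.PC th c * (R.SD th d d1 * (R.PE th e * (R.SF th f f1 * (R.PG th g * R.SH th h h1))))))

/-- normal form without the first class -/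
def NF7 (b b1 c d d1 e f f1 g h h1 : K) : Γ :=
  R.SB th b b1 * (R.PC th c * (R.SD th d d1 * (R.PE th e * (R.SF th f f1 * (R.PG th g * R.SH th h h1)))))

/-- normal form without the last class -/
def NF1 (a b b1 c d d1 e f f1 g : K) : Γ :=
  R.PA th a * (R.SB th b b1 * (R.PC th c * (R.SD th d d1 * (R.PE th e * (R.SF th f f1 * R.PG th g)))))

/-- ordered product of root elements -/
def RNF (x33 x24 x34 x26 x36 x42 x38 x43 x29 x41 x44 x47 x39 x45 x35 x31 x40 x46 x37 x32 x27 x25 x28 x30 : K) : Γ :=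
  R.X33 x33 * (R.X24 x24 * (R.X34 x34 * (R.X26 x26 * (R.X36 x36 * (R.X42 x42 * (R.X38 x38 * (R.X43 x43 * (R.X29 x29 * (R.X41 x41 * (R.X44 x44 * (R.X47 x47 * (R.X39 x39 * (R.X45 x45 * (R.X35 x35 * (R.X31 x31 * (R.X40 x40 * (R.X46 x46 * (R.X37 x37 * (R.X32 x32 * (R.X27 x27 * (R.X25 x25 * (R.X28 x28 * (R.X30 x30)))))))))))))))))))))))

/-- ordered product of root elements -/
def RNF7 (x34 x26 x36 x42 x38 x43 x29 x41 x44 x47 x39 x45 x35 x31 x40 x46 x37 x32 x27 x25 x28 x30 : K) : Γ :=
  R.X34 x34 * (R.X26 x26 * (R.X36 x36 * (R.X42 x42 * (R.X38 x38 * (R.X43 x43 * (R.X29 x29 * (R.X41 x41 * (R.X44 x44 * (R.X47 x47 * (R.X39 x39 * (R.X45 x45 * (R.X35 x35 * (R.X31 x31 * (R.X40 x40 * (R.X46 x46 * (R.X37 x37 * (R.X32 x32 * (R.X27 x27 * (R.X25 x25 * (R.X28 x28 * (R.X30 x30)))))))))))))))))))))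

/-- ordered product of root elements -/
def RNF1 (x33 x24 x34 x26 x36 x42 x38 x43 x29 x41 x44 x47 x39 x45 x35 x31 x40 x46 x37 x32 : K) : Γ :=
  R.X33 x33 * (R.X24 x24 * (R.X34 x34 * (R.X26 x26 * (R.X36 x36 * (R.X42 x42 * (R.X38 x38 * (R.X43 x43 * (R.X29 x29 * (R.X41 x41 * (R.X44 x44 * (R.X47 x47 * (R.X39 x39 * (R.X45 x45 * (R.X35 x35 * (R.X31 x31 * (R.X40 x40 * (R.X46 x46 * (R.X37 x37 * (R.X32 x32)))))))))))))))))))

end RelF4

end Cfsg.Agent.Helper4.F4Inv
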