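import Cfsg.Agent.Helper4.F4Inv.Red
import Cfsg.Agent.Helper4.F4Inv.UCjA
import Cfsg.Agent.Helper4.F4Inv.UCjB
import Cfsg.Agent.Helper4.F4Inv.UCjC
import Cfsg.Agent.Helper4.F4Inv.USq
import Cfsg.Agent.Helper4.F4Inv.UW1
import Cfsg.Agent.Helper4.F4Inv.UW2
import Cfsg.Agent.Helper4.F4Inv.UW3
import Cfsg.Agent.Helper4.F4Inv.UW4

/-!
# Involutions of the unipotent subgroup of `F₄` in characteristic two (abstract data)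

`WeylF4 R`: four elements `n1, …, n4` acting on the root maps of `R : RelF4 K Γ` as the fundamental
reflections of `F₄` (fundamental roots `33, 27, 25, 24`).  `UData R`: in addition a subgroup `H`
containing them and some root elements, uniqueness of the ordered products, square roots in `K` and
two families of torus elements.  `UP D u` says that if `u` is an involution then it is
`H`-conjugate to one of the four representatives.  (Partly generated.)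
-/

set_option autoImplicit false
set_option maxHeartbeats 1000000
set_option linter.unusedSimpArgs false
set_option linter.unusedVariables false
set_option linter.unusedSectionVars false

namespace Cfsg.Agent.Helper4.F4Inv

variable {K Γ : Type*} [Field K] [Group Γ]

/-- four elements acting on the root maps as the fundamental reflections of `F₄` -/
structure WeylF4 (R : RelF4 K Γ) where
  n1 : Γ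
  n1_24 : ∀ t, n1 * R.X24 t * n1⁻¹ = R.X24 t
  n1_34 : ∀ t, n1 * R.X34 t * n1⁻¹ = R.X27 t
  n1_26 : ∀ t, n1 * R.X26 t * n1⁻¹ = R.X26 t
  n1_36 : ∀ t, n1 * R.X36 t * n1⁻¹ = R.X29 t
  n1_42 : ∀ t, n1 * R.X42 t * n1⁻¹ = R.X31 t
  n1_38 : ∀ t, n1 * R.X38 t * n1⁻¹ = R.X38 t
  n1_43 : ∀ t, n1 * R.X43 t * n1⁻¹ = R.X32 t
  n1_29 : ∀ t, n1 * R.X29 t * n1⁻¹ = R.X36 t
  n1_41 : ∀ t, n1 * R.X41 t * n1⁻¹ = R.X30 t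
  n1_44 : ∀ t, n1 * R.X44 t * n1⁻¹ = R.X40 t
  n1_47 : ∀ t, n1 * R.X47 t * n1⁻¹ = R.X47 t
  n1_39 : ∀ t, n1 * R.X39 t * n1⁻¹ = R.X39 t
  n1_45 : ∀ t, n1 * R.X45 t * n1⁻¹ = R.X45 t
  n1_35 : ∀ t, n1 * R.X35 t * n1⁻¹ = R.X28 t
  n1_31 : ∀ t, n1 * R.X31 t * n1⁻¹ = R.X42 t
  n1_40 : ∀ t, n1 * R.X40 t * n1⁻¹ = R.X44 t
  n1_46 : ∀ t, n1 * R.X46 t * n1⁻¹ = R.X46 t
  n1_37 : ∀ t, n1 * R.X37 t * n1⁻¹ = R.X37 t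
  n1_32 : ∀ t, n1 * R.X32 t * n1⁻¹ = R.X43 t
  n1_27 : ∀ t, n1 * R.X27 t * n1⁻¹ = R.X34 t
  n1_25 : ∀ t, n1 * R.X25 t * n1⁻¹ = R.X25 t
  n1_28 : ∀ t, n1 * R.X28 t * n1⁻¹ = R.X35 t
  n1_30 : ∀ t, n1 * R.X30 t * n1⁻¹ = R.X41 t
  n2 : Γ
  n2_33 : ∀ t, n2 * R.X33 t * n2⁻¹ = R.X34 t
  n2_24 : ∀ t, n2 * R.X24 t * n2⁻¹ = R.X24 t
  n2_34 : ∀ t, n2 * R.X34 t * n2⁻¹ = R.X33 t
  n2_26 : ∀ t, n2 * R.X26 t * n2⁻¹ = R.X31 t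
  n2_36 : ∀ t, n2 * R.X36 t * n2⁻¹ = R.X38 t
  n2_42 : ∀ t, n2 * R.X42 t * n2⁻¹ = R.X42 t
  n2_38 : ∀ t, n2 * R.X38 t * n2⁻¹ = R.X36 t
  n2_43 : ∀ t, n2 * R.X43 t * n2⁻¹ = R.X45 t
  n2_29 : ∀ t, n2 * R.X29 t * n2⁻¹ = R.X29 t
  n2_41 : ∀ t, n2 * R.X41 t * n2⁻¹ = R.X41 t
  n2_44 : ∀ t, n2 * R.X44 t * n2⁻¹ = R.X44 t
  n2_47 : ∀ t, n2 * R.X47 t * n2⁻¹ = R.X47 t
  n2_39 : ∀ t, n2 * R.X39 t * n2⁻¹ = R.X40 t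
  n2_45 : ∀ t, n2 * R.X45 t * n2⁻¹ = R.X43 t
  n2_35 : ∀ t, n2 * R.X35 t * n2⁻¹ = R.X37 t
  n2_31 : ∀ t, n2 * R.X31 t * n2⁻¹ = R.X26 t
  n2_40 : ∀ t, n2 * R.X40 t * n2⁻¹ = R.X39 t
  n2_46 : ∀ t, n2 * R.X46 t * n2⁻¹ = R.X46 t
  n2_37 : ∀ t, n2 * R.X37 t * n2⁻¹ = R.X35 t
  n2_32 : ∀ t, n2 * R.X32 t * n2⁻¹ = R.X32 t
  n2_25 : ∀ t, n2 * R.X25 t * n2⁻¹ = R.X30 t
  n2_28 : ∀ t, n2 * R.X28 t * n2⁻¹ = R.X28 t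
  n2_30 : ∀ t, n2 * R.X30 t * n2⁻¹ = R.X25 t
  n3 : Γ
  n3_33 : ∀ t, n3 * R.X33 t * n3⁻¹ = R.X33 t
  n3_24 : ∀ t, n3 * R.X24 t * n3⁻¹ = R.X26 t
  n3_34 : ∀ t, n3 * R.X34 t * n3⁻¹ = R.X35 t
  n3_26 : ∀ t, n3 * R.X26 t * n3⁻¹ = R.X24 t
  n3_36 : ∀ t, n3 * R.X36 t * n3⁻¹ = R.X36 t
  n3_42 : ∀ t, n3 * R.X42 t * n3⁻¹ = R.X43 t
  n3_38 : ∀ t, n3 * R.X38 t * n3⁻¹ = R.X39 t
  n3_43 : ∀ t, n3 * R.X43 t * n3⁻¹ = R.X42 t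
  n3_29 : ∀ t, n3 * R.X29 t * n3⁻¹ = R.X29 t
  n3_41 : ∀ t, n3 * R.X41 t * n3⁻¹ = R.X41 t
  n3_44 : ∀ t, n3 * R.X44 t * n3⁻¹ = R.X44 t
  n3_47 : ∀ t, n3 * R.X47 t * n3⁻¹ = R.X47 t
  n3_39 : ∀ t, n3 * R.X39 t * n3⁻¹ = R.X38 t
  n3_45 : ∀ t, n3 * R.X45 t * n3⁻¹ = R.X46 t
  n3_35 : ∀ t, n3 * R.X35 t * n3⁻¹ = R.X34 t
  n3_31 : ∀ t, n3 * R.X31 t * n3⁻¹ = R.X32 t
  n3_40 : ∀ t, n3 * R.X40 t * n3⁻¹ = R.X40 t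
  n3_46 : ∀ t, n3 * R.X46 t * n3⁻¹ = R.X45 t
  n3_37 : ∀ t, n3 * R.X37 t * n3⁻¹ = R.X37 t
  n3_32 : ∀ t, n3 * R.X32 t * n3⁻¹ = R.X31 t
  n3_27 : ∀ t, n3 * R.X27 t * n3⁻¹ = R.X28 t
  n3_28 : ∀ t, n3 * R.X28 t * n3⁻¹ = R.X27 t
  n3_30 : ∀ t, n3 * R.X30 t * n3⁻¹ = R.X30 t
  n4 : Γ
  n4_33 : ∀ t, n4 * R.X33 t * n4⁻¹ = R.X33 t
  n4_34 : ∀ t, n4 * R.X34 t * n4⁻¹ = R.X34 t
  n4_26 : ∀ t, n4 * R.X26 t * n4⁻¹ = R.X25 t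
  n4_36 : ∀ t, n4 * R.X36 t * n4⁻¹ = R.X35 t
  n4_42 : ∀ t, n4 * R.X42 t * n4⁻¹ = R.X41 t
  n4_38 : ∀ t, n4 * R.X38 t * n4⁻¹ = R.X37 t
  n4_43 : ∀ t, n4 * R.X43 t * n4⁻¹ = R.X43 t
  n4_29 : ∀ t, n4 * R.X29 t * n4⁻¹ = R.X28 t
  n4_41 : ∀ t, n4 * R.X41 t * n4⁻¹ = R.X42 t
  n4_44 : ∀ t, n4 * R.X44 t * n4⁻¹ = R.X44 t
  n4_47 : ∀ t, n4 * R.X47 t * n4⁻¹ = R.X46 t
  n4_39 : ∀ t, n4 * R.X39 t * n4⁻¹ = R.X39 t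
  n4_45 : ∀ t, n4 * R.X45 t * n4⁻¹ = R.X45 t
  n4_35 : ∀ t, n4 * R.X35 t * n4⁻¹ = R.X36 t
  n4_31 : ∀ t, n4 * R.X31 t * n4⁻¹ = R.X30 t
  n4_40 : ∀ t, n4 * R.X40 t * n4⁻¹ = R.X40 t
  n4_46 : ∀ t, n4 * R.X46 t * n4⁻¹ = R.X47 t
  n4_37 : ∀ t, n4 * R.X37 t * n4⁻¹ = R.X38 t
  n4_32 : ∀ t, n4 * R.X32 t * n4⁻¹ = R.X32 t
  n4_27 : ∀ t, n4 * R.X27 t * n4⁻¹ = R.X27 t
  n4_25 : ∀ t, n4 * R.X25 t * n4⁻¹ = R.X26 t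
  n4_28 : ∀ t, n4 * R.X28 t * n4⁻¹ = R.X29 t
  n4_30 : ∀ t, n4 * R.X30 t * n4⁻¹ = R.X31 t

/-- the data for the reduction of involutions -/
structure UData (R : RelF4 K Γ) extends WeylF4 R where
  H : Subgroup Γ
  n1_mem : n1 ∈ H
  n2_mem : n2 ∈ H
  n3_mem : n3 ∈ H
  n4_mem : n4 ∈ H
  xmem24 : ∀ t, R.X24 t ∈ H
  xmem25 : ∀ t, R.X25 t ∈ H
  xmem26 : ∀ t, R.X26 t ∈ H
  xmem27 : ∀ t, R.X27 t ∈ H
  xmem30 : ∀ t, R.X30 t ∈ H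
  xmem31 : ∀ t, R.X31 t ∈ H
  xmem33 : ∀ t, R.X33 t ∈ H
  inj : ∀ t33 t24 t34 t26 t36 t42 t38 t43 t29 t41 t44 t47 t39 t45 t35 t31 t40 t46 t37 t32 t27 t25 t28 t30 : K, R.RNF t33 t24 t34 t26 t36 t42 t38 t43 t29 t41 t44 t47 t39 t45 t35 t31 t40 t46 t37 t32 t27 t25 t28 t30 = 1 →
    t33 = 0 ∧ t24 = 0 ∧ t34 = 0 ∧ t26 = 0 ∧ t36 = 0 ∧ t42 = 0 ∧ t38 = 0 ∧ t43 = 0 ∧ t29 = 0 ∧ t41 = 0 ∧ t44 = 0 ∧ t47 = 0 ∧ t39 = 0 ∧ t45 = 0 ∧ t35 = 0 ∧ t31 = 0 ∧ t40 = 0 ∧ t46 = 0 ∧ t37 = 0 ∧ t32 = 0 ∧ t27 = 0 ∧ t25 = 0 ∧ t28 = 0 ∧ t30 = 0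
  sqrt : ∀ y : K, ∃ x : K, x ^ 2 = y
  torLS : ∀ a b : K, a ≠ 0 → b ≠ 0 → ∃ h ∈ H, (∀ t, h * R.X47 t * h⁻¹ = R.X47 (a * t)) ∧
    (∀ t, h * R.X44 t * h⁻¹ = R.X44 (b * t))
  torV : ∀ a b : K, a ≠ 0 → b ≠ 0 → ∃ h ∈ H, (∀ t, h * R.X39 t * h⁻¹ = R.X39 (a * t)) ∧
    (∀ t, h * R.X45 t * h⁻¹ = R.X45 (b * t))

variable {R : RelF4 K Γ}

/-- conjugate in `H` to one of the four representatives -/
def Good (D : UData R) (u : Γ) : Prop :=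
  ConjIn D.H u (R.X47 1) ∨ ConjIn D.H u (R.X44 1) ∨ ConjIn D.H u (R.X47 1 * R.X44 1) ∨
    ConjIn D.H u (R.X39 1 * R.X45 1)

/-- an involution is conjugate to one of the four representatives -/
def UP (D : UData R) (u : Γ) : Prop := u * u = 1 → u ≠ 1 → Good D u

theorem Good_of_conj (D : UData R) {u u' : Γ} (h : ConjIn D.H u u') (hg : Good D u') : Good D u := by
  rcases hg with h1 | h1 | h1 | h1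
  · exact Or.inl (h.trans h1)
  · exact Or.inr (Or.inl (h.trans h1))
  · exact Or.inr (Or.inr (Or.inl (h.trans h1)))
  · exact Or.inr (Or.inr (Or.inr (h.trans h1)))

theorem UP_conj (D : UData R) {u u' : Γ} (h : ConjIn D.H u u') (hp : UP D u') : UP D u := by
  intro hu hne
  obtain ⟨g, hg, rfl⟩ := h
  refine Good_of_conj D ⟨g, hg, rfl⟩ (hp ?_ ?_)
  · calc g * u * g⁻¹ * (g * u * g⁻¹) = g * (u * u) * g⁻¹ := by group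
      _ = 1 := by rw [hu]; group
  · intro h1
    apply hne
    calc u = g⁻¹ * (g * u * g⁻¹) * g := by group
      _ = 1 := by rw [h1]; group

theorem UP_step (D : UData R) {n x u u' : Γ} (hn : n ∈ D.H) (hx : x ∈ D.H) (hxi : x⁻¹ = x)
    (h : n * (x * u * x) * n⁻¹ = u') (hp : UP D u') : UP D u := by
  refine UP_conj D ⟨n * x, D.H.mul_mem hn hx, ?_⟩ hp
  rw [← h, mul_inv_rev, hxi]; group

theorem UP_cj (D : UData R) {x u u' : Γ} (hx : x ∈ D.H) (hxi : x⁻¹ = x)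
    (h : x * u * x = u') (hp : UP D u') : UP D u := by
  refine UP_conj D ⟨x, hx, ?_⟩ hp
  rw [hxi, h]

theorem UP_n (D : UData R) {n u u' : Γ} (hn : n ∈ D.H)
    (h : n * u * n⁻¹ = u') (hp : UP D u') : UP D u :=
  UP_conj D ⟨n, hn, h⟩ hp

namespace WeylF4

section char2

variable [CharP K 2] (W : WeylF4 R)

theorem conj_n1 (t24 t34 t26 t36 t42 t38 t43 t29 t41 t44 t47 t39 t45 t35 t31 t40 t46 t37 t32 t27 t25 t28 t30 : K) :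
    W.n1 * R.RNF 0 t24 t34 t26 t36 t42 t38 t43 t29 t41 t44 t47 t39 t45 t35 t31 t40 t46 t37 t32 t27 t25 t28 t30 * W.n1⁻¹ =
      R.RNF (0) (t24) (t27) (t26) (t26 * t27 + t29) (t26 * t27 ^ 2 + t31) (t26 * t27 * t34 + t27 * t36 + t29 * t34 + t38) (t32) (t26 * t34 + t36) (t30) (t27 * t39 + t31 * t35 + t32 * t34 + t40) (t26 * t32 * t34 ^ 2 + t31 * t43 + t32 * t42 + t47) (t39) (t26 * t30 * t34 ^ 2 + t27 ^ 2 * t43 + t30 * t42 + t31 * t41 + t32 * t34 ^ 2 + t45) (t28) (t26 * t34 ^ 2 + t42) (t26 * t28 * t34 ^ 2 + t27 * t43 + t28 * t42 + t34 * t39 + t44) (t26 * t28 ^ 2 * t34 ^ 2 + t28 ^ 2 * t42 + t30 * t43 + t31 * t35 ^ 2 + t32 * t41 + t46) (t27 * t35 + t28 * t34 + t37) (t43) (t34) (t25) (t35) (t41) := by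
  rw [← R.uw1]
  unfold RelF4.RNF
  simp only [R.zero33, one_mul]
  simp only [conj_mul']
  simp only [W.n1_24, W.n1_34, W.n1_26, W.n1_36, W.n1_42, W.n1_38, W.n1_43, W.n1_29, W.n1_41, W.n1_44, W.n1_47, W.n1_39, W.n1_45, W.n1_35, W.n1_31, W.n1_40, W.n1_46, W.n1_37, W.n1_32, W.n1_27, W.n1_25, W.n1_28, W.n1_30]

theorem conj_n2 (t33 t24 t34 t26 t36 t42 t38 t43 t29 t41 t44 t47 t39 t45 t35 t31 t40 t46 t37 t32 t25 t28 t30 : K) :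
    W.n2 * R.RNF t33 t24 t34 t26 t36 t42 t38 t43 t29 t41 t44 t47 t39 t45 t35 t31 t40 t46 t37 t32 0 t25 t28 t30 * W.n2⁻¹ =
      R.RNF (t34) (t24) (t33) (t31) (t38) (t42) (t36) (t31 * t41 + t45) (t29) (t41) (t44) (t26 * t31 * t41 + t26 * t45 + t31 * t43 + t47) (t31 * t35 + t40) (t26 * t41 + t43) (t37) (t26) (t26 * t37 + t39) (t26 * t37 ^ 2 + t31 * t35 ^ 2 + t46) (t35) (t32) (0) (t30) (t28) (t25) := by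
  rw [← R.uw2]
  unfold RelF4.RNF
  simp only [R.zero27, one_mul]
  simp only [conj_mul']
  simp only [W.n2_33, W.n2_24, W.n2_34, W.n2_26, W.n2_36, W.n2_42, W.n2_38, W.n2_43, W.n2_29, W.n2_41, W.n2_44, W.n2_47, W.n2_39, W.n2_45, W.n2_35, W.n2_31, W.n2_40, W.n2_46, W.n2_37, W.n2_32, W.n2_25, W.n2_28, W.n2_30]

theorem conj_n3 (t33 t24 t34 t26 t36 t42 t38 t43 t29 t41 t44 t47 t39 t45 t35 t31 t40 t46 t37 t32 t27 t28 t30 : K) :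
    W.n3 * R.RNF t33 t24 t34 t26 t36 t42 t38 t43 t29 t41 t44 t47 t39 t45 t35 t31 t40 t46 t37 t32 t27 0 t28 t30 * W.n3⁻¹ =
      R.RNF (t33) (t26) (t35) (t24) (t24 * t35 + t26 * t34 + t36) (t24 * t35 ^ 2 + t43) (t29 * t35 + t39) (t26 * t34 ^ 2 + t42) (t29) (t41) (t29 * t34 * t35 + t34 * t39 + t35 * t38 + t44) (t47) (t29 * t34 + t38) (t46) (t34) (t32) (t40) (t45) (t37) (t31) (t28) (0) (t27) (t30) := by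
  rw [← R.uw3]
  unfold RelF4.RNF
  simp only [R.zero25, one_mul]
  simp only [conj_mul']
  simp only [W.n3_33, W.n3_24, W.n3_34, W.n3_26, W.n3_36, W.n3_42, W.n3_38, W.n3_43, W.n3_29, W.n3_41, W.n3_44, W.n3_47, W.n3_39, W.n3_45, W.n3_35, W.n3_31, W.n3_40, W.n3_46, W.n3_37, W.n3_32, W.n3_27, W.n3_28, W.n3_30]

theorem conj_n4 (t33 t34 t26 t36 t42 t38 t43 t29 t41 t44 t47 t39 t45 t35 t31 t40 t46 t37 t32 t27 t25 t28 t30 : K) :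
    W.n4 * R.RNF t33 0 t34 t26 t36 t42 t38 t43 t29 t41 t44 t47 t39 t45 t35 t31 t40 t46 t37 t32 t27 t25 t28 t30 * W.n4⁻¹ =
      R.RNF (t33) (0) (t34) (t25) (t35) (t41) (t37) (t25 * t42 + t26 * t41 + t43) (t25 * t27 + t28) (t42) (t25 * t27 * t42 + t28 * t42 + t29 * t41 + t35 * t38 + t36 * t37 + t44) (t25 * t45 + t25 ^ 2 * t27 ^ 2 * t42 + t26 * t37 ^ 2 + t28 ^ 2 * t42 + t46) (t25 * t27 * t36 + t25 * t38 + t26 * t37 + t28 * t36 + t29 * t35 + t39) (t45) (t36) (t25 * t27 ^ 2 + t30) (t25 * t27 * t38 + t28 * t38 + t29 * t37 + t40) (t25 * t38 ^ 2 + t26 * t45 + t29 ^ 2 * t41 + t47) (t38) (t25 * t26 * t27 ^ 2 + t25 * t31 + t26 * t30 + t32) (t27) (t26) (t26 * t27 + t29) (t26 * t27 ^ 2 + t31) := by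
  rw [← R.uw4]
  unfold RelF4.RNF
  simp only [R.zero24, one_mul]
  simp only [conj_mul']
  simp only [W.n4_33, W.n4_34, W.n4_26, W.n4_36, W.n4_42, W.n4_38, W.n4_43, W.n4_29, W.n4_41, W.n4_44, W.n4_47, W.n4_39, W.n4_45, W.n4_35, W.n4_31, W.n4_40, W.n4_46, W.n4_37, W.n4_32, W.n4_27, W.n4_25, W.n4_28, W.n4_30]

end char2

end WeylF4

end Cfsg.Agent.Helper4.F4Inv
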