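import Cfsg.Agent.Helper4.F4Inv.ULmA
import Cfsg.Agent.Helper4.F4Inv.ULmB
import Cfsg.Agent.Helper4.F4Inv.ULmC
import Cfsg.Agent.Helper4.F4Inv.ULmD

/-! Generated: the set of ordered products of root elements of `F₄` (characteristic two) is closed
under left multiplication by root elements. -/

set_option autoImplicit false
set_option linter.unusedSimpArgs false
set_option linter.unusedVariables false
set_option linter.unusedSectionVars false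

namespace Cfsg.Agent.Helper4.F4Inv

variable {K Γ : Type*} [Field K] [Group Γ] (R : RelF4 K Γ)

/-- the set of ordered products of root elements -/
def rnfSet : Set Γ :=
  {y | ∃ t33 t24 t34 t26 t36 t42 t38 t43 t29 t41 t44 t47 t39 t45 t35 t31 t40 t46 t37 t32 t27 t25 t28 t30 : K, y = R.RNF t33 t24 t34 t26 t36 t42 t38 t43 t29 t41 t44 t47 t39 t45 t35 t31 t40 t46 t37 t32 t27 t25 t28 t30}

variable {R}

theorem rnfSet_one : 1 ∈ rnfSet R := by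
  refine ⟨0, 0, 0, 0, 0, 0, 0, 0, 0, 0, 0, 0, 0, 0, 0, 0, 0, 0, 0, 0, 0, 0, 0, 0, ?_⟩
  unfold RelF4.RNF
  simp only [R.zero33, R.zero24, R.zero34, R.zero26, R.zero36, R.zero42, R.zero38, R.zero43, R.zero29, R.zero41, R.zero44, R.zero47, R.zero39, R.zero45, R.zero35, R.zero31, R.zero40, R.zero46, R.zero37, R.zero32, R.zero27, R.zero25, R.zero28, R.zero30, mul_one]

variable [CharP K 2]

theorem rnfSet_lm33 {y : Γ} (hy : y ∈ rnfSet R) (c : K) : R.X33 c * y ∈ rnfSet R := by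
  obtain ⟨t33, t24, t34, t26, t36, t42, t38, t43, t29, t41, t44, t47, t39, t45, t35, t31, t40, t46, t37, t32, t27, t25, t28, t30, rfl⟩ := hy
  exact ⟨_, _, _, _, _, _, _, _, _, _, _, _, _, _, _, _, _, _, _, _, _, _, _, _, R.ulm33 t33 t24 t34 t26 t36 t42 t38 t43 t29 t41 t44 t47 t39 t45 t35 t31 t40 t46 t37 t32 t27 t25 t28 t30 c⟩

theorem rnfSet_lm24 {y : Γ} (hy : y ∈ rnfSet R) (c : K) : R.X24 c * y ∈ rnfSet R := by
  obtain ⟨t33, t24, t34, t26, t36, t42, t38, t43, t29, t41, t44, t47, t39, t45, t35, t31, t40, t46, t37, t32, t27, t25, t28, t30, rfl⟩ := hy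
  exact ⟨_, _, _, _, _, _, _, _, _, _, _, _, _, _, _, _, _, _, _, _, _, _, _, _, R.ulm24 t33 t24 t34 t26 t36 t42 t38 t43 t29 t41 t44 t47 t39 t45 t35 t31 t40 t46 t37 t32 t27 t25 t28 t30 c⟩

theorem rnfSet_lm34 {y : Γ} (hy : y ∈ rnfSet R) (c : K) : R.X34 c * y ∈ rnfSet R := by
  obtain ⟨t33, t24, t34, t26, t36, t42, t38, t43, t29, t41, t44, t47, t39, t45, t35, t31, t40, t46, t37, t32, t27, t25, t28, t30, rfl⟩ := hy
  exact ⟨_, _, _, _, _, _, _, _, _, _, _, _, _, _, _, _, _, _, _, _, _, _, _, _, R.ulm34 t33 t24 t34 t26 t36 t42 t38 t43 t29 t41 t44 t47 t39 t45 t35 t31 t40 t46 t37 t32 t27 t25 t28 t30 c⟩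

theorem rnfSet_lm26 {y : Γ} (hy : y ∈ rnfSet R) (c : K) : R.X26 c * y ∈ rnfSet R := by
  obtain ⟨t33, t24, t34, t26, t36, t42, t38, t43, t29, t41, t44, t47, t39, t45, t35, t31, t40, t46, t37, t32, t27, t25, t28, t30, rfl⟩ := hy
  exact ⟨_, _, _, _, _, _, _, _, _, _, _, _, _, _, _, _, _, _, _, _, _, _, _, _, R.ulm26 t33 t24 t34 t26 t36 t42 t38 t43 t29 t41 t44 t47 t39 t45 t35 t31 t40 t46 t37 t32 t27 t25 t28 t30 c⟩

theorem rnfSet_lm36 {y : Γ} (hy : y ∈ rnfSet R) (c : K) : R.X36 c * y ∈ rnfSet R := by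
  obtain ⟨t33, t24, t34, t26, t36, t42, t38, t43, t29, t41, t44, t47, t39, t45, t35, t31, t40, t46, t37, t32, t27, t25, t28, t30, rfl⟩ := hy
  exact ⟨_, _, _, _, _, _, _, _, _, _, _, _, _, _, _, _, _, _, _, _, _, _, _, _, R.ulm36 t33 t24 t34 t26 t36 t42 t38 t43 t29 t41 t44 t47 t39 t45 t35 t31 t40 t46 t37 t32 t27 t25 t28 t30 c⟩

theorem rnfSet_lm42 {y : Γ} (hy : y ∈ rnfSet R) (c : K) : R.X42 c * y ∈ rnfSet R := by
  obtain ⟨t33, t24, t34, t26, t36, t42, t38, t43, t29, t41, t44, t47, t39, t45, t35, t31, t40, t46, t37, t32, t27, t25, t28, t30, rfl⟩ := hy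
  exact ⟨_, _, _, _, _, _, _, _, _, _, _, _, _, _, _, _, _, _, _, _, _, _, _, _, R.ulm42 t33 t24 t34 t26 t36 t42 t38 t43 t29 t41 t44 t47 t39 t45 t35 t31 t40 t46 t37 t32 t27 t25 t28 t30 c⟩

theorem rnfSet_lm38 {y : Γ} (hy : y ∈ rnfSet R) (c : K) : R.X38 c * y ∈ rnfSet R := by
  obtain ⟨t33, t24, t34, t26, t36, t42, t38, t43, t29, t41, t44, t47, t39, t45, t35, t31, t40, t46, t37, t32, t27, t25, t28, t30, rfl⟩ := hy
  exact ⟨_, _, _, _, _, _, _, _, _, _, _, _, _, _, _, _, _, _, _, _, _, _, _, _, R.ulm38 t33 t24 t34 t26 t36 t42 t38 t43 t29 t41 t44 t47 t39 t45 t35 t31 t40 t46 t37 t32 t27 t25 t28 t30 c⟩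

theorem rnfSet_lm43 {y : Γ} (hy : y ∈ rnfSet R) (c : K) : R.X43 c * y ∈ rnfSet R := by
  obtain ⟨t33, t24, t34, t26, t36, t42, t38, t43, t29, t41, t44, t47, t39, t45, t35, t31, t40, t46, t37, t32, t27, t25, t28, t30, rfl⟩ := hy
  exact ⟨_, _, _, _, _, _, _, _, _, _, _, _, _, _, _, _, _, _, _, _, _, _, _, _, R.ulm43 t33 t24 t34 t26 t36 t42 t38 t43 t29 t41 t44 t47 t39 t45 t35 t31 t40 t46 t37 t32 t27 t25 t28 t30 c⟩

theorem rnfSet_lm29 {y : Γ} (hy : y ∈ rnfSet R) (c : K) : R.X29 c * y ∈ rnfSet R := by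
  obtain ⟨t33, t24, t34, t26, t36, t42, t38, t43, t29, t41, t44, t47, t39, t45, t35, t31, t40, t46, t37, t32, t27, t25, t28, t30, rfl⟩ := hy
  exact ⟨_, _, _, _, _, _, _, _, _, _, _, _, _, _, _, _, _, _, _, _, _, _, _, _, R.ulm29 t33 t24 t34 t26 t36 t42 t38 t43 t29 t41 t44 t47 t39 t45 t35 t31 t40 t46 t37 t32 t27 t25 t28 t30 c⟩

theorem rnfSet_lm41 {y : Γ} (hy : y ∈ rnfSet R) (c : K) : R.X41 c * y ∈ rnfSet R := by
  obtain ⟨t33, t24, t34, t26, t36, t42, t38, t43, t29, t41, t44, t47, t39, t45, t35, t31, t40, t46, t37, t32, t27, t25, t28, t30, rfl⟩ := hy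
  exact ⟨_, _, _, _, _, _, _, _, _, _, _, _, _, _, _, _, _, _, _, _, _, _, _, _, R.ulm41 t33 t24 t34 t26 t36 t42 t38 t43 t29 t41 t44 t47 t39 t45 t35 t31 t40 t46 t37 t32 t27 t25 t28 t30 c⟩

theorem rnfSet_lm44 {y : Γ} (hy : y ∈ rnfSet R) (c : K) : R.X44 c * y ∈ rnfSet R := by
  obtain ⟨t33, t24, t34, t26, t36, t42, t38, t43, t29, t41, t44, t47, t39, t45, t35, t31, t40, t46, t37, t32, t27, t25, t28, t30, rfl⟩ := hy
  exact ⟨_, _, _, _, _, _, _, _, _, _, _, _, _, _, _, _, _, _, _, _, _, _, _, _, R.ulm44 t33 t24 t34 t26 t36 t42 t38 t43 t29 t41 t44 t47 t39 t45 t35 t31 t40 t46 t37 t32 t27 t25 t28 t30 c⟩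

theorem rnfSet_lm47 {y : Γ} (hy : y ∈ rnfSet R) (c : K) : R.X47 c * y ∈ rnfSet R := by
  obtain ⟨t33, t24, t34, t26, t36, t42, t38, t43, t29, t41, t44, t47, t39, t45, t35, t31, t40, t46, t37, t32, t27, t25, t28, t30, rfl⟩ := hy
  exact ⟨_, _, _, _, _, _, _, _, _, _, _, _, _, _, _, _, _, _, _, _, _, _, _, _, R.ulm47 t33 t24 t34 t26 t36 t42 t38 t43 t29 t41 t44 t47 t39 t45 t35 t31 t40 t46 t37 t32 t27 t25 t28 t30 c⟩

theorem rnfSet_lm39 {y : Γ} (hy : y ∈ rnfSet R) (c : K) : R.X39 c * y ∈ rnfSet R := by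
  obtain ⟨t33, t24, t34, t26, t36, t42, t38, t43, t29, t41, t44, t47, t39, t45, t35, t31, t40, t46, t37, t32, t27, t25, t28, t30, rfl⟩ := hy
  exact ⟨_, _, _, _, _, _, _, _, _, _, _, _, _, _, _, _, _, _, _, _, _, _, _, _, R.ulm39 t33 t24 t34 t26 t36 t42 t38 t43 t29 t41 t44 t47 t39 t45 t35 t31 t40 t46 t37 t32 t27 t25 t28 t30 c⟩

theorem rnfSet_lm45 {y : Γ} (hy : y ∈ rnfSet R) (c : K) : R.X45 c * y ∈ rnfSet R := by
  obtain ⟨t33, t24, t34, t26, t36, t42, t38, t43, t29, t41, t44, t47, t39, t45, t35, t31, t40, t46, t37, t32, t27, t25, t28, t30, rfl⟩ := hy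
  exact ⟨_, _, _, _, _, _, _, _, _, _, _, _, _, _, _, _, _, _, _, _, _, _, _, _, R.ulm45 t33 t24 t34 t26 t36 t42 t38 t43 t29 t41 t44 t47 t39 t45 t35 t31 t40 t46 t37 t32 t27 t25 t28 t30 c⟩

theorem rnfSet_lm35 {y : Γ} (hy : y ∈ rnfSet R) (c : K) : R.X35 c * y ∈ rnfSet R := by
  obtain ⟨t33, t24, t34, t26, t36, t42, t38, t43, t29, t41, t44, t47, t39, t45, t35, t31, t40, t46, t37, t32, t27, t25, t28, t30, rfl⟩ := hy
  exact ⟨_, _, _, _, _, _, _, _, _, _, _, _, _, _, _, _, _, _, _, _, _, _, _, _, R.ulm35 t33 t24 t34 t26 t36 t42 t38 t43 t29 t41 t44 t47 t39 t45 t35 t31 t40 t46 t37 t32 t27 t25 t28 t30 c⟩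

theorem rnfSet_lm31 {y : Γ} (hy : y ∈ rnfSet R) (c : K) : R.X31 c * y ∈ rnfSet R := by
  obtain ⟨t33, t24, t34, t26, t36, t42, t38, t43, t29, t41, t44, t47, t39, t45, t35, t31, t40, t46, t37, t32, t27, t25, t28, t30, rfl⟩ := hy
  exact ⟨_, _, _, _, _, _, _, _, _, _, _, _, _, _, _, _, _, _, _, _, _, _, _, _, R.ulm31 t33 t24 t34 t26 t36 t42 t38 t43 t29 t41 t44 t47 t39 t45 t35 t31 t40 t46 t37 t32 t27 t25 t28 t30 c⟩

theorem rnfSet_lm40 {y : Γ} (hy : y ∈ rnfSet R) (c : K) : R.X40 c * y ∈ rnfSet R := by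
  obtain ⟨t33, t24, t34, t26, t36, t42, t38, t43, t29, t41, t44, t47, t39, t45, t35, t31, t40, t46, t37, t32, t27, t25, t28, t30, rfl⟩ := hy
  exact ⟨_, _, _, _, _, _, _, _, _, _, _, _, _, _, _, _, _, _, _, _, _, _, _, _, R.ulm40 t33 t24 t34 t26 t36 t42 t38 t43 t29 t41 t44 t47 t39 t45 t35 t31 t40 t46 t37 t32 t27 t25 t28 t30 c⟩

theorem rnfSet_lm46 {y : Γ} (hy : y ∈ rnfSet R) (c : K) : R.X46 c * y ∈ rnfSet R := by
  obtain ⟨t33, t24, t34, t26, t36, t42, t38, t43, t29, t41, t44, t47, t39, t45, t35, t31, t40, t46, t37, t32, t27, t25, t28, t30, rfl⟩ := hy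
  exact ⟨_, _, _, _, _, _, _, _, _, _, _, _, _, _, _, _, _, _, _, _, _, _, _, _, R.ulm46 t33 t24 t34 t26 t36 t42 t38 t43 t29 t41 t44 t47 t39 t45 t35 t31 t40 t46 t37 t32 t27 t25 t28 t30 c⟩

theorem rnfSet_lm37 {y : Γ} (hy : y ∈ rnfSet R) (c : K) : R.X37 c * y ∈ rnfSet R := by
  obtain ⟨t33, t24, t34, t26, t36, t42, t38, t43, t29, t41, t44, t47, t39, t45, t35, t31, t40, t46, t37, t32, t27, t25, t28, t30, rfl⟩ := hy
  exact ⟨_, _, _, _, _, _, _, _, _, _, _, _, _, _, _, _, _, _, _, _, _, _, _, _, R.ulm37 t33 t24 t34 t26 t36 t42 t38 t43 t29 t41 t44 t47 t39 t45 t35 t31 t40 t46 t37 t32 t27 t25 t28 t30 c⟩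

theorem rnfSet_lm32 {y : Γ} (hy : y ∈ rnfSet R) (c : K) : R.X32 c * y ∈ rnfSet R := by
  obtain ⟨t33, t24, t34, t26, t36, t42, t38, t43, t29, t41, t44, t47, t39, t45, t35, t31, t40, t46, t37, t32, t27, t25, t28, t30, rfl⟩ := hy
  exact ⟨_, _, _, _, _, _, _, _, _, _, _, _, _, _, _, _, _, _, _, _, _, _, _, _, R.ulm32 t33 t24 t34 t26 t36 t42 t38 t43 t29 t41 t44 t47 t39 t45 t35 t31 t40 t46 t37 t32 t27 t25 t28 t30 c⟩

theorem rnfSet_lm27 {y : Γ} (hy : y ∈ rnfSet R) (c : K) : R.X27 c * y ∈ rnfSet R := by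
  obtain ⟨t33, t24, t34, t26, t36, t42, t38, t43, t29, t41, t44, t47, t39, t45, t35, t31, t40, t46, t37, t32, t27, t25, t28, t30, rfl⟩ := hy
  exact ⟨_, _, _, _, _, _, _, _, _, _, _, _, _, _, _, _, _, _, _, _, _, _, _, _, R.ulm27 t33 t24 t34 t26 t36 t42 t38 t43 t29 t41 t44 t47 t39 t45 t35 t31 t40 t46 t37 t32 t27 t25 t28 t30 c⟩

theorem rnfSet_lm25 {y : Γ} (hy : y ∈ rnfSet R) (c : K) : R.X25 c * y ∈ rnfSet R := by
  obtain ⟨t33, t24, t34, t26, t36, t42, t38, t43, t29, t41, t44, t47, t39, t45, t35, t31, t40, t46, t37, t32, t27, t25, t28, t30, rfl⟩ := hy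
  exact ⟨_, _, _, _, _, _, _, _, _, _, _, _, _, _, _, _, _, _, _, _, _, _, _, _, R.ulm25 t33 t24 t34 t26 t36 t42 t38 t43 t29 t41 t44 t47 t39 t45 t35 t31 t40 t46 t37 t32 t27 t25 t28 t30 c⟩

theorem rnfSet_lm28 {y : Γ} (hy : y ∈ rnfSet R) (c : K) : R.X28 c * y ∈ rnfSet R := by
  obtain ⟨t33, t24, t34, t26, t36, t42, t38, t43, t29, t41, t44, t47, t39, t45, t35, t31, t40, t46, t37, t32, t27, t25, t28, t30, rfl⟩ := hy
  exact ⟨_, _, _, _, _, _, _, _, _, _, _, _, _, _, _, _, _, _, _, _, _, _, _, _, R.ulm28 t33 t24 t34 t26 t36 t42 t38 t43 t29 t41 t44 t47 t39 t45 t35 t31 t40 t46 t37 t32 t27 t25 t28 t30 c⟩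

theorem rnfSet_lm30 {y : Γ} (hy : y ∈ rnfSet R) (c : K) : R.X30 c * y ∈ rnfSet R := by
  obtain ⟨t33, t24, t34, t26, t36, t42, t38, t43, t29, t41, t44, t47, t39, t45, t35, t31, t40, t46, t37, t32, t27, t25, t28, t30, rfl⟩ := hy
  exact ⟨_, _, _, _, _, _, _, _, _, _, _, _, _, _, _, _, _, _, _, _, _, _, _, _, R.ulm30 t33 t24 t34 t26 t36 t42 t38 t43 t29 t41 t44 t47 t39 t45 t35 t31 t40 t46 t37 t32 t27 t25 t28 t30 c⟩

end Cfsg.Agent.Helper4.F4Inv
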