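import Cfsg.Agent.Helper4.F4Inv.UFin
import Cfsg.Agent.Helper4.F4Inv.ULmE
import Cfsg.Agent.Helper4.F4Inv.ConcRel
import Cfsg.Agent.Helper18.Weyl
import Cfsg.Agent.Helper18.Borel
import Cfsg.Agent.Helper18.BNMain
import Cfsg.Agent.S1027
import Cfsg.Agent.S1031

/-!
# Involutions of `F₄(K)`, `K` of characteristic two: the Weyl and torus elements (concrete data)

The fundamental reflections `n_p(1)` act on the root elements of `F₄(K)` as in `WeylF4`; torus
elements normalise the pairs of root subgroups `(47, 44)` and `(39, 45)` independently; the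
ordered products `RNF` of root elements are exactly the elements of the unipotent subgroup, and
over a finite field the ordered product is injective (by counting).  (Partly generated.)
-/

set_option autoImplicit false
set_option maxRecDepth 100000
set_option maxHeartbeats 1000000
set_option linter.unusedSimpArgs false
set_option linter.unusedVariables false
set_option linter.unusedSectionVars false

namespace Cfsg.Agent.Helper4.F4Inv

open Cfsg Cfsg.Lie Cfsg.Agent.Helper18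

variable {K : Type*} [Field K]

/-- the fundamental reflection `n_{p_{i+1}}(1)` -/
noncomputable def nF4 (K : Type*) [Field K] (i : ℕ) : GL chevF4.Idx K :=
  wordGL chevF4 K (chevF4.nWord (chevF4.simple i) (1 : K))

theorem nF4_mem (i : ℕ) : nF4 K i ∈ chevF4.group K := by
  unfold nF4
  rw [wordGL_nWord']
  exact mul_mem (mul_mem (xGL_mem_group' chevF4 hF4 _ _) (xGL_mem_group' chevF4 hF4 _ _))
    (xGL_mem_group' chevF4 hF4 _ _)

/-- the table of the fundamental reflections on the positive roots -/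
def reflTab : List (ℕ × ℕ × ℕ) :=
  [(0, 24, 24), (0, 34, 27), (0, 26, 26), (0, 36, 29), (0, 42, 31), (0, 38, 38), (0, 43, 32), (0, 29, 36), (0, 41, 30), (0, 44, 40), (0, 47, 47), (0, 39, 39), (0, 45, 45), (0, 35, 28), (0, 31, 42), (0, 40, 44), (0, 46, 46), (0, 37, 37), (0, 32, 43), (0, 27, 34), (0, 25, 25), (0, 28, 35), (0, 30, 41), (1, 33, 34), (1, 24, 24), (1, 34, 33), (1, 26, 31), (1, 36, 38), (1, 42, 42), (1, 38, 36), (1, 43, 45), (1, 29, 29), (1, 41, 41), (1, 44, 44), (1, 47, 47), (1, 39, 40), (1, 45, 43), (1, 35, 37), (1, 31, 26), (1, 40, 39), (1, 46, 46), (1, 37, 35), (1, 32, 32), (1, 25, 30), (1, 28, 28), (1, 30, 25), (2, 33, 33), (2, 24, 26), (2, 34, 35), (2, 26, 24), (2, 36, 36), (2, 42, 43), (2, 38, 39), (2, 43, 42), (2, 29, 29), (2, 41, 41), (2, 44, 44), (2, 47, 47), (2, 39, 38), (2, 45, 46), (2, 35, 34), (2, 31, 32), (2, 40, 40), (2, 46, 45), (2, 37, 37), (2, 32, 31), (2, 27, 28), (2, 28, 27), (2, 30, 30), (3, 33, 33), (3,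 34, 34), (3, 26, 25), (3, 36, 35), (3, 42, 41), (3, 38, 37), (3, 43, 43), (3, 29, 28), (3, 41, 42), (3, 44, 44), (3, 47, 46), (3, 39, 39), (3, 45, 45), (3, 35, 36), (3, 31, 30), (3, 40, 40), (3, 46, 47), (3, 37, 38), (3, 32, 32), (3, 27, 27), (3, 25, 26), (3, 28, 29), (3, 30, 31)]

theorem reflTab_ok : ∀ p ∈ reflTab, chevF4.reflectRoot p.1 p.2.1 = p.2.2 ∧ p.1 < chevF4.rank ∧
    p.2.1 < chevF4.nroots := by decide +kernel

section char2

variable [CharP K 2]

theorem nF4_conj (i s s' : ℕ) (h : (i, s, s') ∈ reflTab) (t : K) :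
    nF4 K i * xGL chevF4 K s t * (nF4 K i)⁻¹ = xGL chevF4 K s' t := by
  obtain ⟨h1, hi, hs⟩ := reflTab_ok _ h
  simp only at h1 hi hs
  obtain ⟨η, hη, hc⟩ := nGL_conj_xGL (F := K) chevF4 hF4
    (fun i s hi hs => Cfsg.Agent.S1031.result (F := K) chevF4 hF4 i s hi hs) i s hi hs
  rw [mul_inv_eq_iff_eq_mul]
  unfold nF4
  rw [hc t, h1, cast_odd η hη, one_mul]

/-- the fundamental reflections of `F₄(K)` -/
noncomputable def weylF4 : WeylF4 (f4Rel (K := K)) where
  n1 := nF4 K 0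
  n1_24 := nF4_conj 0 24 24 (by decide)
  n1_34 := nF4_conj 0 34 27 (by decide)
  n1_26 := nF4_conj 0 26 26 (by decide)
  n1_36 := nF4_conj 0 36 29 (by decide)
  n1_42 := nF4_conj 0 42 31 (by decide)
  n1_38 := nF4_conj 0 38 38 (by decide)
  n1_43 := nF4_conj 0 43 32 (by decide)
  n1_29 := nF4_conj 0 29 36 (by decide)
  n1_41 := nF4_conj 0 41 30 (by decide)
  n1_44 := nF4_conj 0 44 40 (by decide)
  n1_47 := nF4_conj 0 47 47 (by decide)
  n1_39 := nF4_conj 0 39 39 (by decide)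
  n1_45 := nF4_conj 0 45 45 (by decide)
  n1_35 := nF4_conj 0 35 28 (by decide)
  n1_31 := nF4_conj 0 31 42 (by decide)
  n1_40 := nF4_conj 0 40 44 (by decide)
  n1_46 := nF4_conj 0 46 46 (by decide)
  n1_37 := nF4_conj 0 37 37 (by decide)
  n1_32 := nF4_conj 0 32 43 (by decide)
  n1_27 := nF4_conj 0 27 34 (by decide)
  n1_25 := nF4_conj 0 25 25 (by decide)
  n1_28 := nF4_conj 0 28 35 (by decide)
  n1_30 := nF4_conj 0 30 41 (by decide)
  n2 := nF4 K 1
  n2_33 := nF4_conj 1 33 34 (by decide)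
  n2_24 := nF4_conj 1 24 24 (by decide)
  n2_34 := nF4_conj 1 34 33 (by decide)
  n2_26 := nF4_conj 1 26 31 (by decide)
  n2_36 := nF4_conj 1 36 38 (by decide)
  n2_42 := nF4_conj 1 42 42 (by decide)
  n2_38 := nF4_conj 1 38 36 (by decide)
  n2_43 := nF4_conj 1 43 45 (by decide)
  n2_29 := nF4_conj 1 29 29 (by decide)
  n2_41 := nF4_conj 1 41 41 (by decide)
  n2_44 := nF4_conj 1 44 44 (by decide)
  n2_47 := nF4_conj 1 47 47 (by decide)
  n2_39 := nF4_conj 1 39 40 (by decide)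
  n2_45 := nF4_conj 1 45 43 (by decide)
  n2_35 := nF4_conj 1 35 37 (by decide)
  n2_31 := nF4_conj 1 31 26 (by decide)
  n2_40 := nF4_conj 1 40 39 (by decide)
  n2_46 := nF4_conj 1 46 46 (by decide)
  n2_37 := nF4_conj 1 37 35 (by decide)
  n2_32 := nF4_conj 1 32 32 (by decide)
  n2_25 := nF4_conj 1 25 30 (by decide)
  n2_28 := nF4_conj 1 28 28 (by decide)
  n2_30 := nF4_conj 1 30 25 (by decide)
  n3 := nF4 K 2
  n3_33 := nF4_conj 2 33 33 (by decide)
  n3_24 := nF4_conj 2 24 26 (by decide)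
  n3_34 := nF4_conj 2 34 35 (by decide)
  n3_26 := nF4_conj 2 26 24 (by decide)
  n3_36 := nF4_conj 2 36 36 (by decide)
  n3_42 := nF4_conj 2 42 43 (by decide)
  n3_38 := nF4_conj 2 38 39 (by decide)
  n3_43 := nF4_conj 2 43 42 (by decide)
  n3_29 := nF4_conj 2 29 29 (by decide)
  n3_41 := nF4_conj 2 41 41 (by decide)
  n3_44 := nF4_conj 2 44 44 (by decide)
  n3_47 := nF4_conj 2 47 47 (by decide)
  n3_39 := nF4_conj 2 39 38 (by decide)
  n3_45 := nF4_conj 2 45 46 (by decide)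
  n3_35 := nF4_conj 2 35 34 (by decide)
  n3_31 := nF4_conj 2 31 32 (by decide)
  n3_40 := nF4_conj 2 40 40 (by decide)
  n3_46 := nF4_conj 2 46 45 (by decide)
  n3_37 := nF4_conj 2 37 37 (by decide)
  n3_32 := nF4_conj 2 32 31 (by decide)
  n3_27 := nF4_conj 2 27 28 (by decide)
  n3_28 := nF4_conj 2 28 27 (by decide)
  n3_30 := nF4_conj 2 30 30 (by decide)
  n4 := nF4 K 3
  n4_33 := nF4_conj 3 33 33 (by decide)
  n4_34 := nF4_conj 3 34 34 (by decide)
  n4_26 := nF4_conj 3 26 25 (by decide)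
  n4_36 := nF4_conj 3 36 35 (by decide)
  n4_42 := nF4_conj 3 42 41 (by decide)
  n4_38 := nF4_conj 3 38 37 (by decide)
  n4_43 := nF4_conj 3 43 43 (by decide)
  n4_29 := nF4_conj 3 29 28 (by decide)
  n4_41 := nF4_conj 3 41 42 (by decide)
  n4_44 := nF4_conj 3 44 44 (by decide)
  n4_47 := nF4_conj 3 47 46 (by decide)
  n4_39 := nF4_conj 3 39 39 (by decide)
  n4_45 := nF4_conj 3 45 45 (by decide)
  n4_35 := nF4_conj 3 35 36 (by decide)
  n4_31 := nF4_conj 3 31 30 (by decide)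
  n4_40 := nF4_conj 3 40 40 (by decide)
  n4_46 := nF4_conj 3 46 47 (by decide)
  n4_37 := nF4_conj 3 37 38 (by decide)
  n4_32 := nF4_conj 3 32 32 (by decide)
  n4_27 := nF4_conj 3 27 27 (by decide)
  n4_25 := nF4_conj 3 25 26 (by decide)
  n4_28 := nF4_conj 3 28 29 (by decide)
  n4_30 := nF4_conj 3 30 31 (by decide)

end char2

end Cfsg.Agent.Helper4.F4Inv
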