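import Cfsg.Agent.Helper4.F4Inv.UConcA

/-!
# Involutions of `F₄(K)`, `K` finite of characteristic two: reduction to four representatives

The concrete data `uData : UData f4Rel` for the group `F₄(K)`, and the consequence of the abstract
reduction `umain`: every involution of the unipotent subgroup `U` is conjugate in `F₄(K)` to one of
`x₄₇(1)`, `x₄₄(1)`, `x₄₇(1) x₄₄(1)`, `x₃₉(1) x₄₅(1)`.
-/

set_option autoImplicit false
set_option maxRecDepth 100000
set_option maxHeartbeats 1000000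
set_option linter.unusedSimpArgs false
set_option linter.unusedVariables false
set_option linter.unusedSectionVars false

namespace Cfsg.Agent.Helper4.F4Inv

open Cfsg Cfsg.Lie Cfsg.Agent.Helper18

variable {K : Type*} [Field K]

/-! ### torus elements -/

/-- the torus element `h_r(c)` -/
noncomputable def hF4t (K : Type*) [Field K] (r : ℕ) (c : K) : GL chevF4.Idx K :=
  wordGL chevF4 K (chevF4.hWord r c)

theorem hF4t_mem (r : ℕ) (c : K) : hF4t K r c ∈ chevF4.group K := by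
  unfold hF4t wordGL
  apply Subgroup.list_prod_mem
  intro x hx
  simp only [List.mem_map] at hx
  obtain ⟨p, -, rfl⟩ := hx
  exact xGL_mem_group' chevF4 hF4 _ _

theorem hF4t_conj (r : ℕ) (hr : r < 48) (c : K) (hc : c ≠ 0) (s : ℕ) (hs : s < 48) (t : K) :
    hF4t K r c * xGL chevF4 K s t * (hF4t K r c)⁻¹ = xGL chevF4 K s (c ^ pairing' chevF4 r s * t) :=
  (hMat_conj_x chevF4 hF4 _ r hr c hc (hWordGL_val chevF4 hF4 r c) s hs t).1

theorem pair_tab : pairing' chevF4 24 47 = 1 ∧ pairing' chevF4 24 44 = 0 ∧ pairing' chevF4 33 47 = 0 ∧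
    pairing' chevF4 33 44 = 1 ∧ pairing' chevF4 27 39 = -1 ∧ pairing' chevF4 27 45 = 2 ∧
    pairing' chevF4 25 39 = 1 ∧ pairing' chevF4 25 45 = -1 := by decide +kernel

theorem torLS_F4 (a b : K) (ha : a ≠ 0) (hb : b ≠ 0) :
    ∃ h ∈ chevF4.group K, (∀ t, h * xGL chevF4 K 47 t * h⁻¹ = xGL chevF4 K 47 (a * t)) ∧
      (∀ t, h * xGL chevF4 K 44 t * h⁻¹ = xGL chevF4 K 44 (b * t)) := by
  obtain ⟨p1, p2, p3, p4, -⟩ := pair_tab
  refine ⟨hF4t K 24 a * hF4t K 33 b, mul_mem (hF4t_mem _ _) (hF4t_mem _ _), fun t => ?_, fun t => ?_⟩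
  · calc hF4t K 24 a * hF4t K 33 b * xGL chevF4 K 47 t * (hF4t K 24 a * hF4t K 33 b)⁻¹
        = hF4t K 24 a * (hF4t K 33 b * xGL chevF4 K 47 t * (hF4t K 33 b)⁻¹) * (hF4t K 24 a)⁻¹ := by
          group
      _ = xGL chevF4 K 47 (a * t) := by
          rw [hF4t_conj 33 (by norm_num) b hb 47 (by norm_num), hF4t_conj 24 (by norm_num) a ha 47 (by norm_num),
            p1, p3, zpow_zero, zpow_one, one_mul]
  · calc hF4t K 24 a * hF4t K 33 b * xGL chevF4 K 44 t * (hF4t K 24 a * hF4t K 33 b)⁻¹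
        = hF4t K 24 a * (hF4t K 33 b * xGL chevF4 K 44 t * (hF4t K 33 b)⁻¹) * (hF4t K 24 a)⁻¹ := by
          group
      _ = xGL chevF4 K 44 (b * t) := by
          rw [hF4t_conj 33 (by norm_num) b hb 44 (by norm_num), hF4t_conj 24 (by norm_num) a ha 44 (by norm_num),
            p2, p4, zpow_zero, zpow_one, one_mul]

theorem torV_F4 (a b : K) (ha : a ≠ 0) (hb : b ≠ 0) :
    ∃ h ∈ chevF4.group K, (∀ t, h * xGL chevF4 K 39 t * h⁻¹ = xGL chevF4 K 39 (a * t)) ∧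
      (∀ t, h * xGL chevF4 K 45 t * h⁻¹ = xGL chevF4 K 45 (b * t)) := by
  obtain ⟨-, -, -, -, p1, p2, p3, p4⟩ := pair_tab
  have hc : a ^ 2 * b ≠ 0 := mul_ne_zero (pow_ne_zero 2 ha) hb
  have hd : a * b ≠ 0 := mul_ne_zero ha hb
  refine ⟨hF4t K 25 (a ^ 2 * b) * hF4t K 27 (a * b), mul_mem (hF4t_mem _ _) (hF4t_mem _ _),
    fun t => ?_, fun t => ?_⟩
  · calc hF4t K 25 (a ^ 2 * b) * hF4t K 27 (a * b) * xGL chevF4 K 39 t *
          (hF4t K 25 (a ^ 2 * b) * hF4t K 27 (a * b))⁻¹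
        = hF4t K 25 (a ^ 2 * b) * (hF4t K 27 (a * b) * xGL chevF4 K 39 t * (hF4t K 27 (a * b))⁻¹) *
            (hF4t K 25 (a ^ 2 * b))⁻¹ := by group
      _ = xGL chevF4 K 39 (a * t) := by
          rw [hF4t_conj 27 (by norm_num) _ hd 39 (by norm_num), hF4t_conj 25 (by norm_num) _ hc 39 (by norm_num),
            p1, p3, zpow_one, zpow_neg, zpow_one]
          congr 1
          field_simp
  · calc hF4t K 25 (a ^ 2 * b) * hF4t K 27 (a * b) * xGL chevF4 K 45 t *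
          (hF4t K 25 (a ^ 2 * b) * hF4t K 27 (a * b))⁻¹
        = hF4t K 25 (a ^ 2 * b) * (hF4t K 27 (a * b) * xGL chevF4 K 45 t * (hF4t K 27 (a * b))⁻¹) *
            (hF4t K 25 (a ^ 2 * b))⁻¹ := by group
      _ = xGL chevF4 K 45 (b * t) := by
          rw [hF4t_conj 27 (by norm_num) _ hd 45 (by norm_num), hF4t_conj 25 (by norm_num) _ hc 45 (by norm_num),
            p2, p4, zpow_neg, zpow_one, zpow_ofNat]
          congr 1
          field_simp

/-! ### the ordered products are the elements of `U` -/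

theorem uxpos (r : ℕ) (hr : 24 ≤ r ∧ r < 48) (t : K) : xGL chevF4 K r t ∈ chevF4.posUnipotent K :=
  xGL_mem_posUnipotent chevF4 hF4 r hr t

section char2

variable [CharP K 2]

theorem RNF_pos (t33 t24 t34 t26 t36 t42 t38 t43 t29 t41 t44 t47 t39 t45 t35 t31 t40 t46 t37 t32 t27 t25 t28 t30 : K) :
    (f4Rel (K := K)).RNF t33 t24 t34 t26 t36 t42 t38 t43 t29 t41 t44 t47 t39 t45 t35 t31 t40 t46 t37 t32 t27 t25 t28 t30 ∈
      chevF4.posUnipotent K := by
  unfold RelF4.RNF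
  repeat (first | exact uxpos _ (by norm_num) _ | apply Subgroup.mul_mem)

theorem xGL_mul_rnfSet (r : ℕ) (hr : 24 ≤ r ∧ r < 48) (c : K) {y : GL chevF4.Idx K}
    (hy : y ∈ rnfSet (f4Rel (K := K))) : xGL chevF4 K r c * y ∈ rnfSet (f4Rel (K := K)) := by
  obtain ⟨h1, h2⟩ := hr
  interval_cases r
  · exact rnfSet_lm24 hy c
  · exact rnfSet_lm25 hy c
  · exact rnfSet_lm26 hy c
  · exact rnfSet_lm27 hy c
  · exact rnfSet_lm28 hy c
  · exact rnfSet_lm29 hy c
  · exact rnfSet_lm30 hy c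
  · exact rnfSet_lm31 hy c
  · exact rnfSet_lm32 hy c
  · exact rnfSet_lm33 hy c
  · exact rnfSet_lm34 hy c
  · exact rnfSet_lm35 hy c
  · exact rnfSet_lm36 hy c
  · exact rnfSet_lm37 hy c
  · exact rnfSet_lm38 hy c
  · exact rnfSet_lm39 hy c
  · exact rnfSet_lm40 hy c
  · exact rnfSet_lm41 hy c
  · exact rnfSet_lm42 hy c
  · exact rnfSet_lm43 hy c
  · exact rnfSet_lm44 hy c
  · exact rnfSet_lm45 hy c
  · exact rnfSet_lm46 hy c
  · exact rnfSet_lm47 hy c

/-- every element of `U` is an ordered product -/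
theorem mem_rnfSet_of_mem_U (g : GL chevF4.Idx K) (hg : g ∈ chevF4.posUnipotent K) :
    g ∈ rnfSet (f4Rel (K := K)) := by
  unfold ChevalleyDatum.posUnipotent at hg
  have hgen : ∀ x ∈ {g : GL chevF4.Idx K | ∃ (r : ℕ) (t : K), chevF4.IsPosRoot r ∧
      (g : Matrix chevF4.Idx chevF4.Idx K) = chevF4.x K r t},
      ∃ r t, (24 ≤ r ∧ r < 48) ∧ x = xGL chevF4 K r t := by
    rintro x ⟨r, t, hr, hx⟩
    refine ⟨r, t, (isPosRoot_iff chevF4 _ (posOK_of_mem chevF4 hF4) r).mp hr, ?_⟩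
    apply Units.ext
    rw [hx, xGL_val chevF4 _ (triOK_of_mem chevF4 hF4)]
  induction hg using Subgroup.closure_induction_left with
  | one => exact rnfSet_one
  | mul_left x hx y _ ih =>
    obtain ⟨r, t, hr, rfl⟩ := hgen x hx
    exact xGL_mul_rnfSet r hr t ih
  | inv_mul_cancel x hx y _ ih =>
    obtain ⟨r, t, hr, rfl⟩ := hgen x hx
    rw [xGL_inv' chevF4 hF4]
    exact xGL_mul_rnfSet r hr (-t) ih

/-- the ordered product as a function of the vector of its coordinates -/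
noncomputable def rnfVec (v : Fin 24 → K) : GL chevF4.Idx K :=
  (f4Rel (K := K)).RNF (v 0) (v 1) (v 2) (v 3) (v 4) (v 5) (v 6) (v 7) (v 8) (v 9) (v 10) (v 11) (v 12) (v 13)
    (v 14) (v 15) (v 16) (v 17) (v 18) (v 19) (v 20) (v 21) (v 22) (v 23)

theorem rnfVec_cons (t33 t24 t34 t26 t36 t42 t38 t43 t29 t41 t44 t47 t39 t45 t35 t31 t40 t46 t37 t32 t27 t25 t28 t30 : K) :
    rnfVec ![t33, t24, t34, t26, t36, t42, t38, t43, t29, t41, t44, t47, t39, t45, t35, t31, t40, t46, t37, t32, t27, t25, t28, t30] =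
      (f4Rel (K := K)).RNF t33 t24 t34 t26 t36 t42 t38 t43 t29 t41 t44 t47 t39 t45 t35 t31 t40 t46 t37 t32 t27 t25 t28 t30 := by
  rfl

theorem rnfVec_surj (g : GL chevF4.Idx K) (hg : g ∈ chevF4.posUnipotent K) : ∃ v, rnfVec v = g := by
  obtain ⟨t33, t24, t34, t26, t36, t42, t38, t43, t29, t41, t44, t47, t39, t45, t35, t31, t40, t46, t37, t32, t27, t25, t28, t30, rfl⟩ :=
    mem_rnfSet_of_mem_U g hg
  exact ⟨_, rnfVec_cons _ _ _ _ _ _ _ _ _ _ _ _ _ _ _ _ _ _ _ _ _ _ _ _⟩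

theorem rnfVec_inj [Fintype K] : Function.Injective (rnfVec (K := K)) := by
  let f : (Fin 24 → K) → ↥(chevF4.posUnipotent K) := fun v => ⟨rnfVec v, RNF_pos _ _ _ _ _ _ _ _ _ _ _ _ _ _ _ _ _ _ _ _ _ _ _ _⟩
  have hs : Function.Surjective f := by
    rintro ⟨g, hg⟩
    obtain ⟨v, hv⟩ := rnfVec_surj g hg
    exact ⟨v, Subtype.ext hv⟩
  have hc : Nat.card (Fin 24 → K) = Nat.card ↥(chevF4.posUnipotent K) := by
    rw [Cfsg.Agent.S1027.result chevF4 hF4, Nat.card_eq_fintype_card, Fintype.card_fun, Fintype.card_fin]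
    rfl
  have hb := (Nat.bijective_iff_surjective_and_card f).mpr ⟨hs, hc⟩
  intro v w h
  exact hb.1 (Subtype.ext h)

end char2

end Cfsg.Agent.Helper4.F4Inv
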