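import Cfsg.Agent.Helper4.F4Inv.UConcB

/-!
# Involutions of `F₄(K)`, `K` finite of characteristic two: the involutions of `U`

The data `uData : UData f4Rel` and the consequence of `umain`: every involution of the unipotent
subgroup `U` of `F₄(K)` is conjugate in `F₄(K)` to one of `x₄₇(1)`, `x₄₄(1)`, `x₄₇(1) x₄₄(1)`,
`x₃₉(1) x₄₅(1)`.
-/

set_option autoImplicit false
set_option maxRecDepth 100000
set_option maxHeartbeats 1000000
set_option linter.unusedSimpArgs false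
set_option linter.unusedVariables false
set_option linter.unusedSectionVars false

namespace Cfsg.Agent.Helper4.F4Inv

open Cfsg Cfsg.Lie Cfsg.Agent.Helper18

variable {K : Type*} [Field K] [CharP K 2] [Fintype K]

theorem RNF_inj_one (t33 t24 t34 t26 t36 t42 t38 t43 t29 t41 t44 t47 t39 t45 t35 t31 t40 t46 t37 t32 t27 t25 t28 t30 : K)
    (h : (f4Rel (K := K)).RNF t33 t24 t34 t26 t36 t42 t38 t43 t29 t41 t44 t47 t39 t45 t35 t31 t40 t46 t37 t32 t27 t25 t28 t30 = 1) :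
    t33 = 0 ∧ t24 = 0 ∧ t34 = 0 ∧ t26 = 0 ∧ t36 = 0 ∧ t42 = 0 ∧ t38 = 0 ∧ t43 = 0 ∧ t29 = 0 ∧ t41 = 0 ∧ t44 = 0 ∧
      t47 = 0 ∧ t39 = 0 ∧ t45 = 0 ∧ t35 = 0 ∧ t31 = 0 ∧ t40 = 0 ∧ t46 = 0 ∧ t37 = 0 ∧ t32 = 0 ∧ t27 = 0 ∧ t25 = 0 ∧
      t28 = 0 ∧ t30 = 0 := by
  have h0 : rnfVec (K := K) ![0, 0, 0, 0, 0, 0, 0, 0, 0, 0, 0, 0, 0, 0, 0, 0, 0, 0, 0, 0, 0, 0, 0, 0] = 1 := by
    rw [rnfVec_cons]; exact RNF_all_zero _
  have h1 := rnfVec_inj (((rnfVec_cons t33 t24 t34 t26 t36 t42 t38 t43 t29 t41 t44 t47 t39 t45 t35 t31 t40 t46 t37 t32 t27 t25 t28 t30).trans h).trans h0.symm)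
  have hv : ∀ i : Fin 24, (![t33, t24, t34, t26, t36, t42, t38, t43, t29, t41, t44, t47, t39, t45, t35, t31, t40, t46, t37, t32, t27, t25, t28, t30] : Fin 24 → K) i =
      (![0, 0, 0, 0, 0, 0, 0, 0, 0, 0, 0, 0, 0, 0, 0, 0, 0, 0, 0, 0, 0, 0, 0, 0] : Fin 24 → K) i := fun i => congrFun h1 i
  exact ⟨hv 0, hv 1, hv 2, hv 3, hv 4, hv 5, hv 6, hv 7, hv 8, hv 9, hv 10, hv 11, hv 12, hv 13, hv 14, hv 15, hv 16,
    hv 17, hv 18, hv 19, hv 20, hv 21, hv 22, hv 23⟩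

/-- the data for the reduction of involutions in `F₄(K)` -/
noncomputable def uData : UData (f4Rel (K := K)) where
  toWeylF4 := weylF4
  H := chevF4.group K
  n1_mem := nF4_mem 0
  n2_mem := nF4_mem 1
  n3_mem := nF4_mem 2
  n4_mem := nF4_mem 3
  xmem24 := fun t => xGL_mem_group' chevF4 hF4 24 t
  xmem25 := fun t => xGL_mem_group' chevF4 hF4 25 t
  xmem26 := fun t => xGL_mem_group' chevF4 hF4 26 t
  xmem27 := fun t => xGL_mem_group' chevF4 hF4 27 t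
  xmem30 := fun t => xGL_mem_group' chevF4 hF4 30 t
  xmem31 := fun t => xGL_mem_group' chevF4 hF4 31 t
  xmem33 := fun t => xGL_mem_group' chevF4 hF4 33 t
  inj := RNF_inj_one
  sqrt := fun y => by
    have : Fact (Nat.Prime 2) := ⟨Nat.prime_two⟩
    obtain ⟨s, hs⟩ := surjective_frobenius K 2 y
    exact ⟨s, hs⟩
  torLS := torLS_F4
  torV := torV_F4

/-- every involution of `U` is conjugate in `F₄(K)` to one of the four representatives -/
theorem invol_U (g : GL chevF4.Idx K) (hg : g ∈ chevF4.posUnipotent K) (h2 : orderOf g = 2) :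
    ConjIn (chevF4.group K) g (xGL chevF4 K 47 1) ∨ ConjIn (chevF4.group K) g (xGL chevF4 K 44 1) ∨
      ConjIn (chevF4.group K) g (xGL chevF4 K 47 1 * xGL chevF4 K 44 1) ∨
      ConjIn (chevF4.group K) g (xGL chevF4 K 39 1 * xGL chevF4 K 45 1) := by
  obtain ⟨t33, t24, t34, t26, t36, t42, t38, t43, t29, t41, t44, t47, t39, t45, t35, t31, t40, t46, t37, t32, t27, t25, t28, t30, rfl⟩ :=
    mem_rnfSet_of_mem_U g hg
  have hu := pow_orderOf_eq_one ((f4Rel (K := K)).RNF t33 t24 t34 t26 t36 t42 t38 t43 t29 t41 t44 t47 t39 t45 t35 t31 t40 t46 t37 t32 t27 t25 t28 t30)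
  rw [h2, pow_two] at hu
  have hne : (f4Rel (K := K)).RNF t33 t24 t34 t26 t36 t42 t38 t43 t29 t41 t44 t47 t39 t45 t35 t31 t40 t46 t37 t32 t27 t25 t28 t30 ≠ 1 := by
    intro h
    rw [h, orderOf_one] at h2
    norm_num at h2
  exact umain (uData (K := K)) _ _ _ _ _ _ _ _ _ _ _ _ _ _ _ _ _ _ _ _ _ _ _ _ hu hne

end Cfsg.Agent.Helper4.F4Inv
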