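import Cfsg.Agent.Helper4.F4Inv.UFinA

/-!
# Involutions of the unipotent subgroup of `F₄` in characteristic two (abstract reduction)

Every involution which is an ordered product `R.RNF …` of root elements is conjugate, under the
subgroup `D.H`, to one of `X47 1`, `X44 1`, `X47 1 * X44 1`, `X39 1 * X45 1` (`umain`).
-/

set_option autoImplicit false
set_option maxHeartbeats 1000000
set_option maxRecDepth 100000
set_option linter.unusedSimpArgs false
set_option linter.unusedVariables false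
set_option linter.unusedSectionVars false

namespace Cfsg.Agent.Helper4.F4Inv

variable {K Γ : Type*} [Field K] [Group Γ] {R : RelF4 K Γ} [CharP K 2]

theorem RNF_44_47 (R : RelF4 K Γ) (a b : K) :
    R.RNF 0 0 0 0 0 0 0 0 0 0 a b 0 0 0 0 0 0 0 0 0 0 0 0 = R.X44 a * R.X47 b := by
  unfold RelF4.RNF
  simp only [R.zero33, R.zero24, R.zero34, R.zero26, R.zero36, R.zero42, R.zero38, R.zero43,
    R.zero29, R.zero41, R.zero39, R.zero45, R.zero35, R.zero31, R.zero40, R.zero46, R.zero37,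
    R.zero32, R.zero27, R.zero25, R.zero28, R.zero30, one_mul, mul_one]

theorem RNF_39_45 (R : RelF4 K Γ) (a b : K) :
    R.RNF 0 0 0 0 0 0 0 0 0 0 0 0 a b 0 0 0 0 0 0 0 0 0 0 = R.X39 a * R.X45 b := by
  unfold RelF4.RNF
  simp only [R.zero33, R.zero24, R.zero34, R.zero26, R.zero36, R.zero42, R.zero38, R.zero43,
    R.zero29, R.zero41, R.zero44, R.zero47, R.zero35, R.zero31, R.zero40, R.zero46, R.zero37,
    R.zero32, R.zero27, R.zero25, R.zero28, R.zero30, one_mul, mul_one]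

theorem RNF_all_zero (R : RelF4 K Γ) :
    R.RNF 0 0 0 0 0 0 0 0 0 0 0 0 0 0 0 0 0 0 0 0 0 0 0 0 = 1 := by
  rw [RNF_44_47, R.zero44, R.zero47, one_mul]

/-- the long root elements and the products of a highest short and a highest long root element -/
theorem T44_47 (D : UData R) :
    ∀ (t44 t47 : K), t44 ≠ 0 →
      UP D (R.RNF (0) (0) (0) (0) (0) (0) (0) (0) (0) (0) (t44) (t47) (0) (0) (0) (0) (0) (0) (0) (0) (0) (0) (0) (0)) := by
  intro a b ha hu hne
  rw [RNF_44_47]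
  by_cases hb : b = 0
  · subst hb
    obtain ⟨h, hh, -, h44⟩ := D.torLS 1 a⁻¹ one_ne_zero (inv_ne_zero ha)
    right; left
    refine ⟨h, hh, ?_⟩
    rw [R.zero47, mul_one, h44, inv_mul_cancel₀ ha]
  · obtain ⟨h, hh, h47, h44⟩ := D.torLS b⁻¹ a⁻¹ (inv_ne_zero hb) (inv_ne_zero ha)
    right; right; left
    refine ⟨h, hh, ?_⟩
    rw [conj_mul', h47, h44, inv_mul_cancel₀ ha, inv_mul_cancel₀ hb, R.c44_47]

theorem T44_47' (D : UData R) :
    ∀ (t44 t47 : K), t44 ≠ 0 → t47 ≠ 0 →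
      UP D (R.RNF (0) (0) (0) (0) (0) (0) (0) (0) (0) (0) (t44) (t47) (0) (0) (0) (0) (0) (0) (0) (0) (0) (0) (0) (0)) :=
  fun a b ha _ => T44_47 D a b ha

/-- the long root elements of the highest root -/
theorem T47 (D : UData R) :
    ∀ (t47 : K),
      UP D (R.RNF (0) (0) (0) (0) (0) (0) (0) (0) (0) (0) (0) (t47) (0) (0) (0) (0) (0) (0) (0) (0) (0) (0) (0) (0)) := by
  intro b hu hne
  by_cases hb : b = 0
  · subst hb
    exact absurd (RNF_all_zero R) hne
  · rw [RNF_44_47, R.zero44, one_mul]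
    obtain ⟨h, hh, h47, -⟩ := D.torLS b⁻¹ 1 (inv_ne_zero hb) one_ne_zero
    left
    refine ⟨h, hh, ?_⟩
    rw [h47, inv_mul_cancel₀ hb]

/-- the products of two orthogonal root elements, one short and one long -/
theorem T39_45 (D : UData R) :
    ∀ (t39 t45 : K), t39 ≠ 0 → t45 ≠ 0 →
      UP D (R.RNF (0) (0) (0) (0) (0) (0) (0) (0) (0) (0) (0) (0) (t39) (t45) (0) (0) (0) (0) (0) (0) (0) (0) (0) (0)) := by
  intro a b ha hb hu hne
  rw [RNF_39_45]
  obtain ⟨h, hh, h39, h45⟩ := D.torV a⁻¹ b⁻¹ (inv_ne_zero ha) (inv_ne_zero hb)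
  right; right; right
  refine ⟨h, hh, ?_⟩
  rw [conj_mul', h39, h45, inv_mul_cancel₀ ha, inv_mul_cancel₀ hb]

theorem ufin40 (D : UData R) :
    ∀ (t40 t43 t44 t45 t46 t47 : K), t40 ≠ 0 → t43 ≠ 0 →
      UP D (R.RNF (0) (0) (0) (0) (0) (0) (0) (t43) (0) (0) (t44) (t47) (0) (t45) (0) (0) (t40) (t46) (0) (0) (0) (0) (0) (0)) :=
  ufin40_1 D (ufin40_2 D (ufin40_3 D (ufin40_4 D (ufin40_5 D (ufin40_6 D (T39_45 D))))))

theorem ufin44 (D : UData R)
    (ih : ∀ (t45 t46 t47 : K), UP D (R.RNF (0) (0) (0) (0) (0) (0) (0) (0) (0) (0) (0) (t47) (0) (t45) (0) (0) (0) (t46) (0) (0) (0) (0) (0) (0))) :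
    ∀ (t44 t45 t46 t47 : K), UP D (R.RNF (0) (0) (0) (0) (0) (0) (0) (0) (0) (0) (t44) (t47) (0) (t45) (0) (0) (0) (t46) (0) (0) (0) (0) (0) (0)) := by
  intro t44 t45 t46 t47
  by_cases h44 : t44 = 0
  · subst h44; exact ih _ _ _
  by_cases h45 : t45 = 0
  · subst h45
    by_cases h46 : t46 = 0
    · subst h46
      exact T44_47 D t44 t47 h44
    · exact ufin44_5 D (ufin44_4 D (T44_47' D)) t44 t46 t47 h44 h46
  · exact ufin44_1 D (ufin44_2 D (ufin44_3 D (ufin44_4 D (T44_47' D)))) t44 t45 t46 t47 h44 h45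

/-- **Reduction of involutions.** Every involution in the unipotent group (an ordered product of
root elements) is conjugate to one of the four representatives. -/
theorem umain (D : UData R) :
    ∀ (t24 t25 t27 t33 t26 t28 t34 t29 t30 t35 t31 t36 t37 t32 t38 t41 t39 t42 t40 t43 t44 t45 t46 t47 : K),
      UP D (R.RNF (t33) (t24) (t34) (t26) (t36) (t42) (t38) (t43) (t29) (t41) (t44) (t47) (t39) (t45) (t35) (t31) (t40) (t46) (t37) (t32) (t27) (t25) (t28) (t30)) :=
  upiv0 D (upiv1 D (upiv2 D (upiv3 D (upiv4 D (upiv5 D (upiv6 D (upiv7 D (upiv8 D (upiv9 D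
    (upiv10 D (upiv11 D (upiv12 D (upiv13 D (upiv14 D (upiv15 D (upiv16 D (upiv17 D
      (upiv18 D (ufin40 D) (upiv19 D (ufin44 D (upiv21 D (upiv22 D (T47 D)))))))))))))))))))))))

end Cfsg.Agent.Helper4.F4Inv
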