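import Cfsg.Agent.Helper4.F4Inv.UPiv

/-! Generated: the final steps of the reduction of involutions in the unipotent group of `F₄`
(characteristic two): cleaning up the elements whose first non-trivial coordinate belongs to the
roots `40` (with non-trivial coordinate at `43`) or `44`. -/

set_option autoImplicit false
set_option maxHeartbeats 4000000
set_option maxRecDepth 100000
set_option linter.unusedSimpArgs false
set_option linter.unusedVariables false
set_option linter.unusedSectionVars false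

namespace Cfsg.Agent.Helper4.F4Inv

variable {K Γ : Type*} [Field K] [Group Γ] {R : RelF4 K Γ} [CharP K 2]

theorem ufin40_1 (D : UData R)
    (ih : ∀ (t40 t43 t45 t46 t47 : K), t40 ≠ 0 → t43 ≠ 0 → UP D (R.RNF (0) (0) (0) (0) (0) (0) (0) (t43) (0) (0) (0) (t47) (0) (t45) (0) (0) (t40) (t46) (0) (0) (0) (0) (0) (0))) :
    ∀ (t40 t43 t44 t45 t46 t47 : K), t40 ≠ 0 → t43 ≠ 0 → UP D (R.RNF (0) (0) (0) (0) (0) (0) (0) (t43) (0) (0) (t44) (t47) (0) (t45) (0) (0) (t40) (t46) (0) (0) (0) (0) (0) (0)) := by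
  intro t40 t43 t44 t45 t46 t47 hn40 hn43
  have h2 : (2 : K) = 0 := CharTwo.two_eq_zero
  have h4 : (4 : K) = 0 := by linear_combination 2 * h2
  have h6 : (6 : K) = 0 := by linear_combination 3 * h2
  have h8 : (8 : K) = 0 := by linear_combination 4 * h2
  have h10 : (10 : K) = 0 := by linear_combination 5 * h2
  have h12 : (12 : K) = 0 := by linear_combination 6 * h2
  have h14 : (14 : K) = 0 := by linear_combination 7 * h2
  have h16 : (16 : K) = 0 := by linear_combination 8 * h2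
  have h18 : (18 : K) = 0 := by linear_combination 9 * h2
  have h20 : (20 : K) = 0 := by linear_combination 10 * h2
  have h22 : (22 : K) = 0 := by linear_combination 11 * h2
  have h24 : (24 : K) = 0 := by linear_combination 12 * h2
  have h26 : (26 : K) = 0 := by linear_combination 13 * h2
  have h28 : (28 : K) = 0 := by linear_combination 14 * h2
  have h30 : (30 : K) = 0 := by linear_combination 15 * h2
  have h32 : (32 : K) = 0 := by linear_combination 16 * h2
  obtain ⟨c, rfl⟩ : ∃ c, t44 = c * t40 := ⟨t44 / t40, by field_simp⟩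
  have e : R.X33 c * R.RNF (0) (0) (0) (0) (0) (0) (0) (t43) (0) (0) (c * t40) (t47) (0) (t45) (0) (0) (t40) (t46) (0) (0) (0) (0) (0) (0) * R.X33 c =
      R.RNF (0) (0) (0) (0) (0) (0) (0) (t43) (0) (0) (0) (t47) (0) (t45) (0) (0) (t40) (t46) (0) (0) (0) (0) (0) (0) := by
    rw [R.ucj33]
    congr 1 <;> (first | rfl | ring1 | (rw [← sub_eq_zero]; ring_nf; simp only [h2, h4, h6, h8, h10, h12, h14, h16, h18, h20, h22, h24, h26, h28, h30, h32, mul_zero, zero_mul, add_zero, zero_add, neg_zero, sub_zero, sub_self]))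
  exact UP_cj D (D.xmem33 c) (R.inv33 c) e (ih _ _ _ _ _ hn40 hn43)

theorem ufin40_2 (D : UData R)
    (ih : ∀ (t40 t43 t44 t46 t47 : K), t40 ≠ 0 → t43 ≠ 0 → UP D (R.RNF (0) (0) (0) (0) (0) (0) (0) (t43) (0) (0) (t44) (t47) (0) (0) (0) (0) (t40) (t46) (0) (0) (0) (0) (0) (0))) :
    ∀ (t40 t43 t45 t46 t47 : K), t40 ≠ 0 → t43 ≠ 0 → UP D (R.RNF (0) (0) (0) (0) (0) (0) (0) (t43) (0) (0) (0) (t47) (0) (t45) (0) (0) (t40) (t46) (0) (0) (0) (0) (0) (0)) := by
  intro t40 t43 t45 t46 t47 hn40 hn43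
  have h2 : (2 : K) = 0 := CharTwo.two_eq_zero
  have h4 : (4 : K) = 0 := by linear_combination 2 * h2
  have h6 : (6 : K) = 0 := by linear_combination 3 * h2
  have h8 : (8 : K) = 0 := by linear_combination 4 * h2
  have h10 : (10 : K) = 0 := by linear_combination 5 * h2
  have h12 : (12 : K) = 0 := by linear_combination 6 * h2
  have h14 : (14 : K) = 0 := by linear_combination 7 * h2
  have h16 : (16 : K) = 0 := by linear_combination 8 * h2
  have h18 : (18 : K) = 0 := by linear_combination 9 * h2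
  have h20 : (20 : K) = 0 := by linear_combination 10 * h2
  have h22 : (22 : K) = 0 := by linear_combination 11 * h2
  have h24 : (24 : K) = 0 := by linear_combination 12 * h2
  have h26 : (26 : K) = 0 := by linear_combination 13 * h2
  have h28 : (28 : K) = 0 := by linear_combination 14 * h2
  have h30 : (30 : K) = 0 := by linear_combination 15 * h2
  have h32 : (32 : K) = 0 := by linear_combination 16 * h2
  obtain ⟨c, hc⟩ := D.sqrt (t45 / t43)
  obtain rfl : t45 = c ^ 2 * t43 := by rw [hc]; field_simp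
  have e : R.X27 c * R.RNF (0) (0) (0) (0) (0) (0) (0) (t43) (0) (0) (0) (t47) (0) (c ^ 2 * t43) (0) (0) (t40) (t46) (0) (0) (0) (0) (0) (0) * R.X27 c =
      R.RNF (0) (0) (0) (0) (0) (0) (0) (t43) (0) (0) (c * t43) (t47) (0) (0) (0) (0) (t40) (t46) (0) (0) (0) (0) (0) (0) := by
    rw [R.ucj27]
    congr 1 <;> (first | rfl | ring1 | (rw [← sub_eq_zero]; ring_nf; simp only [h2, h4, h6, h8, h10, h12, h14, h16, h18, h20, h22, h24, h26, h28, h30, h32, mul_zero, zero_mul, add_zero, zero_add, neg_zero, sub_zero, sub_self]))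
  exact UP_cj D (D.xmem27 c) (R.inv27 c) e (ih _ _ _ _ _ hn40 hn43)

theorem ufin40_3 (D : UData R)
    (ih : ∀ (t40 t43 t46 t47 : K), t40 ≠ 0 → t43 ≠ 0 → UP D (R.RNF (0) (0) (0) (0) (0) (0) (0) (t43) (0) (0) (0) (t47) (0) (0) (0) (0) (t40) (t46) (0) (0) (0) (0) (0) (0))) :
    ∀ (t40 t43 t44 t46 t47 : K), t40 ≠ 0 → t43 ≠ 0 → UP D (R.RNF (0) (0) (0) (0) (0) (0) (0) (t43) (0) (0) (t44) (t47) (0) (0) (0) (0) (t40) (t46) (0) (0) (0) (0) (0) (0)) := by
  intro t40 t43 t44 t46 t47 hn40 hn43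
  have h2 : (2 : K) = 0 := CharTwo.two_eq_zero
  have h4 : (4 : K) = 0 := by linear_combination 2 * h2
  have h6 : (6 : K) = 0 := by linear_combination 3 * h2
  have h8 : (8 : K) = 0 := by linear_combination 4 * h2
  have h10 : (10 : K) = 0 := by linear_combination 5 * h2
  have h12 : (12 : K) = 0 := by linear_combination 6 * h2
  have h14 : (14 : K) = 0 := by linear_combination 7 * h2
  have h16 : (16 : K) = 0 := by linear_combination 8 * h2
  have h18 : (18 : K) = 0 := by linear_combination 9 * h2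
  have h20 : (20 : K) = 0 := by linear_combination 10 * h2
  have h22 : (22 : K) = 0 := by linear_combination 11 * h2
  have h24 : (24 : K) = 0 := by linear_combination 12 * h2
  have h26 : (26 : K) = 0 := by linear_combination 13 * h2
  have h28 : (28 : K) = 0 := by linear_combination 14 * h2
  have h30 : (30 : K) = 0 := by linear_combination 15 * h2
  have h32 : (32 : K) = 0 := by linear_combination 16 * h2
  obtain ⟨c, rfl⟩ : ∃ c, t44 = c * t40 := ⟨t44 / t40, by field_simp⟩
  have e : R.X33 c * R.RNF (0) (0) (0) (0) (0) (0) (0) (t43) (0) (0) (c * t40) (t47) (0) (0) (0) (0) (t40) (t46) (0) (0) (0) (0) (0) (0) * R.X33 c =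
      R.RNF (0) (0) (0) (0) (0) (0) (0) (t43) (0) (0) (0) (t47) (0) (0) (0) (0) (t40) (t46) (0) (0) (0) (0) (0) (0) := by
    rw [R.ucj33]
    congr 1 <;> (first | rfl | ring1 | (rw [← sub_eq_zero]; ring_nf; simp only [h2, h4, h6, h8, h10, h12, h14, h16, h18, h20, h22, h24, h26, h28, h30, h32, mul_zero, zero_mul, add_zero, zero_add, neg_zero, sub_zero, sub_self]))
  exact UP_cj D (D.xmem33 c) (R.inv33 c) e (ih _ _ _ _ hn40 hn43)

theorem ufin40_4 (D : UData R)
    (ih : ∀ (t40 t43 t47 : K), t40 ≠ 0 → t43 ≠ 0 → UP D (R.RNF (0) (0) (0) (0) (0) (0) (0) (t43) (0) (0) (0) (t47) (0) (0) (0) (0) (t40) (0) (0) (0) (0) (0) (0) (0))) :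
    ∀ (t40 t43 t46 t47 : K), t40 ≠ 0 → t43 ≠ 0 → UP D (R.RNF (0) (0) (0) (0) (0) (0) (0) (t43) (0) (0) (0) (t47) (0) (0) (0) (0) (t40) (t46) (0) (0) (0) (0) (0) (0)) := by
  intro t40 t43 t46 t47 hn40 hn43
  have h2 : (2 : K) = 0 := CharTwo.two_eq_zero
  have h4 : (4 : K) = 0 := by linear_combination 2 * h2
  have h6 : (6 : K) = 0 := by linear_combination 3 * h2
  have h8 : (8 : K) = 0 := by linear_combination 4 * h2
  have h10 : (10 : K) = 0 := by linear_combination 5 * h2
  have h12 : (12 : K) = 0 := by linear_combination 6 * h2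
  have h14 : (14 : K) = 0 := by linear_combination 7 * h2
  have h16 : (16 : K) = 0 := by linear_combination 8 * h2
  have h18 : (18 : K) = 0 := by linear_combination 9 * h2
  have h20 : (20 : K) = 0 := by linear_combination 10 * h2
  have h22 : (22 : K) = 0 := by linear_combination 11 * h2
  have h24 : (24 : K) = 0 := by linear_combination 12 * h2
  have h26 : (26 : K) = 0 := by linear_combination 13 * h2
  have h28 : (28 : K) = 0 := by linear_combination 14 * h2
  have h30 : (30 : K) = 0 := by linear_combination 15 * h2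
  have h32 : (32 : K) = 0 := by linear_combination 16 * h2
  obtain ⟨c, rfl⟩ : ∃ c, t46 = c * t43 := ⟨t46 / t43, by field_simp⟩
  have e : R.X30 c * R.RNF (0) (0) (0) (0) (0) (0) (0) (t43) (0) (0) (0) (t47) (0) (0) (0) (0) (t40) (c * t43) (0) (0) (0) (0) (0) (0) * R.X30 c =
      R.RNF (0) (0) (0) (0) (0) (0) (0) (t43) (0) (0) (0) (t47) (0) (0) (0) (0) (t40) (0) (0) (0) (0) (0) (0) (0) := by
    rw [R.ucj30]
    congr 1 <;> (first | rfl | ring1 | (rw [← sub_eq_zero]; ring_nf; simp only [h2, h4, h6, h8, h10, h12, h14, h16, h18, h20, h22, h24, h26, h28, h30, h32, mul_zero, zero_mul, add_zero, zero_add, neg_zero, sub_zero, sub_self]))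
  exact UP_cj D (D.xmem30 c) (R.inv30 c) e (ih _ _ _ hn40 hn43)

theorem ufin40_5 (D : UData R)
    (ih : ∀ (t40 t43 : K), t40 ≠ 0 → t43 ≠ 0 → UP D (R.RNF (0) (0) (0) (0) (0) (0) (0) (t43) (0) (0) (0) (0) (0) (0) (0) (0) (t40) (0) (0) (0) (0) (0) (0) (0))) :
    ∀ (t40 t43 t47 : K), t40 ≠ 0 → t43 ≠ 0 → UP D (R.RNF (0) (0) (0) (0) (0) (0) (0) (t43) (0) (0) (0) (t47) (0) (0) (0) (0) (t40) (0) (0) (0) (0) (0) (0) (0)) := by
  intro t40 t43 t47 hn40 hn43
  have h2 : (2 : K) = 0 := CharTwo.two_eq_zero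
  have h4 : (4 : K) = 0 := by linear_combination 2 * h2
  have h6 : (6 : K) = 0 := by linear_combination 3 * h2
  have h8 : (8 : K) = 0 := by linear_combination 4 * h2
  have h10 : (10 : K) = 0 := by linear_combination 5 * h2
  have h12 : (12 : K) = 0 := by linear_combination 6 * h2
  have h14 : (14 : K) = 0 := by linear_combination 7 * h2
  have h16 : (16 : K) = 0 := by linear_combination 8 * h2
  have h18 : (18 : K) = 0 := by linear_combination 9 * h2
  have h20 : (20 : K) = 0 := by linear_combination 10 * h2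
  have h22 : (22 : K) = 0 := by linear_combination 11 * h2
  have h24 : (24 : K) = 0 := by linear_combination 12 * h2
  have h26 : (26 : K) = 0 := by linear_combination 13 * h2
  have h28 : (28 : K) = 0 := by linear_combination 14 * h2
  have h30 : (30 : K) = 0 := by linear_combination 15 * h2
  have h32 : (32 : K) = 0 := by linear_combination 16 * h2
  obtain ⟨c, rfl⟩ : ∃ c, t47 = c * t43 := ⟨t47 / t43, by field_simp⟩
  have e : R.X31 c * R.RNF (0) (0) (0) (0) (0) (0) (0) (t43) (0) (0) (0) (c * t43) (0) (0) (0) (0) (t40) (0) (0) (0) (0) (0) (0) (0) * R.X31 c =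
      R.RNF (0) (0) (0) (0) (0) (0) (0) (t43) (0) (0) (0) (0) (0) (0) (0) (0) (t40) (0) (0) (0) (0) (0) (0) (0) := by
    rw [R.ucj31]
    congr 1 <;> (first | rfl | ring1 | (rw [← sub_eq_zero]; ring_nf; simp only [h2, h4, h6, h8, h10, h12, h14, h16, h18, h20, h22, h24, h26, h28, h30, h32, mul_zero, zero_mul, add_zero, zero_add, neg_zero, sub_zero, sub_self]))
  exact UP_cj D (D.xmem31 c) (R.inv31 c) e (ih _ _ hn40 hn43)

theorem ufin40_6 (D : UData R)
    (ih : ∀ (t39 t45 : K), t39 ≠ 0 → t45 ≠ 0 → UP D (R.RNF (0) (0) (0) (0) (0) (0) (0) (0) (0) (0) (0) (0) (t39) (t45) (0) (0) (0) (0) (0) (0) (0) (0) (0) (0))) :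
    ∀ (t40 t43 : K), t40 ≠ 0 → t43 ≠ 0 → UP D (R.RNF (0) (0) (0) (0) (0) (0) (0) (t43) (0) (0) (0) (0) (0) (0) (0) (0) (t40) (0) (0) (0) (0) (0) (0) (0)) := by
  intro t40 t43 hn40 hn43
  have h2 : (2 : K) = 0 := CharTwo.two_eq_zero
  have h4 : (4 : K) = 0 := by linear_combination 2 * h2
  have h6 : (6 : K) = 0 := by linear_combination 3 * h2
  have h8 : (8 : K) = 0 := by linear_combination 4 * h2
  have h10 : (10 : K) = 0 := by linear_combination 5 * h2
  have h12 : (12 : K) = 0 := by linear_combination 6 * h2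
  have h14 : (14 : K) = 0 := by linear_combination 7 * h2
  have h16 : (16 : K) = 0 := by linear_combination 8 * h2
  have h18 : (18 : K) = 0 := by linear_combination 9 * h2
  have h20 : (20 : K) = 0 := by linear_combination 10 * h2
  have h22 : (22 : K) = 0 := by linear_combination 11 * h2
  have h24 : (24 : K) = 0 := by linear_combination 12 * h2
  have h26 : (26 : K) = 0 := by linear_combination 13 * h2
  have h28 : (28 : K) = 0 := by linear_combination 14 * h2
  have h30 : (30 : K) = 0 := by linear_combination 15 * h2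
  have h32 : (32 : K) = 0 := by linear_combination 16 * h2
  have e : D.n2 * R.RNF (0) (0) (0) (0) (0) (0) (0) (t43) (0) (0) (0) (0) (0) (0) (0) (0) (t40) (0) (0) (0) (0) (0) (0) (0) * D.n2⁻¹ =
      R.RNF (0) (0) (0) (0) (0) (0) (0) (0) (0) (0) (0) (0) (t40) (t43) (0) (0) (0) (0) (0) (0) (0) (0) (0) (0) := by
    rw [D.toWeylF4.conj_n2]
    congr 1 <;> (first | rfl | ring1 | (rw [← sub_eq_zero]; ring_nf; simp only [h2, h4, h6, h8, h10, h12, h14, h16, h18, h20, h22, h24, h26, h28, h30, h32, mul_zero, zero_mul, add_zero, zero_add, neg_zero, sub_zero, sub_self]))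
  exact UP_n D D.n2_mem e (ih _ _ hn40 hn43)

theorem ufin44_1 (D : UData R)
    (ih : ∀ (t44 t45 t47 : K), t44 ≠ 0 → t45 ≠ 0 → UP D (R.RNF (0) (0) (0) (0) (0) (0) (0) (0) (0) (0) (t44) (t47) (0) (t45) (0) (0) (0) (0) (0) (0) (0) (0) (0) (0))) :
    ∀ (t44 t45 t46 t47 : K), t44 ≠ 0 → t45 ≠ 0 → UP D (R.RNF (0) (0) (0) (0) (0) (0) (0) (0) (0) (0) (t44) (t47) (0) (t45) (0) (0) (0) (t46) (0) (0) (0) (0) (0) (0)) := by
  intro t44 t45 t46 t47 hn44 hn45
  have h2 : (2 : K) = 0 := CharTwo.two_eq_zero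
  have h4 : (4 : K) = 0 := by linear_combination 2 * h2
  have h6 : (6 : K) = 0 := by linear_combination 3 * h2
  have h8 : (8 : K) = 0 := by linear_combination 4 * h2
  have h10 : (10 : K) = 0 := by linear_combination 5 * h2
  have h12 : (12 : K) = 0 := by linear_combination 6 * h2
  have h14 : (14 : K) = 0 := by linear_combination 7 * h2
  have h16 : (16 : K) = 0 := by linear_combination 8 * h2
  have h18 : (18 : K) = 0 := by linear_combination 9 * h2
  have h20 : (20 : K) = 0 := by linear_combination 10 * h2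
  have h22 : (22 : K) = 0 := by linear_combination 11 * h2
  have h24 : (24 : K) = 0 := by linear_combination 12 * h2
  have h26 : (26 : K) = 0 := by linear_combination 13 * h2
  have h28 : (28 : K) = 0 := by linear_combination 14 * h2
  have h30 : (30 : K) = 0 := by linear_combination 15 * h2
  have h32 : (32 : K) = 0 := by linear_combination 16 * h2
  obtain ⟨c, rfl⟩ : ∃ c, t46 = c * t45 := ⟨t46 / t45, by field_simp⟩
  have e : R.X25 c * R.RNF (0) (0) (0) (0) (0) (0) (0) (0) (0) (0) (t44) (t47) (0) (t45) (0) (0) (0) (c * t45) (0) (0) (0) (0) (0) (0) * R.X25 c =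
      R.RNF (0) (0) (0) (0) (0) (0) (0) (0) (0) (0) (t44) (t47) (0) (t45) (0) (0) (0) (0) (0) (0) (0) (0) (0) (0) := by
    rw [R.ucj25]
    congr 1 <;> (first | rfl | ring1 | (rw [← sub_eq_zero]; ring_nf; simp only [h2, h4, h6, h8, h10, h12, h14, h16, h18, h20, h22, h24, h26, h28, h30, h32, mul_zero, zero_mul, add_zero, zero_add, neg_zero, sub_zero, sub_self]))
  exact UP_cj D (D.xmem25 c) (R.inv25 c) e (ih _ _ _ hn44 hn45)

theorem ufin44_2 (D : UData R)
    (ih : ∀ (t44 t45 : K), t44 ≠ 0 → t45 ≠ 0 → UP D (R.RNF (0) (0) (0) (0) (0) (0) (0) (0) (0) (0) (t44) (0) (0) (t45) (0) (0) (0) (0) (0) (0) (0) (0) (0) (0))) :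
    ∀ (t44 t45 t47 : K), t44 ≠ 0 → t45 ≠ 0 → UP D (R.RNF (0) (0) (0) (0) (0) (0) (0) (0) (0) (0) (t44) (t47) (0) (t45) (0) (0) (0) (0) (0) (0) (0) (0) (0) (0)) := by
  intro t44 t45 t47 hn44 hn45
  have h2 : (2 : K) = 0 := CharTwo.two_eq_zero
  have h4 : (4 : K) = 0 := by linear_combination 2 * h2
  have h6 : (6 : K) = 0 := by linear_combination 3 * h2
  have h8 : (8 : K) = 0 := by linear_combination 4 * h2
  have h10 : (10 : K) = 0 := by linear_combination 5 * h2
  have h12 : (12 : K) = 0 := by linear_combination 6 * h2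
  have h14 : (14 : K) = 0 := by linear_combination 7 * h2
  have h16 : (16 : K) = 0 := by linear_combination 8 * h2
  have h18 : (18 : K) = 0 := by linear_combination 9 * h2
  have h20 : (20 : K) = 0 := by linear_combination 10 * h2
  have h22 : (22 : K) = 0 := by linear_combination 11 * h2
  have h24 : (24 : K) = 0 := by linear_combination 12 * h2
  have h26 : (26 : K) = 0 := by linear_combination 13 * h2
  have h28 : (28 : K) = 0 := by linear_combination 14 * h2
  have h30 : (30 : K) = 0 := by linear_combination 15 * h2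
  have h32 : (32 : K) = 0 := by linear_combination 16 * h2
  obtain ⟨c, rfl⟩ : ∃ c, t47 = c * t45 := ⟨t47 / t45, by field_simp⟩
  have e : R.X26 c * R.RNF (0) (0) (0) (0) (0) (0) (0) (0) (0) (0) (t44) (c * t45) (0) (t45) (0) (0) (0) (0) (0) (0) (0) (0) (0) (0) * R.X26 c =
      R.RNF (0) (0) (0) (0) (0) (0) (0) (0) (0) (0) (t44) (0) (0) (t45) (0) (0) (0) (0) (0) (0) (0) (0) (0) (0) := by
    rw [R.ucj26]
    congr 1 <;> (first | rfl | ring1 | (rw [← sub_eq_zero]; ring_nf; simp only [h2, h4, h6, h8, h10, h12, h14, h16, h18, h20, h22, h24, h26, h28, h30, h32, mul_zero, zero_mul, add_zero, zero_add, neg_zero, sub_zero, sub_self]))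
  exact UP_cj D (D.xmem26 c) (R.inv26 c) e (ih _ _ hn44 hn45)

theorem ufin44_3 (D : UData R)
    (ih : ∀ (t44 t46 : K), t44 ≠ 0 → t46 ≠ 0 → UP D (R.RNF (0) (0) (0) (0) (0) (0) (0) (0) (0) (0) (t44) (0) (0) (0) (0) (0) (0) (t46) (0) (0) (0) (0) (0) (0))) :
    ∀ (t44 t45 : K), t44 ≠ 0 → t45 ≠ 0 → UP D (R.RNF (0) (0) (0) (0) (0) (0) (0) (0) (0) (0) (t44) (0) (0) (t45) (0) (0) (0) (0) (0) (0) (0) (0) (0) (0)) := by
  intro t44 t45 hn44 hn45
  have h2 : (2 : K) = 0 := CharTwo.two_eq_zero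
  have h4 : (4 : K) = 0 := by linear_combination 2 * h2
  have h6 : (6 : K) = 0 := by linear_combination 3 * h2
  have h8 : (8 : K) = 0 := by linear_combination 4 * h2
  have h10 : (10 : K) = 0 := by linear_combination 5 * h2
  have h12 : (12 : K) = 0 := by linear_combination 6 * h2
  have h14 : (14 : K) = 0 := by linear_combination 7 * h2
  have h16 : (16 : K) = 0 := by linear_combination 8 * h2
  have h18 : (18 : K) = 0 := by linear_combination 9 * h2
  have h20 : (20 : K) = 0 := by linear_combination 10 * h2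
  have h22 : (22 : K) = 0 := by linear_combination 11 * h2
  have h24 : (24 : K) = 0 := by linear_combination 12 * h2
  have h26 : (26 : K) = 0 := by linear_combination 13 * h2
  have h28 : (28 : K) = 0 := by linear_combination 14 * h2
  have h30 : (30 : K) = 0 := by linear_combination 15 * h2
  have h32 : (32 : K) = 0 := by linear_combination 16 * h2
  have e : D.n3 * R.RNF (0) (0) (0) (0) (0) (0) (0) (0) (0) (0) (t44) (0) (0) (t45) (0) (0) (0) (0) (0) (0) (0) (0) (0) (0) * D.n3⁻¹ =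
      R.RNF (0) (0) (0) (0) (0) (0) (0) (0) (0) (0) (t44) (0) (0) (0) (0) (0) (0) (t45) (0) (0) (0) (0) (0) (0) := by
    rw [D.toWeylF4.conj_n3]
    congr 1 <;> (first | rfl | ring1 | (rw [← sub_eq_zero]; ring_nf; simp only [h2, h4, h6, h8, h10, h12, h14, h16, h18, h20, h22, h24, h26, h28, h30, h32, mul_zero, zero_mul, add_zero, zero_add, neg_zero, sub_zero, sub_self]))
  exact UP_n D D.n3_mem e (ih _ _ hn44 hn45)

theorem ufin44_4 (D : UData R)
    (ih : ∀ (t44 t47 : K), t44 ≠ 0 → t47 ≠ 0 → UP D (R.RNF (0) (0) (0) (0) (0) (0) (0) (0) (0) (0) (t44) (t47) (0) (0) (0) (0) (0) (0) (0) (0) (0) (0) (0) (0))) :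
    ∀ (t44 t46 : K), t44 ≠ 0 → t46 ≠ 0 → UP D (R.RNF (0) (0) (0) (0) (0) (0) (0) (0) (0) (0) (t44) (0) (0) (0) (0) (0) (0) (t46) (0) (0) (0) (0) (0) (0)) := by
  intro t44 t46 hn44 hn46
  have h2 : (2 : K) = 0 := CharTwo.two_eq_zero
  have h4 : (4 : K) = 0 := by linear_combination 2 * h2
  have h6 : (6 : K) = 0 := by linear_combination 3 * h2
  have h8 : (8 : K) = 0 := by linear_combination 4 * h2
  have h10 : (10 : K) = 0 := by linear_combination 5 * h2
  have h12 : (12 : K) = 0 := by linear_combination 6 * h2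
  have h14 : (14 : K) = 0 := by linear_combination 7 * h2
  have h16 : (16 : K) = 0 := by linear_combination 8 * h2
  have h18 : (18 : K) = 0 := by linear_combination 9 * h2
  have h20 : (20 : K) = 0 := by linear_combination 10 * h2
  have h22 : (22 : K) = 0 := by linear_combination 11 * h2
  have h24 : (24 : K) = 0 := by linear_combination 12 * h2
  have h26 : (26 : K) = 0 := by linear_combination 13 * h2
  have h28 : (28 : K) = 0 := by linear_combination 14 * h2
  have h30 : (30 : K) = 0 := by linear_combination 15 * h2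
  have h32 : (32 : K) = 0 := by linear_combination 16 * h2
  have e : D.n4 * R.RNF (0) (0) (0) (0) (0) (0) (0) (0) (0) (0) (t44) (0) (0) (0) (0) (0) (0) (t46) (0) (0) (0) (0) (0) (0) * D.n4⁻¹ =
      R.RNF (0) (0) (0) (0) (0) (0) (0) (0) (0) (0) (t44) (t46) (0) (0) (0) (0) (0) (0) (0) (0) (0) (0) (0) (0) := by
    rw [D.toWeylF4.conj_n4]
    congr 1 <;> (first | rfl | ring1 | (rw [← sub_eq_zero]; ring_nf; simp only [h2, h4, h6, h8, h10, h12, h14, h16, h18, h20, h22, h24, h26, h28, h30, h32, mul_zero, zero_mul, add_zero, zero_add, neg_zero, sub_zero, sub_self]))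
  exact UP_n D D.n4_mem e (ih _ _ hn44 hn46)

theorem ufin44_5 (D : UData R)
    (ih : ∀ (t44 t46 : K), t44 ≠ 0 → t46 ≠ 0 → UP D (R.RNF (0) (0) (0) (0) (0) (0) (0) (0) (0) (0) (t44) (0) (0) (0) (0) (0) (0) (t46) (0) (0) (0) (0) (0) (0))) :
    ∀ (t44 t46 t47 : K), t44 ≠ 0 → t46 ≠ 0 → UP D (R.RNF (0) (0) (0) (0) (0) (0) (0) (0) (0) (0) (t44) (t47) (0) (0) (0) (0) (0) (t46) (0) (0) (0) (0) (0) (0)) := by
  intro t44 t46 t47 hn44 hn46
  have h2 : (2 : K) = 0 := CharTwo.two_eq_zero
  have h4 : (4 : K) = 0 := by linear_combination 2 * h2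
  have h6 : (6 : K) = 0 := by linear_combination 3 * h2
  have h8 : (8 : K) = 0 := by linear_combination 4 * h2
  have h10 : (10 : K) = 0 := by linear_combination 5 * h2
  have h12 : (12 : K) = 0 := by linear_combination 6 * h2
  have h14 : (14 : K) = 0 := by linear_combination 7 * h2
  have h16 : (16 : K) = 0 := by linear_combination 8 * h2
  have h18 : (18 : K) = 0 := by linear_combination 9 * h2
  have h20 : (20 : K) = 0 := by linear_combination 10 * h2
  have h22 : (22 : K) = 0 := by linear_combination 11 * h2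
  have h24 : (24 : K) = 0 := by linear_combination 12 * h2
  have h26 : (26 : K) = 0 := by linear_combination 13 * h2
  have h28 : (28 : K) = 0 := by linear_combination 14 * h2
  have h30 : (30 : K) = 0 := by linear_combination 15 * h2
  have h32 : (32 : K) = 0 := by linear_combination 16 * h2
  obtain ⟨c, rfl⟩ : ∃ c, t47 = c * t46 := ⟨t47 / t46, by field_simp⟩
  have e : R.X24 c * R.RNF (0) (0) (0) (0) (0) (0) (0) (0) (0) (0) (t44) (c * t46) (0) (0) (0) (0) (0) (t46) (0) (0) (0) (0) (0) (0) * R.X24 c =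
      R.RNF (0) (0) (0) (0) (0) (0) (0) (0) (0) (0) (t44) (0) (0) (0) (0) (0) (0) (t46) (0) (0) (0) (0) (0) (0) := by
    rw [R.ucj24]
    congr 1 <;> (first | rfl | ring1 | (rw [← sub_eq_zero]; ring_nf; simp only [h2, h4, h6, h8, h10, h12, h14, h16, h18, h20, h22, h24, h26, h28, h30, h32, mul_zero, zero_mul, add_zero, zero_add, neg_zero, sub_zero, sub_self]))
  exact UP_cj D (D.xmem24 c) (R.inv24 c) e (ih _ _ hn44 hn46)

end Cfsg.Agent.Helper4.F4Inv
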