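import Cfsg.Agent.Helper4.F4Inv.UBase

/-! Generated: the pivot steps of the reduction of involutions in the unipotent group of `F₄`
(characteristic two): conjugation by a fundamental root element followed by a fundamental
reflection moves the first non-trivial coordinate (in the order by height) further up. -/

set_option autoImplicit false
set_option maxHeartbeats 4000000
set_option maxRecDepth 100000
set_option linter.unusedSimpArgs false
set_option linter.unusedVariables false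
set_option linter.unusedSectionVars false

namespace Cfsg.Agent.Helper4.F4Inv

variable {K Γ : Type*} [Field K] [Group Γ] {R : RelF4 K Γ} [CharP K 2]

theorem WeylF4.ustep0 (W : WeylF4 R) (t24 t27 t33 t28 t34 t29 t30 t35 t31 t36 t37 t32 t38 t41 t39 t42 t40 t43 t44 t45 t46 t47 c : K) :
    W.n3 * (R.X25 c * R.RNF (t33) (t24) (t34) (c * t24) (t36) (t42) (t38) (t43) (t29) (t41) (t44) (t47) (t39) (t45) (t35) (t31) (t40) (t46) (t37) (t32) (t27) (0) (t28) (t30) * R.X25 c) * W.n3⁻¹ =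
      R.RNF (t33) (0) (c * t34 + t35) (t24) (t24 * t35 + t36) (c * t42 + t24 * t35 ^ 2 + t43) (c * t38 + t29 * t35 + t39) (c * t24 * t34 ^ 2 + t42) (t29) (c * t34 ^ 2 + t41) (c * t29 * t34 ^ 2 + c * t34 * t38 + t29 * t34 * t35 + t34 * t39 + t35 * t38 + t44) (c * t29 ^ 2 * t34 ^ 2 + c * t38 ^ 2 + t47) (t29 * t34 + t38) (c * t45 + t46) (t34) (c * t31 + t32) (t40) (t45) (t37) (t31) (c * t27 + t28) (0) (t27) (c * t27 ^ 2 + t30) := by
  have h2 : (2 : K) = 0 := CharTwo.two_eq_zero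
  have h4 : (4 : K) = 0 := by linear_combination 2 * h2
  have h6 : (6 : K) = 0 := by linear_combination 3 * h2
  have h8 : (8 : K) = 0 := by linear_combination 4 * h2
  have h10 : (10 : K) = 0 := by linear_combination 5 * h2
  have h12 : (12 : K) = 0 := by linear_combination 6 * h2
  have h14 : (14 : K) = 0 := by linear_combination 7 * h2
  have h16 : (16 : K) = 0 := by linear_combination 8 * h2
  have h18 : (18 : K) = 0 := by linear_combination 9 * h2
  have h20 : (20 : K) = 0 := by linear_combination 10 * h2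
  have h22 : (22 : K) = 0 := by linear_combination 11 * h2
  have h24 : (24 : K) = 0 := by linear_combination 12 * h2
  have h26 : (26 : K) = 0 := by linear_combination 13 * h2
  have h28 : (28 : K) = 0 := by linear_combination 14 * h2
  have h30 : (30 : K) = 0 := by linear_combination 15 * h2
  have h32 : (32 : K) = 0 := by linear_combination 16 * h2
  rw [R.ucj25, W.conj_n3]
  congr 1 <;> (first | rfl | ring1 | (rw [← sub_eq_zero]; ring_nf; simp only [h2, h4, h6, h8, h10, h12, h14, h16, h18, h20, h22, h24, h26, h28, h30, h32, mul_zero, zero_mul, add_zero, zero_add, neg_zero, sub_zero, sub_self]))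

theorem upiv0 (D : UData R)
    (ih : ∀ (t25 t27 t33 t26 t28 t34 t29 t30 t35 t31 t36 t37 t32 t38 t41 t39 t42 t40 t43 t44 t45 t46 t47 : K), UP D (R.RNF (t33) (0) (t34) (t26) (t36) (t42) (t38) (t43) (t29) (t41) (t44) (t47) (t39) (t45) (t35) (t31) (t40) (t46) (t37) (t32) (t27) (t25) (t28) (t30))) :
    ∀ (t24 t25 t27 t33 t26 t28 t34 t29 t30 t35 t31 t36 t37 t32 t38 t41 t39 t42 t40 t43 t44 t45 t46 t47 : K), UP D (R.RNF (t33) (t24) (t34) (t26) (t36) (t42) (t38) (t43) (t29) (t41) (t44) (t47) (t39) (t45) (t35) (t31) (t40) (t46) (t37) (t32) (t27) (t25) (t28) (t30)) := by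
  intro t24 t25 t27 t33 t26 t28 t34 t29 t30 t35 t31 t36 t37 t32 t38 t41 t39 t42 t40 t43 t44 t45 t46 t47 hu hne
  by_cases h0 : t24 = 0
  · subst h0; exact ih _ _ _ _ _ _ _ _ _ _ _ _ _ _ _ _ _ _ _ _ _ _ _ hu hne
  have hsq := hu
  rw [R.usq] at hsq
  obtain ⟨e33, e24, e34, e26, e36, e42, e38, e43, e29, e41, e44, e47, e39, e45, e35, e31, e40, e46, e37, e32, e27, e25, e28, e30⟩ := D.inj _ _ _ _ _ _ _ _ _ _ _ _ _ _ _ _ _ _ _ _ _ _ _ _ hsq
  have hz25 : t25 = 0 := by
    have h : t24 * t25 = 0 := by linear_combination e26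
    exact (mul_eq_zero.mp h).resolve_left h0
  subst hz25
  obtain ⟨c, rfl⟩ : ∃ c, t26 = c * t24 := ⟨t26 / t24, by field_simp⟩
  exact UP_step D D.n3_mem (D.xmem25 c) (R.inv25 c) (D.toWeylF4.ustep0 _ _ _ _ _ _ _ _ _ _ _ _ _ _ _ _ _ _ _ _ _ _ c)
    (ih _ _ _ _ _ _ _ _ _ _ _ _ _ _ _ _ _ _ _ _ _ _ _) hu hne

theorem WeylF4.ustep1 (W : WeylF4 R) (t25 t27 t33 t28 t34 t29 t30 t35 t31 t36 t37 t32 t38 t41 t39 t42 t40 t43 t44 t45 t46 t47 c : K) :
    W.n4 * (R.X24 c * R.RNF (t33) (0) (t34) (c * t25) (t36) (t42) (t38) (t43) (t29) (t41) (t44) (t47) (t39) (t45) (t35) (t31) (t40) (t46) (t37) (t32) (t27) (t25) (t28) (t30) * R.X24 c) * W.n4⁻¹ =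
      R.RNF (t33) (0) (t34) (t25) (t35) (t41) (t37) (c * t35 ^ 2 + t25 * t42 + t43) (t25 * t27 + t28) (c * t41 + t42) (c * t25 * t27 * t41 + c * t28 * t41 + c * t35 * t37 + t25 * t27 * t42 + t28 * t42 + t29 * t41 + t35 * t38 + t36 * t37 + t44) (c * t25 ^ 2 * t27 ^ 2 * t41 + c * t28 ^ 2 * t41 + t25 * t45 + t25 ^ 2 * t27 ^ 2 * t42 + t28 ^ 2 * t42 + t46) (c * t25 * t27 * t35 + c * t28 * t35 + t25 * t27 * t36 + t25 * t38 + t28 * t36 + t29 * t35 + t39) (c * t37 ^ 2 + t45) (c * t35 + t36) (t25 * t27 ^ 2 + t30) (c * t25 * t27 * t37 + c * t28 * t37 + t25 * t27 * t38 + t28 * t38 + t29 * t37 + t40) (c * t25 * t45 + c * t46 + t25 * t38 ^ 2 + t29 ^ 2 * t41 + t47) (c * t37 + t38) (c * t25 ^ 2 * t27 ^ 2 + c * t28 ^ 2 + t25 * t31 + t32) (t27) (0) (c * t25 * t27 + c * t28 + t29) (c * t25 * t27 ^ 2 + c * t30 + t31) := by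
  have h2 : (2 : K) = 0 := CharTwo.two_eq_zero
  have h4 : (4 : K) = 0 := by linear_combination 2 * h2
  have h6 : (6 : K) = 0 := by linear_combination 3 * h2
  have h8 : (8 : K) = 0 := by linear_combination 4 * h2
  have h10 : (10 : K) = 0 := by linear_combination 5 * h2
  have h12 : (12 : K) = 0 := by linear_combination 6 * h2
  have h14 : (14 : K) = 0 := by linear_combination 7 * h2
  have h16 : (16 : K) = 0 := by linear_combination 8 * h2
  have h18 : (18 : K) = 0 := by linear_combination 9 * h2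
  have h20 : (20 : K) = 0 := by linear_combination 10 * h2
  have h22 : (22 : K) = 0 := by linear_combination 11 * h2
  have h24 : (24 : K) = 0 := by linear_combination 12 * h2
  have h26 : (26 : K) = 0 := by linear_combination 13 * h2
  have h28 : (28 : K) = 0 := by linear_combination 14 * h2
  have h30 : (30 : K) = 0 := by linear_combination 15 * h2
  have h32 : (32 : K) = 0 := by linear_combination 16 * h2
  rw [R.ucj24, W.conj_n4]
  congr 1 <;> (first | rfl | ring1 | (rw [← sub_eq_zero]; ring_nf; simp only [h2, h4, h6, h8, h10, h12, h14, h16, h18, h20, h22, h24, h26, h28, h30, h32, mul_zero, zero_mul, add_zero, zero_add, neg_zero, sub_zero, sub_self]))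

theorem upiv1 (D : UData R)
    (ih : ∀ (t27 t33 t26 t28 t34 t29 t30 t35 t31 t36 t37 t32 t38 t41 t39 t42 t40 t43 t44 t45 t46 t47 : K), UP D (R.RNF (t33) (0) (t34) (t26) (t36) (t42) (t38) (t43) (t29) (t41) (t44) (t47) (t39) (t45) (t35) (t31) (t40) (t46) (t37) (t32) (t27) (0) (t28) (t30))) :
    ∀ (t25 t27 t33 t26 t28 t34 t29 t30 t35 t31 t36 t37 t32 t38 t41 t39 t42 t40 t43 t44 t45 t46 t47 : K), UP D (R.RNF (t33) (0) (t34) (t26) (t36) (t42) (t38) (t43) (t29) (t41) (t44) (t47) (t39) (t45) (t35) (t31) (t40) (t46) (t37) (t32) (t27) (t25) (t28) (t30)) := by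
  intro t25 t27 t33 t26 t28 t34 t29 t30 t35 t31 t36 t37 t32 t38 t41 t39 t42 t40 t43 t44 t45 t46 t47 hu hne
  by_cases h0 : t25 = 0
  · subst h0; exact ih _ _ _ _ _ _ _ _ _ _ _ _ _ _ _ _ _ _ _ _ _ _ hu hne
  obtain ⟨c, rfl⟩ : ∃ c, t26 = c * t25 := ⟨t26 / t25, by field_simp⟩
  exact UP_step D D.n4_mem (D.xmem24 c) (R.inv24 c) (D.toWeylF4.ustep1 _ _ _ _ _ _ _ _ _ _ _ _ _ _ _ _ _ _ _ _ _ _ c)
    (ih _ _ _ _ _ _ _ _ _ _ _ _ _ _ _ _ _ _ _ _ _ _) hu hne

theorem WeylF4.ustep2 (W : WeylF4 R) (t27 t33 t34 t29 t30 t35 t31 t36 t37 t32 t38 t41 t39 t42 t40 t43 t44 t45 t46 t47 c : K) :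
    W.n3 * (R.X25 c * R.RNF (t33) (0) (t34) (0) (t36) (t42) (t38) (t43) (t29) (t41) (t44) (t47) (t39) (t45) (t35) (t31) (t40) (t46) (t37) (t32) (t27) (0) (c * t27) (t30) * R.X25 c) * W.n3⁻¹ =
      R.RNF (t33) (0) (c * t34 + t35) (0) (t36) (c * t42 + t43) (c * t38 + t29 * t35 + t39) (t42) (t29) (c * t34 ^ 2 + t41) (c * t29 * t34 ^ 2 + c * t34 * t38 + t29 * t34 * t35 + t34 * t39 + t35 * t38 + t44) (c * t29 ^ 2 * t34 ^ 2 + c * t38 ^ 2 + t47) (t29 * t34 + t38) (c * t45 + t46) (t34) (c * t31 + t32) (t40) (t45) (t37) (t31) (0) (0) (t27) (c * t27 ^ 2 + t30) := by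
  have h2 : (2 : K) = 0 := CharTwo.two_eq_zero
  have h4 : (4 : K) = 0 := by linear_combination 2 * h2
  have h6 : (6 : K) = 0 := by linear_combination 3 * h2
  have h8 : (8 : K) = 0 := by linear_combination 4 * h2
  have h10 : (10 : K) = 0 := by linear_combination 5 * h2
  have h12 : (12 : K) = 0 := by linear_combination 6 * h2
  have h14 : (14 : K) = 0 := by linear_combination 7 * h2
  have h16 : (16 : K) = 0 := by linear_combination 8 * h2
  have h18 : (18 : K) = 0 := by linear_combination 9 * h2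
  have h20 : (20 : K) = 0 := by linear_combination 10 * h2
  have h22 : (22 : K) = 0 := by linear_combination 11 * h2
  have h24 : (24 : K) = 0 := by linear_combination 12 * h2
  have h26 : (26 : K) = 0 := by linear_combination 13 * h2
  have h28 : (28 : K) = 0 := by linear_combination 14 * h2
  have h30 : (30 : K) = 0 := by linear_combination 15 * h2
  have h32 : (32 : K) = 0 := by linear_combination 16 * h2
  rw [R.ucj25, W.conj_n3]
  congr 1 <;> (first | rfl | ring1 | (rw [← sub_eq_zero]; ring_nf; simp only [h2, h4, h6, h8, h10, h12, h14, h16, h18, h20, h22, h24, h26, h28, h30, h32, mul_zero, zero_mul, add_zero, zero_add, neg_zero, sub_zero, sub_self]))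

theorem upiv2 (D : UData R)
    (ih : ∀ (t33 t26 t28 t34 t29 t30 t35 t31 t36 t37 t32 t38 t41 t39 t42 t40 t43 t44 t45 t46 t47 : K), UP D (R.RNF (t33) (0) (t34) (t26) (t36) (t42) (t38) (t43) (t29) (t41) (t44) (t47) (t39) (t45) (t35) (t31) (t40) (t46) (t37) (t32) (0) (0) (t28) (t30))) :
    ∀ (t27 t33 t26 t28 t34 t29 t30 t35 t31 t36 t37 t32 t38 t41 t39 t42 t40 t43 t44 t45 t46 t47 : K), UP D (R.RNF (t33) (0) (t34) (t26) (t36) (t42) (t38) (t43) (t29) (t41) (t44) (t47) (t39) (t45) (t35) (t31) (t40) (t46) (t37) (t32) (t27) (0) (t28) (t30)) := by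
  intro t27 t33 t26 t28 t34 t29 t30 t35 t31 t36 t37 t32 t38 t41 t39 t42 t40 t43 t44 t45 t46 t47 hu hne
  by_cases h0 : t27 = 0
  · subst h0; exact ih _ _ _ _ _ _ _ _ _ _ _ _ _ _ _ _ _ _ _ _ _ hu hne
  have hsq := hu
  rw [R.usq] at hsq
  obtain ⟨e33, e24, e34, e26, e36, e42, e38, e43, e29, e41, e44, e47, e39, e45, e35, e31, e40, e46, e37, e32, e27, e25, e28, e30⟩ := D.inj _ _ _ _ _ _ _ _ _ _ _ _ _ _ _ _ _ _ _ _ _ _ _ _ hsq
  have hz26 : t26 = 0 := by
    have h : t27 * t26 = 0 := by linear_combination e29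
    exact (mul_eq_zero.mp h).resolve_left h0
  subst hz26
  obtain ⟨c, rfl⟩ : ∃ c, t28 = c * t27 := ⟨t28 / t27, by field_simp⟩
  exact UP_step D D.n3_mem (D.xmem25 c) (R.inv25 c) (D.toWeylF4.ustep2 _ _ _ _ _ _ _ _ _ _ _ _ _ _ _ _ _ _ _ _ c)
    (ih _ _ _ _ _ _ _ _ _ _ _ _ _ _ _ _ _ _ _ _ _) hu hne

theorem WeylF4.ustep3 (W : WeylF4 R) (t33 t26 t29 t35 t31 t36 t37 t32 t38 t41 t39 t42 t40 t43 t44 t45 t46 t47 c : K) :
    W.n2 * (R.X27 c * R.RNF (t33) (0) (c * t33) (t26) (t36) (t42) (t38) (t43) (t29) (t41) (t44) (t47) (t39) (t45) (t35) (t31) (t40) (t46) (t37) (t32) (0) (0) (0) (0) * R.X27 c) * W.n2⁻¹ =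
      R.RNF (0) (0) (t33) (c ^ 2 * t26 + t31) (c * t36 + t38) (t42) (t36) (c ^ 2 * t43 + t31 * t41 + t45) (c * t26 + t29) (t41) (c * t43 + t44) (c ^ 2 * t26 * t43 + t26 * t31 * t41 + t26 * t45 + t31 * t43 + t47) (c * t39 + t31 * t35 + t40) (t26 * t41 + t43) (c * t35 + t37) (t26) (c * t26 * t35 + t26 * t37 + t39) (c ^ 2 * t26 * t35 ^ 2 + t26 * t37 ^ 2 + t31 * t35 ^ 2 + t46) (t35) (t32) (0) (0) (0) (0) := by
  have h2 : (2 : K) = 0 := CharTwo.two_eq_zero
  have h4 : (4 : K) = 0 := by linear_combination 2 * h2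
  have h6 : (6 : K) = 0 := by linear_combination 3 * h2
  have h8 : (8 : K) = 0 := by linear_combination 4 * h2
  have h10 : (10 : K) = 0 := by linear_combination 5 * h2
  have h12 : (12 : K) = 0 := by linear_combination 6 * h2
  have h14 : (14 : K) = 0 := by linear_combination 7 * h2
  have h16 : (16 : K) = 0 := by linear_combination 8 * h2
  have h18 : (18 : K) = 0 := by linear_combination 9 * h2
  have h20 : (20 : K) = 0 := by linear_combination 10 * h2
  have h22 : (22 : K) = 0 := by linear_combination 11 * h2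
  have h24 : (24 : K) = 0 := by linear_combination 12 * h2
  have h26 : (26 : K) = 0 := by linear_combination 13 * h2
  have h28 : (28 : K) = 0 := by linear_combination 14 * h2
  have h30 : (30 : K) = 0 := by linear_combination 15 * h2
  have h32 : (32 : K) = 0 := by linear_combination 16 * h2
  rw [R.ucj27, W.conj_n2]
  congr 1 <;> (first | rfl | ring1 | (rw [← sub_eq_zero]; ring_nf; simp only [h2, h4, h6, h8, h10, h12, h14, h16, h18, h20, h22, h24, h26, h28, h30, h32, mul_zero, zero_mul, add_zero, zero_add, neg_zero, sub_zero, sub_self]))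

theorem upiv3 (D : UData R)
    (ih : ∀ (t26 t28 t34 t29 t30 t35 t31 t36 t37 t32 t38 t41 t39 t42 t40 t43 t44 t45 t46 t47 : K), UP D (R.RNF (0) (0) (t34) (t26) (t36) (t42) (t38) (t43) (t29) (t41) (t44) (t47) (t39) (t45) (t35) (t31) (t40) (t46) (t37) (t32) (0) (0) (t28) (t30))) :
    ∀ (t33 t26 t28 t34 t29 t30 t35 t31 t36 t37 t32 t38 t41 t39 t42 t40 t43 t44 t45 t46 t47 : K), UP D (R.RNF (t33) (0) (t34) (t26) (t36) (t42) (t38) (t43) (t29) (t41) (t44) (t47) (t39) (t45) (t35) (t31) (t40) (t46) (t37) (t32) (0) (0) (t28) (t30)) := by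
  intro t33 t26 t28 t34 t29 t30 t35 t31 t36 t37 t32 t38 t41 t39 t42 t40 t43 t44 t45 t46 t47 hu hne
  by_cases h0 : t33 = 0
  · subst h0; exact ih _ _ _ _ _ _ _ _ _ _ _ _ _ _ _ _ _ _ _ _ hu hne
  have hsq := hu
  rw [R.usq] at hsq
  obtain ⟨e33, e24, e34, e26, e36, e42, e38, e43, e29, e41, e44, e47, e39, e45, e35, e31, e40, e46, e37, e32, e27, e25, e28, e30⟩ := D.inj _ _ _ _ _ _ _ _ _ _ _ _ _ _ _ _ _ _ _ _ _ _ _ _ hsq
  have hz28 : t28 = 0 := by
    have h : t33 * t28 = 0 := by linear_combination e35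
    exact (mul_eq_zero.mp h).resolve_left h0
  subst hz28
  have hz30 : t30 = 0 := by
    have h : t33 * t30 = 0 := by linear_combination e37
    exact (mul_eq_zero.mp h).resolve_left h0
  subst hz30
  obtain ⟨c, rfl⟩ : ∃ c, t34 = c * t33 := ⟨t34 / t33, by field_simp⟩
  exact UP_step D D.n2_mem (D.xmem27 c) (R.inv27 c) (D.toWeylF4.ustep3 _ _ _ _ _ _ _ _ _ _ _ _ _ _ _ _ _ _ c)
    (ih _ _ _ _ _ _ _ _ _ _ _ _ _ _ _ _ _ _ _ _) hu hne

theorem WeylF4.ustep4 (W : WeylF4 R) (t26 t28 t29 t35 t36 t37 t32 t38 t41 t39 t42 t40 t43 t44 t45 t46 t47 c : K) :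
    W.n2 * (R.X27 c * R.RNF (0) (0) (0) (t26) (t36) (t42) (t38) (t43) (t29) (t41) (t44) (t47) (t39) (t45) (t35) (c ^ 2 * t26) (t40) (t46) (t37) (t32) (0) (0) (t28) (0) * R.X27 c) * W.n2⁻¹ =
      R.RNF (0) (0) (0) (0) (c * t36 + t38) (t42) (t36) (c ^ 2 * t26 * t41 + c ^ 2 * t43 + t45) (c * t26 + t29) (t41) (c * t43 + t44) (c ^ 2 * t26 ^ 2 * t41 + t26 * t45 + t47) (c * t39 + c ^ 2 * t26 * t35 + t40) (t26 * t41 + t43) (c * t35 + t37) (t26) (c * t26 * t35 + t26 * t37 + t39) (t26 * t37 ^ 2 + t46) (t35) (t32) (0) (0) (t28) (0) := by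
  have h2 : (2 : K) = 0 := CharTwo.two_eq_zero
  have h4 : (4 : K) = 0 := by linear_combination 2 * h2
  have h6 : (6 : K) = 0 := by linear_combination 3 * h2
  have h8 : (8 : K) = 0 := by linear_combination 4 * h2
  have h10 : (10 : K) = 0 := by linear_combination 5 * h2
  have h12 : (12 : K) = 0 := by linear_combination 6 * h2
  have h14 : (14 : K) = 0 := by linear_combination 7 * h2
  have h16 : (16 : K) = 0 := by linear_combination 8 * h2
  have h18 : (18 : K) = 0 := by linear_combination 9 * h2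
  have h20 : (20 : K) = 0 := by linear_combination 10 * h2
  have h22 : (22 : K) = 0 := by linear_combination 11 * h2
  have h24 : (24 : K) = 0 := by linear_combination 12 * h2
  have h26 : (26 : K) = 0 := by linear_combination 13 * h2
  have h28 : (28 : K) = 0 := by linear_combination 14 * h2
  have h30 : (30 : K) = 0 := by linear_combination 15 * h2
  have h32 : (32 : K) = 0 := by linear_combination 16 * h2
  rw [R.ucj27, W.conj_n2]
  congr 1 <;> (first | rfl | ring1 | (rw [← sub_eq_zero]; ring_nf; simp only [h2, h4, h6, h8, h10, h12, h14, h16, h18, h20, h22, h24, h26, h28, h30, h32, mul_zero, zero_mul, add_zero, zero_add, neg_zero, sub_zero, sub_self]))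

theorem upiv4 (D : UData R)
    (ih : ∀ (t28 t34 t29 t30 t35 t31 t36 t37 t32 t38 t41 t39 t42 t40 t43 t44 t45 t46 t47 : K), UP D (R.RNF (0) (0) (t34) (0) (t36) (t42) (t38) (t43) (t29) (t41) (t44) (t47) (t39) (t45) (t35) (t31) (t40) (t46) (t37) (t32) (0) (0) (t28) (t30))) :
    ∀ (t26 t28 t34 t29 t30 t35 t31 t36 t37 t32 t38 t41 t39 t42 t40 t43 t44 t45 t46 t47 : K), UP D (R.RNF (0) (0) (t34) (t26) (t36) (t42) (t38) (t43) (t29) (t41) (t44) (t47) (t39) (t45) (t35) (t31) (t40) (t46) (t37) (t32) (0) (0) (t28) (t30)) := by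
  intro t26 t28 t34 t29 t30 t35 t31 t36 t37 t32 t38 t41 t39 t42 t40 t43 t44 t45 t46 t47 hu hne
  by_cases h0 : t26 = 0
  · subst h0; exact ih _ _ _ _ _ _ _ _ _ _ _ _ _ _ _ _ _ _ _ hu hne
  have hsq := hu
  rw [R.usq] at hsq
  obtain ⟨e33, e24, e34, e26, e36, e42, e38, e43, e29, e41, e44, e47, e39, e45, e35, e31, e40, e46, e37, e32, e27, e25, e28, e30⟩ := D.inj _ _ _ _ _ _ _ _ _ _ _ _ _ _ _ _ _ _ _ _ _ _ _ _ hsq
  have hz34 : t34 = 0 := by
    have h : t26 * t34 = 0 := by linear_combination e36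
    exact (mul_eq_zero.mp h).resolve_left h0
  subst hz34
  have hz30 : t30 = 0 := by
    have h : t26 * t30 = 0 := by linear_combination e32
    exact (mul_eq_zero.mp h).resolve_left h0
  subst hz30
  obtain ⟨c, hc⟩ := D.sqrt (t31 / t26)
  obtain rfl : t31 = c ^ 2 * t26 := by rw [hc]; field_simp
  exact UP_step D D.n2_mem (D.xmem27 c) (R.inv27 c) (D.toWeylF4.ustep4 _ _ _ _ _ _ _ _ _ _ _ _ _ _ _ _ _ c)
    (ih _ _ _ _ _ _ _ _ _ _ _ _ _ _ _ _ _ _ _) hu hne

theorem WeylF4.ustep5 (W : WeylF4 R) (t28 t34 t30 t35 t31 t36 t37 t32 t38 t41 t39 t42 t40 t43 t44 t45 t46 t47 c : K) :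
    W.n4 * (R.X24 c * R.RNF (0) (0) (t34) (0) (t36) (t42) (t38) (t43) (c * t28) (t41) (t44) (t47) (t39) (t45) (t35) (t31) (t40) (t46) (t37) (t32) (0) (0) (t28) (t30) * R.X24 c) * W.n4⁻¹ =
      R.RNF (0) (0) (t34) (0) (t35) (t41) (t37) (c * t35 ^ 2 + t43) (t28) (c * t41 + t42) (c * t35 * t37 + t28 * t42 + t35 * t38 + t36 * t37 + t44) (c * t28 ^ 2 * t41 + t28 ^ 2 * t42 + t46) (t28 * t36 + t39) (c * t37 ^ 2 + t45) (c * t35 + t36) (t30) (t28 * t38 + t40) (c * t46 + c ^ 2 * t28 ^ 2 * t41 + t47) (c * t37 + t38) (c * t28 ^ 2 + t32) (0) (0) (0) (c * t30 + t31) := by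
  have h2 : (2 : K) = 0 := CharTwo.two_eq_zero
  have h4 : (4 : K) = 0 := by linear_combination 2 * h2
  have h6 : (6 : K) = 0 := by linear_combination 3 * h2
  have h8 : (8 : K) = 0 := by linear_combination 4 * h2
  have h10 : (10 : K) = 0 := by linear_combination 5 * h2
  have h12 : (12 : K) = 0 := by linear_combination 6 * h2
  have h14 : (14 : K) = 0 := by linear_combination 7 * h2
  have h16 : (16 : K) = 0 := by linear_combination 8 * h2
  have h18 : (18 : K) = 0 := by linear_combination 9 * h2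
  have h20 : (20 : K) = 0 := by linear_combination 10 * h2
  have h22 : (22 : K) = 0 := by linear_combination 11 * h2
  have h24 : (24 : K) = 0 := by linear_combination 12 * h2
  have h26 : (26 : K) = 0 := by linear_combination 13 * h2
  have h28 : (28 : K) = 0 := by linear_combination 14 * h2
  have h30 : (30 : K) = 0 := by linear_combination 15 * h2
  have h32 : (32 : K) = 0 := by linear_combination 16 * h2
  rw [R.ucj24, W.conj_n4]
  congr 1 <;> (first | rfl | ring1 | (rw [← sub_eq_zero]; ring_nf; simp only [h2, h4, h6, h8, h10, h12, h14, h16, h18, h20, h22, h24, h26, h28, h30, h32, mul_zero, zero_mul, add_zero, zero_add, neg_zero, sub_zero, sub_self]))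

theorem upiv5 (D : UData R)
    (ih : ∀ (t34 t29 t30 t35 t31 t36 t37 t32 t38 t41 t39 t42 t40 t43 t44 t45 t46 t47 : K), UP D (R.RNF (0) (0) (t34) (0) (t36) (t42) (t38) (t43) (t29) (t41) (t44) (t47) (t39) (t45) (t35) (t31) (t40) (t46) (t37) (t32) (0) (0) (0) (t30))) :
    ∀ (t28 t34 t29 t30 t35 t31 t36 t37 t32 t38 t41 t39 t42 t40 t43 t44 t45 t46 t47 : K), UP D (R.RNF (0) (0) (t34) (0) (t36) (t42) (t38) (t43) (t29) (t41) (t44) (t47) (t39) (t45) (t35) (t31) (t40) (t46) (t37) (t32) (0) (0) (t28) (t30)) := by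
  intro t28 t34 t29 t30 t35 t31 t36 t37 t32 t38 t41 t39 t42 t40 t43 t44 t45 t46 t47 hu hne
  by_cases h0 : t28 = 0
  · subst h0; exact ih _ _ _ _ _ _ _ _ _ _ _ _ _ _ _ _ _ _ hu hne
  obtain ⟨c, rfl⟩ : ∃ c, t29 = c * t28 := ⟨t29 / t28, by field_simp⟩
  exact UP_step D D.n4_mem (D.xmem24 c) (R.inv24 c) (D.toWeylF4.ustep5 _ _ _ _ _ _ _ _ _ _ _ _ _ _ _ _ _ _ c)
    (ih _ _ _ _ _ _ _ _ _ _ _ _ _ _ _ _ _ _) hu hne

theorem WeylF4.ustep6 (W : WeylF4 R) (t34 t29 t30 t31 t36 t37 t32 t38 t41 t39 t42 t40 t43 t44 t45 t46 t47 c : K) :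
    W.n3 * (R.X25 c * R.RNF (0) (0) (t34) (0) (t36) (t42) (t38) (t43) (t29) (t41) (t44) (t47) (t39) (t45) (c * t34) (t31) (t40) (t46) (t37) (t32) (0) (0) (0) (t30) * R.X25 c) * W.n3⁻¹ =
      R.RNF (0) (0) (0) (0) (t36) (c * t42 + t43) (c * t29 * t34 + c * t38 + t39) (t42) (t29) (c * t34 ^ 2 + t41) (t34 * t39 + t44) (c * t29 ^ 2 * t34 ^ 2 + c * t38 ^ 2 + t47) (t29 * t34 + t38) (c * t45 + t46) (t34) (c * t31 + t32) (t40) (t45) (t37) (t31) (0) (0) (0) (t30) := by
  have h2 : (2 : K) = 0 := CharTwo.two_eq_zero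
  have h4 : (4 : K) = 0 := by linear_combination 2 * h2
  have h6 : (6 : K) = 0 := by linear_combination 3 * h2
  have h8 : (8 : K) = 0 := by linear_combination 4 * h2
  have h10 : (10 : K) = 0 := by linear_combination 5 * h2
  have h12 : (12 : K) = 0 := by linear_combination 6 * h2
  have h14 : (14 : K) = 0 := by linear_combination 7 * h2
  have h16 : (16 : K) = 0 := by linear_combination 8 * h2
  have h18 : (18 : K) = 0 := by linear_combination 9 * h2
  have h20 : (20 : K) = 0 := by linear_combination 10 * h2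
  have h22 : (22 : K) = 0 := by linear_combination 11 * h2
  have h24 : (24 : K) = 0 := by linear_combination 12 * h2
  have h26 : (26 : K) = 0 := by linear_combination 13 * h2
  have h28 : (28 : K) = 0 := by linear_combination 14 * h2
  have h30 : (30 : K) = 0 := by linear_combination 15 * h2
  have h32 : (32 : K) = 0 := by linear_combination 16 * h2
  rw [R.ucj25, W.conj_n3]
  congr 1 <;> (first | rfl | ring1 | (rw [← sub_eq_zero]; ring_nf; simp only [h2, h4, h6, h8, h10, h12, h14, h16, h18, h20, h22, h24, h26, h28, h30, h32, mul_zero, zero_mul, add_zero, zero_add, neg_zero, sub_zero, sub_self]))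

theorem upiv6 (D : UData R)
    (ih : ∀ (t29 t30 t35 t31 t36 t37 t32 t38 t41 t39 t42 t40 t43 t44 t45 t46 t47 : K), UP D (R.RNF (0) (0) (0) (0) (t36) (t42) (t38) (t43) (t29) (t41) (t44) (t47) (t39) (t45) (t35) (t31) (t40) (t46) (t37) (t32) (0) (0) (0) (t30))) :
    ∀ (t34 t29 t30 t35 t31 t36 t37 t32 t38 t41 t39 t42 t40 t43 t44 t45 t46 t47 : K), UP D (R.RNF (0) (0) (t34) (0) (t36) (t42) (t38) (t43) (t29) (t41) (t44) (t47) (t39) (t45) (t35) (t31) (t40) (t46) (t37) (t32) (0) (0) (0) (t30)) := by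
  intro t34 t29 t30 t35 t31 t36 t37 t32 t38 t41 t39 t42 t40 t43 t44 t45 t46 t47 hu hne
  by_cases h0 : t34 = 0
  · subst h0; exact ih _ _ _ _ _ _ _ _ _ _ _ _ _ _ _ _ _ hu hne
  obtain ⟨c, rfl⟩ : ∃ c, t35 = c * t34 := ⟨t35 / t34, by field_simp⟩
  exact UP_step D D.n3_mem (D.xmem25 c) (R.inv25 c) (D.toWeylF4.ustep6 _ _ _ _ _ _ _ _ _ _ _ _ _ _ _ _ _ c)
    (ih _ _ _ _ _ _ _ _ _ _ _ _ _ _ _ _ _) hu hne

theorem WeylF4.ustep7 (W : WeylF4 R) (t29 t30 t31 t37 t32 t38 t41 t39 t42 t40 t43 t44 t45 t46 t47 c : K) :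
    W.n1 * (R.X33 c * R.RNF (0) (0) (0) (0) (c * t29) (t42) (t38) (t43) (t29) (t41) (t44) (t47) (t39) (t45) (0) (t31) (t40) (t46) (t37) (t32) (0) (0) (0) (t30) * R.X33 c) * W.n1⁻¹ =
      R.RNF (0) (0) (0) (0) (t29) (t31) (c * t31 + t38) (t32) (0) (t30) (t40) (c ^ 2 * t31 * t32 + t31 * t43 + t32 * t42 + t47) (c * t32 + t39) (c ^ 2 * t30 * t31 + t30 * t42 + t31 * t41 + t45) (0) (c ^ 2 * t31 + t42) (c * t40 + t44) (c ^ 2 * t30 * t32 + t30 * t43 + t32 * t41 + t46) (c * t30 + t37) (c ^ 2 * t32 + t43) (0) (0) (0) (c ^ 2 * t30 + t41) := by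
  have h2 : (2 : K) = 0 := CharTwo.two_eq_zero
  have h4 : (4 : K) = 0 := by linear_combination 2 * h2
  have h6 : (6 : K) = 0 := by linear_combination 3 * h2
  have h8 : (8 : K) = 0 := by linear_combination 4 * h2
  have h10 : (10 : K) = 0 := by linear_combination 5 * h2
  have h12 : (12 : K) = 0 := by linear_combination 6 * h2
  have h14 : (14 : K) = 0 := by linear_combination 7 * h2
  have h16 : (16 : K) = 0 := by linear_combination 8 * h2
  have h18 : (18 : K) = 0 := by linear_combination 9 * h2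
  have h20 : (20 : K) = 0 := by linear_combination 10 * h2
  have h22 : (22 : K) = 0 := by linear_combination 11 * h2
  have h24 : (24 : K) = 0 := by linear_combination 12 * h2
  have h26 : (26 : K) = 0 := by linear_combination 13 * h2
  have h28 : (28 : K) = 0 := by linear_combination 14 * h2
  have h30 : (30 : K) = 0 := by linear_combination 15 * h2
  have h32 : (32 : K) = 0 := by linear_combination 16 * h2
  rw [R.ucj33, W.conj_n1]
  congr 1 <;> (first | rfl | ring1 | (rw [← sub_eq_zero]; ring_nf; simp only [h2, h4, h6, h8, h10, h12, h14, h16, h18, h20, h22, h24, h26, h28, h30, h32, mul_zero, zero_mul, add_zero, zero_add, neg_zero, sub_zero, sub_self]))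

theorem upiv7 (D : UData R)
    (ih : ∀ (t30 t35 t31 t36 t37 t32 t38 t41 t39 t42 t40 t43 t44 t45 t46 t47 : K), UP D (R.RNF (0) (0) (0) (0) (t36) (t42) (t38) (t43) (0) (t41) (t44) (t47) (t39) (t45) (t35) (t31) (t40) (t46) (t37) (t32) (0) (0) (0) (t30))) :
    ∀ (t29 t30 t35 t31 t36 t37 t32 t38 t41 t39 t42 t40 t43 t44 t45 t46 t47 : K), UP D (R.RNF (0) (0) (0) (0) (t36) (t42) (t38) (t43) (t29) (t41) (t44) (t47) (t39) (t45) (t35) (t31) (t40) (t46) (t37) (t32) (0) (0) (0) (t30)) := by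
  intro t29 t30 t35 t31 t36 t37 t32 t38 t41 t39 t42 t40 t43 t44 t45 t46 t47 hu hne
  by_cases h0 : t29 = 0
  · subst h0; exact ih _ _ _ _ _ _ _ _ _ _ _ _ _ _ _ _ hu hne
  have hsq := hu
  rw [R.usq] at hsq
  obtain ⟨e33, e24, e34, e26, e36, e42, e38, e43, e29, e41, e44, e47, e39, e45, e35, e31, e40, e46, e37, e32, e27, e25, e28, e30⟩ := D.inj _ _ _ _ _ _ _ _ _ _ _ _ _ _ _ _ _ _ _ _ _ _ _ _ hsq
  have hz35 : t35 = 0 := by
    have h : t29 * t35 = 0 := by linear_combination e39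
    exact (mul_eq_zero.mp h).resolve_left h0
  subst hz35
  obtain ⟨c, rfl⟩ : ∃ c, t36 = c * t29 := ⟨t36 / t29, by field_simp⟩
  exact UP_step D D.n1_mem (D.xmem33 c) (R.inv33 c) (D.toWeylF4.ustep7 _ _ _ _ _ _ _ _ _ _ _ _ _ _ _ c)
    (ih _ _ _ _ _ _ _ _ _ _ _ _ _ _ _ _) hu hne

theorem WeylF4.ustep8 (W : WeylF4 R) (t30 t35 t36 t37 t32 t38 t41 t39 t42 t40 t43 t44 t45 t46 t47 c : K) :
    W.n4 * (R.X24 c * R.RNF (0) (0) (0) (0) (t36) (t42) (t38) (t43) (0) (t41) (t44) (t47) (t39) (t45) (t35) (c * t30) (t40) (t46) (t37) (t32) (0) (0) (0) (t30) * R.X24 c) * W.n4⁻¹ =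
      R.RNF (0) (0) (0) (0) (t35) (t41) (t37) (c * t35 ^ 2 + t43) (0) (c * t41 + t42) (c * t35 * t37 + t35 * t38 + t36 * t37 + t44) (t46) (t39) (c * t37 ^ 2 + t45) (c * t35 + t36) (t30) (t40) (c * t46 + t47) (c * t37 + t38) (t32) (0) (0) (0) (0) := by
  have h2 : (2 : K) = 0 := CharTwo.two_eq_zero
  have h4 : (4 : K) = 0 := by linear_combination 2 * h2
  have h6 : (6 : K) = 0 := by linear_combination 3 * h2
  have h8 : (8 : K) = 0 := by linear_combination 4 * h2
  have h10 : (10 : K) = 0 := by linear_combination 5 * h2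
  have h12 : (12 : K) = 0 := by linear_combination 6 * h2
  have h14 : (14 : K) = 0 := by linear_combination 7 * h2
  have h16 : (16 : K) = 0 := by linear_combination 8 * h2
  have h18 : (18 : K) = 0 := by linear_combination 9 * h2
  have h20 : (20 : K) = 0 := by linear_combination 10 * h2
  have h22 : (22 : K) = 0 := by linear_combination 11 * h2
  have h24 : (24 : K) = 0 := by linear_combination 12 * h2
  have h26 : (26 : K) = 0 := by linear_combination 13 * h2
  have h28 : (28 : K) = 0 := by linear_combination 14 * h2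
  have h30 : (30 : K) = 0 := by linear_combination 15 * h2
  have h32 : (32 : K) = 0 := by linear_combination 16 * h2
  rw [R.ucj24, W.conj_n4]
  congr 1 <;> (first | rfl | ring1 | (rw [← sub_eq_zero]; ring_nf; simp only [h2, h4, h6, h8, h10, h12, h14, h16, h18, h20, h22, h24, h26, h28, h30, h32, mul_zero, zero_mul, add_zero, zero_add, neg_zero, sub_zero, sub_self]))

theorem upiv8 (D : UData R)
    (ih : ∀ (t35 t31 t36 t37 t32 t38 t41 t39 t42 t40 t43 t44 t45 t46 t47 : K), UP D (R.RNF (0) (0) (0) (0) (t36) (t42) (t38) (t43) (0) (t41) (t44) (t47) (t39) (t45) (t35) (t31) (t40) (t46) (t37) (t32) (0) (0) (0) (0))) :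
    ∀ (t30 t35 t31 t36 t37 t32 t38 t41 t39 t42 t40 t43 t44 t45 t46 t47 : K), UP D (R.RNF (0) (0) (0) (0) (t36) (t42) (t38) (t43) (0) (t41) (t44) (t47) (t39) (t45) (t35) (t31) (t40) (t46) (t37) (t32) (0) (0) (0) (t30)) := by
  intro t30 t35 t31 t36 t37 t32 t38 t41 t39 t42 t40 t43 t44 t45 t46 t47 hu hne
  by_cases h0 : t30 = 0
  · subst h0; exact ih _ _ _ _ _ _ _ _ _ _ _ _ _ _ _ hu hne
  obtain ⟨c, rfl⟩ : ∃ c, t31 = c * t30 := ⟨t31 / t30, by field_simp⟩
  exact UP_step D D.n4_mem (D.xmem24 c) (R.inv24 c) (D.toWeylF4.ustep8 _ _ _ _ _ _ _ _ _ _ _ _ _ _ _ c)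
    (ih _ _ _ _ _ _ _ _ _ _ _ _ _ _ _) hu hne

theorem WeylF4.ustep9 (W : WeylF4 R) (t35 t36 t32 t38 t41 t39 t42 t40 t43 t44 t45 t46 t47 c : K) :
    W.n2 * (R.X27 c * R.RNF (0) (0) (0) (0) (t36) (t42) (t38) (t43) (0) (t41) (t44) (t47) (t39) (t45) (t35) (0) (t40) (t46) (c * t35) (t32) (0) (0) (0) (0) * R.X27 c) * W.n2⁻¹ =
      R.RNF (0) (0) (0) (0) (c * t36 + t38) (t42) (t36) (c ^ 2 * t43 + t45) (0) (t41) (c * t43 + t44) (t47) (c * t39 + t40) (t43) (0) (0) (t39) (t46) (t35) (t32) (0) (0) (0) (0) := by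
  have h2 : (2 : K) = 0 := CharTwo.two_eq_zero
  have h4 : (4 : K) = 0 := by linear_combination 2 * h2
  have h6 : (6 : K) = 0 := by linear_combination 3 * h2
  have h8 : (8 : K) = 0 := by linear_combination 4 * h2
  have h10 : (10 : K) = 0 := by linear_combination 5 * h2
  have h12 : (12 : K) = 0 := by linear_combination 6 * h2
  have h14 : (14 : K) = 0 := by linear_combination 7 * h2
  have h16 : (16 : K) = 0 := by linear_combination 8 * h2
  have h18 : (18 : K) = 0 := by linear_combination 9 * h2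
  have h20 : (20 : K) = 0 := by linear_combination 10 * h2
  have h22 : (22 : K) = 0 := by linear_combination 11 * h2
  have h24 : (24 : K) = 0 := by linear_combination 12 * h2
  have h26 : (26 : K) = 0 := by linear_combination 13 * h2
  have h28 : (28 : K) = 0 := by linear_combination 14 * h2
  have h30 : (30 : K) = 0 := by linear_combination 15 * h2
  have h32 : (32 : K) = 0 := by linear_combination 16 * h2
  rw [R.ucj27, W.conj_n2]
  congr 1 <;> (first | rfl | ring1 | (rw [← sub_eq_zero]; ring_nf; simp only [h2, h4, h6, h8, h10, h12, h14, h16, h18, h20, h22, h24, h26, h28, h30, h32, mul_zero, zero_mul, add_zero, zero_add, neg_zero, sub_zero, sub_self]))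

theorem upiv9 (D : UData R)
    (ih : ∀ (t31 t36 t37 t32 t38 t41 t39 t42 t40 t43 t44 t45 t46 t47 : K), UP D (R.RNF (0) (0) (0) (0) (t36) (t42) (t38) (t43) (0) (t41) (t44) (t47) (t39) (t45) (0) (t31) (t40) (t46) (t37) (t32) (0) (0) (0) (0))) :
    ∀ (t35 t31 t36 t37 t32 t38 t41 t39 t42 t40 t43 t44 t45 t46 t47 : K), UP D (R.RNF (0) (0) (0) (0) (t36) (t42) (t38) (t43) (0) (t41) (t44) (t47) (t39) (t45) (t35) (t31) (t40) (t46) (t37) (t32) (0) (0) (0) (0)) := by
  intro t35 t31 t36 t37 t32 t38 t41 t39 t42 t40 t43 t44 t45 t46 t47 hu hne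
  by_cases h0 : t35 = 0
  · subst h0; exact ih _ _ _ _ _ _ _ _ _ _ _ _ _ _ hu hne
  have hsq := hu
  rw [R.usq] at hsq
  obtain ⟨e33, e24, e34, e26, e36, e42, e38, e43, e29, e41, e44, e47, e39, e45, e35, e31, e40, e46, e37, e32, e27, e25, e28, e30⟩ := D.inj _ _ _ _ _ _ _ _ _ _ _ _ _ _ _ _ _ _ _ _ _ _ _ _ hsq
  have hz31 : t31 = 0 := by
    have h : t35 * t31 = 0 := by linear_combination e40
    exact (mul_eq_zero.mp h).resolve_left h0
  subst hz31
  obtain ⟨c, rfl⟩ : ∃ c, t37 = c * t35 := ⟨t37 / t35, by field_simp⟩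
  exact UP_step D D.n2_mem (D.xmem27 c) (R.inv27 c) (D.toWeylF4.ustep9 _ _ _ _ _ _ _ _ _ _ _ _ _ c)
    (ih _ _ _ _ _ _ _ _ _ _ _ _ _ _) hu hne

theorem WeylF4.ustep10 (W : WeylF4 R) (t31 t36 t37 t38 t41 t39 t42 t40 t43 t44 t45 t46 t47 c : K) :
    W.n3 * (R.X25 c * R.RNF (0) (0) (0) (0) (t36) (t42) (t38) (t43) (0) (t41) (t44) (t47) (t39) (t45) (0) (t31) (t40) (t46) (t37) (c * t31) (0) (0) (0) (0) * R.X25 c) * W.n3⁻¹ =
      R.RNF (0) (0) (0) (0) (t36) (c * t42 + t43) (c * t38 + t39) (t42) (0) (t41) (t44) (c * t38 ^ 2 + t47) (t38) (c * t45 + t46) (0) (0) (t40) (t45) (t37) (t31) (0) (0) (0) (0) := by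
  have h2 : (2 : K) = 0 := CharTwo.two_eq_zero
  have h4 : (4 : K) = 0 := by linear_combination 2 * h2
  have h6 : (6 : K) = 0 := by linear_combination 3 * h2
  have h8 : (8 : K) = 0 := by linear_combination 4 * h2
  have h10 : (10 : K) = 0 := by linear_combination 5 * h2
  have h12 : (12 : K) = 0 := by linear_combination 6 * h2
  have h14 : (14 : K) = 0 := by linear_combination 7 * h2
  have h16 : (16 : K) = 0 := by linear_combination 8 * h2
  have h18 : (18 : K) = 0 := by linear_combination 9 * h2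
  have h20 : (20 : K) = 0 := by linear_combination 10 * h2
  have h22 : (22 : K) = 0 := by linear_combination 11 * h2
  have h24 : (24 : K) = 0 := by linear_combination 12 * h2
  have h26 : (26 : K) = 0 := by linear_combination 13 * h2
  have h28 : (28 : K) = 0 := by linear_combination 14 * h2
  have h30 : (30 : K) = 0 := by linear_combination 15 * h2
  have h32 : (32 : K) = 0 := by linear_combination 16 * h2
  rw [R.ucj25, W.conj_n3]
  congr 1 <;> (first | rfl | ring1 | (rw [← sub_eq_zero]; ring_nf; simp only [h2, h4, h6, h8, h10, h12, h14, h16, h18, h20, h22, h24, h26, h28, h30, h32, mul_zero, zero_mul, add_zero, zero_add, neg_zero, sub_zero, sub_self]))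

theorem upiv10 (D : UData R)
    (ih : ∀ (t36 t37 t32 t38 t41 t39 t42 t40 t43 t44 t45 t46 t47 : K), UP D (R.RNF (0) (0) (0) (0) (t36) (t42) (t38) (t43) (0) (t41) (t44) (t47) (t39) (t45) (0) (0) (t40) (t46) (t37) (t32) (0) (0) (0) (0))) :
    ∀ (t31 t36 t37 t32 t38 t41 t39 t42 t40 t43 t44 t45 t46 t47 : K), UP D (R.RNF (0) (0) (0) (0) (t36) (t42) (t38) (t43) (0) (t41) (t44) (t47) (t39) (t45) (0) (t31) (t40) (t46) (t37) (t32) (0) (0) (0) (0)) := by
  intro t31 t36 t37 t32 t38 t41 t39 t42 t40 t43 t44 t45 t46 t47 hu hne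
  by_cases h0 : t31 = 0
  · subst h0; exact ih _ _ _ _ _ _ _ _ _ _ _ _ _ hu hne
  obtain ⟨c, rfl⟩ : ∃ c, t32 = c * t31 := ⟨t32 / t31, by field_simp⟩
  exact UP_step D D.n3_mem (D.xmem25 c) (R.inv25 c) (D.toWeylF4.ustep10 _ _ _ _ _ _ _ _ _ _ _ _ _ c)
    (ih _ _ _ _ _ _ _ _ _ _ _ _ _) hu hne

theorem WeylF4.ustep11 (W : WeylF4 R) (t36 t32 t41 t39 t42 t40 t43 t44 t45 t46 t47 c : K) :
    W.n2 * (R.X27 c * R.RNF (0) (0) (0) (0) (t36) (t42) (c * t36) (t43) (0) (t41) (t44) (t47) (t39) (t45) (0) (0) (t40) (t46) (0) (t32) (0) (0) (0) (0) * R.X27 c) * W.n2⁻¹ =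
      R.RNF (0) (0) (0) (0) (0) (t42) (t36) (c ^ 2 * t43 + t45) (0) (t41) (c * t43 + t44) (t47) (c * t39 + t40) (t43) (0) (0) (t39) (t46) (0) (t32) (0) (0) (0) (0) := by
  have h2 : (2 : K) = 0 := CharTwo.two_eq_zero
  have h4 : (4 : K) = 0 := by linear_combination 2 * h2
  have h6 : (6 : K) = 0 := by linear_combination 3 * h2
  have h8 : (8 : K) = 0 := by linear_combination 4 * h2
  have h10 : (10 : K) = 0 := by linear_combination 5 * h2
  have h12 : (12 : K) = 0 := by linear_combination 6 * h2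
  have h14 : (14 : K) = 0 := by linear_combination 7 * h2
  have h16 : (16 : K) = 0 := by linear_combination 8 * h2
  have h18 : (18 : K) = 0 := by linear_combination 9 * h2
  have h20 : (20 : K) = 0 := by linear_combination 10 * h2
  have h22 : (22 : K) = 0 := by linear_combination 11 * h2
  have h24 : (24 : K) = 0 := by linear_combination 12 * h2
  have h26 : (26 : K) = 0 := by linear_combination 13 * h2
  have h28 : (28 : K) = 0 := by linear_combination 14 * h2
  have h30 : (30 : K) = 0 := by linear_combination 15 * h2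
  have h32 : (32 : K) = 0 := by linear_combination 16 * h2
  rw [R.ucj27, W.conj_n2]
  congr 1 <;> (first | rfl | ring1 | (rw [← sub_eq_zero]; ring_nf; simp only [h2, h4, h6, h8, h10, h12, h14, h16, h18, h20, h22, h24, h26, h28, h30, h32, mul_zero, zero_mul, add_zero, zero_add, neg_zero, sub_zero, sub_self]))

theorem upiv11 (D : UData R)
    (ih : ∀ (t37 t32 t38 t41 t39 t42 t40 t43 t44 t45 t46 t47 : K), UP D (R.RNF (0) (0) (0) (0) (0) (t42) (t38) (t43) (0) (t41) (t44) (t47) (t39) (t45) (0) (0) (t40) (t46) (t37) (t32) (0) (0) (0) (0))) :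
    ∀ (t36 t37 t32 t38 t41 t39 t42 t40 t43 t44 t45 t46 t47 : K), UP D (R.RNF (0) (0) (0) (0) (t36) (t42) (t38) (t43) (0) (t41) (t44) (t47) (t39) (t45) (0) (0) (t40) (t46) (t37) (t32) (0) (0) (0) (0)) := by
  intro t36 t37 t32 t38 t41 t39 t42 t40 t43 t44 t45 t46 t47 hu hne
  by_cases h0 : t36 = 0
  · subst h0; exact ih _ _ _ _ _ _ _ _ _ _ _ _ hu hne
  have hsq := hu
  rw [R.usq] at hsq
  obtain ⟨e33, e24, e34, e26, e36, e42, e38, e43, e29, e41, e44, e47, e39, e45, e35, e31, e40, e46, e37, e32, e27, e25, e28, e30⟩ := D.inj _ _ _ _ _ _ _ _ _ _ _ _ _ _ _ _ _ _ _ _ _ _ _ _ hsq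
  have hz37 : t37 = 0 := by
    have h : t36 * t37 = 0 := by linear_combination e44
    exact (mul_eq_zero.mp h).resolve_left h0
  subst hz37
  obtain ⟨c, rfl⟩ : ∃ c, t38 = c * t36 := ⟨t38 / t36, by field_simp⟩
  exact UP_step D D.n2_mem (D.xmem27 c) (R.inv27 c) (D.toWeylF4.ustep11 _ _ _ _ _ _ _ _ _ _ _ c)
    (ih _ _ _ _ _ _ _ _ _ _ _ _) hu hne

theorem WeylF4.ustep12 (W : WeylF4 R) (t37 t32 t41 t39 t42 t40 t43 t44 t45 t46 t47 c : K) :
    W.n4 * (R.X24 c * R.RNF (0) (0) (0) (0) (0) (t42) (c * t37) (t43) (0) (t41) (t44) (t47) (t39) (t45) (0) (0) (t40) (t46) (t37) (t32) (0) (0) (0) (0) * R.X24 c) * W.n4⁻¹ =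
      R.RNF (0) (0) (0) (0) (0) (t41) (t37) (t43) (0) (c * t41 + t42) (t44) (t46) (t39) (c * t37 ^ 2 + t45) (0) (0) (t40) (c * t46 + t47) (0) (t32) (0) (0) (0) (0) := by
  have h2 : (2 : K) = 0 := CharTwo.two_eq_zero
  have h4 : (4 : K) = 0 := by linear_combination 2 * h2
  have h6 : (6 : K) = 0 := by linear_combination 3 * h2
  have h8 : (8 : K) = 0 := by linear_combination 4 * h2
  have h10 : (10 : K) = 0 := by linear_combination 5 * h2
  have h12 : (12 : K) = 0 := by linear_combination 6 * h2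
  have h14 : (14 : K) = 0 := by linear_combination 7 * h2
  have h16 : (16 : K) = 0 := by linear_combination 8 * h2
  have h18 : (18 : K) = 0 := by linear_combination 9 * h2
  have h20 : (20 : K) = 0 := by linear_combination 10 * h2
  have h22 : (22 : K) = 0 := by linear_combination 11 * h2
  have h24 : (24 : K) = 0 := by linear_combination 12 * h2
  have h26 : (26 : K) = 0 := by linear_combination 13 * h2
  have h28 : (28 : K) = 0 := by linear_combination 14 * h2
  have h30 : (30 : K) = 0 := by linear_combination 15 * h2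
  have h32 : (32 : K) = 0 := by linear_combination 16 * h2
  rw [R.ucj24, W.conj_n4]
  congr 1 <;> (first | rfl | ring1 | (rw [← sub_eq_zero]; ring_nf; simp only [h2, h4, h6, h8, h10, h12, h14, h16, h18, h20, h22, h24, h26, h28, h30, h32, mul_zero, zero_mul, add_zero, zero_add, neg_zero, sub_zero, sub_self]))

theorem upiv12 (D : UData R)
    (ih : ∀ (t32 t38 t41 t39 t42 t40 t43 t44 t45 t46 t47 : K), UP D (R.RNF (0) (0) (0) (0) (0) (t42) (t38) (t43) (0) (t41) (t44) (t47) (t39) (t45) (0) (0) (t40) (t46) (0) (t32) (0) (0) (0) (0))) :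
    ∀ (t37 t32 t38 t41 t39 t42 t40 t43 t44 t45 t46 t47 : K), UP D (R.RNF (0) (0) (0) (0) (0) (t42) (t38) (t43) (0) (t41) (t44) (t47) (t39) (t45) (0) (0) (t40) (t46) (t37) (t32) (0) (0) (0) (0)) := by
  intro t37 t32 t38 t41 t39 t42 t40 t43 t44 t45 t46 t47 hu hne
  by_cases h0 : t37 = 0
  · subst h0; exact ih _ _ _ _ _ _ _ _ _ _ _ hu hne
  obtain ⟨c, rfl⟩ : ∃ c, t38 = c * t37 := ⟨t38 / t37, by field_simp⟩
  exact UP_step D D.n4_mem (D.xmem24 c) (R.inv24 c) (D.toWeylF4.ustep12 _ _ _ _ _ _ _ _ _ _ _ c)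
    (ih _ _ _ _ _ _ _ _ _ _ _) hu hne

theorem WeylF4.ustep13 (W : WeylF4 R) (t32 t38 t39 t40 t44 t45 t46 t47 c : K) :
    W.n1 * (R.X33 c * R.RNF (0) (0) (0) (0) (0) (0) (t38) (c ^ 2 * t32) (0) (0) (t44) (t47) (t39) (t45) (0) (0) (t40) (t46) (0) (t32) (0) (0) (0) (0) * R.X33 c) * W.n1⁻¹ =
      R.RNF (0) (0) (0) (0) (0) (0) (t38) (t32) (0) (0) (t40) (t47) (c * t32 + t39) (t45) (0) (0) (c * t40 + t44) (t46) (0) (0) (0) (0) (0) (0) := by
  have h2 : (2 : K) = 0 := CharTwo.two_eq_zero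
  have h4 : (4 : K) = 0 := by linear_combination 2 * h2
  have h6 : (6 : K) = 0 := by linear_combination 3 * h2
  have h8 : (8 : K) = 0 := by linear_combination 4 * h2
  have h10 : (10 : K) = 0 := by linear_combination 5 * h2
  have h12 : (12 : K) = 0 := by linear_combination 6 * h2
  have h14 : (14 : K) = 0 := by linear_combination 7 * h2
  have h16 : (16 : K) = 0 := by linear_combination 8 * h2
  have h18 : (18 : K) = 0 := by linear_combination 9 * h2
  have h20 : (20 : K) = 0 := by linear_combination 10 * h2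
  have h22 : (22 : K) = 0 := by linear_combination 11 * h2
  have h24 : (24 : K) = 0 := by linear_combination 12 * h2
  have h26 : (26 : K) = 0 := by linear_combination 13 * h2
  have h28 : (28 : K) = 0 := by linear_combination 14 * h2
  have h30 : (30 : K) = 0 := by linear_combination 15 * h2
  have h32 : (32 : K) = 0 := by linear_combination 16 * h2
  rw [R.ucj33, W.conj_n1]
  congr 1 <;> (first | rfl | ring1 | (rw [← sub_eq_zero]; ring_nf; simp only [h2, h4, h6, h8, h10, h12, h14, h16, h18, h20, h22, h24, h26, h28, h30, h32, mul_zero, zero_mul, add_zero, zero_add, neg_zero, sub_zero, sub_self]))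

theorem upiv13 (D : UData R)
    (ih : ∀ (t38 t41 t39 t42 t40 t43 t44 t45 t46 t47 : K), UP D (R.RNF (0) (0) (0) (0) (0) (t42) (t38) (t43) (0) (t41) (t44) (t47) (t39) (t45) (0) (0) (t40) (t46) (0) (0) (0) (0) (0) (0))) :
    ∀ (t32 t38 t41 t39 t42 t40 t43 t44 t45 t46 t47 : K), UP D (R.RNF (0) (0) (0) (0) (0) (t42) (t38) (t43) (0) (t41) (t44) (t47) (t39) (t45) (0) (0) (t40) (t46) (0) (t32) (0) (0) (0) (0)) := by
  intro t32 t38 t41 t39 t42 t40 t43 t44 t45 t46 t47 hu hne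
  by_cases h0 : t32 = 0
  · subst h0; exact ih _ _ _ _ _ _ _ _ _ _ hu hne
  have hsq := hu
  rw [R.usq] at hsq
  obtain ⟨e33, e24, e34, e26, e36, e42, e38, e43, e29, e41, e44, e47, e39, e45, e35, e31, e40, e46, e37, e32, e27, e25, e28, e30⟩ := D.inj _ _ _ _ _ _ _ _ _ _ _ _ _ _ _ _ _ _ _ _ _ _ _ _ hsq
  have hz41 : t41 = 0 := by
    have h : t32 * t41 = 0 := by linear_combination e46
    exact (mul_eq_zero.mp h).resolve_left h0
  subst hz41
  have hz42 : t42 = 0 := by
    have h : t32 * t42 = 0 := by linear_combination e47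
    exact (mul_eq_zero.mp h).resolve_left h0
  subst hz42
  obtain ⟨c, hc⟩ := D.sqrt (t43 / t32)
  obtain rfl : t43 = c ^ 2 * t32 := by rw [hc]; field_simp
  exact UP_step D D.n1_mem (D.xmem33 c) (R.inv33 c) (D.toWeylF4.ustep13 _ _ _ _ _ _ _ _ c)
    (ih _ _ _ _ _ _ _ _ _ _) hu hne

theorem WeylF4.ustep14 (W : WeylF4 R) (t38 t41 t42 t40 t43 t44 t45 t46 t47 c : K) :
    W.n3 * (R.X25 c * R.RNF (0) (0) (0) (0) (0) (t42) (t38) (t43) (0) (t41) (t44) (t47) (c * t38) (t45) (0) (0) (t40) (t46) (0) (0) (0) (0) (0) (0) * R.X25 c) * W.n3⁻¹ =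
      R.RNF (0) (0) (0) (0) (0) (c * t42 + t43) (0) (t42) (0) (t41) (t44) (c * t38 ^ 2 + t47) (t38) (c * t45 + t46) (0) (0) (t40) (t45) (0) (0) (0) (0) (0) (0) := by
  have h2 : (2 : K) = 0 := CharTwo.two_eq_zero
  have h4 : (4 : K) = 0 := by linear_combination 2 * h2
  have h6 : (6 : K) = 0 := by linear_combination 3 * h2
  have h8 : (8 : K) = 0 := by linear_combination 4 * h2
  have h10 : (10 : K) = 0 := by linear_combination 5 * h2
  have h12 : (12 : K) = 0 := by linear_combination 6 * h2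
  have h14 : (14 : K) = 0 := by linear_combination 7 * h2
  have h16 : (16 : K) = 0 := by linear_combination 8 * h2
  have h18 : (18 : K) = 0 := by linear_combination 9 * h2
  have h20 : (20 : K) = 0 := by linear_combination 10 * h2
  have h22 : (22 : K) = 0 := by linear_combination 11 * h2
  have h24 : (24 : K) = 0 := by linear_combination 12 * h2
  have h26 : (26 : K) = 0 := by linear_combination 13 * h2
  have h28 : (28 : K) = 0 := by linear_combination 14 * h2
  have h30 : (30 : K) = 0 := by linear_combination 15 * h2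
  have h32 : (32 : K) = 0 := by linear_combination 16 * h2
  rw [R.ucj25, W.conj_n3]
  congr 1 <;> (first | rfl | ring1 | (rw [← sub_eq_zero]; ring_nf; simp only [h2, h4, h6, h8, h10, h12, h14, h16, h18, h20, h22, h24, h26, h28, h30, h32, mul_zero, zero_mul, add_zero, zero_add, neg_zero, sub_zero, sub_self]))

theorem upiv14 (D : UData R)
    (ih : ∀ (t41 t39 t42 t40 t43 t44 t45 t46 t47 : K), UP D (R.RNF (0) (0) (0) (0) (0) (t42) (0) (t43) (0) (t41) (t44) (t47) (t39) (t45) (0) (0) (t40) (t46) (0) (0) (0) (0) (0) (0))) :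
    ∀ (t38 t41 t39 t42 t40 t43 t44 t45 t46 t47 : K), UP D (R.RNF (0) (0) (0) (0) (0) (t42) (t38) (t43) (0) (t41) (t44) (t47) (t39) (t45) (0) (0) (t40) (t46) (0) (0) (0) (0) (0) (0)) := by
  intro t38 t41 t39 t42 t40 t43 t44 t45 t46 t47 hu hne
  by_cases h0 : t38 = 0
  · subst h0; exact ih _ _ _ _ _ _ _ _ _ hu hne
  obtain ⟨c, rfl⟩ : ∃ c, t39 = c * t38 := ⟨t39 / t38, by field_simp⟩
  exact UP_step D D.n3_mem (D.xmem25 c) (R.inv25 c) (D.toWeylF4.ustep14 _ _ _ _ _ _ _ _ _ c)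
    (ih _ _ _ _ _ _ _ _ _) hu hne

theorem WeylF4.ustep15 (W : WeylF4 R) (t41 t39 t40 t43 t44 t45 t46 t47 c : K) :
    W.n4 * (R.X24 c * R.RNF (0) (0) (0) (0) (0) (c * t41) (0) (t43) (0) (t41) (t44) (t47) (t39) (t45) (0) (0) (t40) (t46) (0) (0) (0) (0) (0) (0) * R.X24 c) * W.n4⁻¹ =
      R.RNF (0) (0) (0) (0) (0) (t41) (0) (t43) (0) (0) (t44) (t46) (t39) (t45) (0) (0) (t40) (c * t46 + t47) (0) (0) (0) (0) (0) (0) := by
  have h2 : (2 : K) = 0 := CharTwo.two_eq_zero
  have h4 : (4 : K) = 0 := by linear_combination 2 * h2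
  have h6 : (6 : K) = 0 := by linear_combination 3 * h2
  have h8 : (8 : K) = 0 := by linear_combination 4 * h2
  have h10 : (10 : K) = 0 := by linear_combination 5 * h2
  have h12 : (12 : K) = 0 := by linear_combination 6 * h2
  have h14 : (14 : K) = 0 := by linear_combination 7 * h2
  have h16 : (16 : K) = 0 := by linear_combination 8 * h2
  have h18 : (18 : K) = 0 := by linear_combination 9 * h2
  have h20 : (20 : K) = 0 := by linear_combination 10 * h2
  have h22 : (22 : K) = 0 := by linear_combination 11 * h2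
  have h24 : (24 : K) = 0 := by linear_combination 12 * h2
  have h26 : (26 : K) = 0 := by linear_combination 13 * h2
  have h28 : (28 : K) = 0 := by linear_combination 14 * h2
  have h30 : (30 : K) = 0 := by linear_combination 15 * h2
  have h32 : (32 : K) = 0 := by linear_combination 16 * h2
  rw [R.ucj24, W.conj_n4]
  congr 1 <;> (first | rfl | ring1 | (rw [← sub_eq_zero]; ring_nf; simp only [h2, h4, h6, h8, h10, h12, h14, h16, h18, h20, h22, h24, h26, h28, h30, h32, mul_zero, zero_mul, add_zero, zero_add, neg_zero, sub_zero, sub_self]))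

theorem upiv15 (D : UData R)
    (ih : ∀ (t39 t42 t40 t43 t44 t45 t46 t47 : K), UP D (R.RNF (0) (0) (0) (0) (0) (t42) (0) (t43) (0) (0) (t44) (t47) (t39) (t45) (0) (0) (t40) (t46) (0) (0) (0) (0) (0) (0))) :
    ∀ (t41 t39 t42 t40 t43 t44 t45 t46 t47 : K), UP D (R.RNF (0) (0) (0) (0) (0) (t42) (0) (t43) (0) (t41) (t44) (t47) (t39) (t45) (0) (0) (t40) (t46) (0) (0) (0) (0) (0) (0)) := by
  intro t41 t39 t42 t40 t43 t44 t45 t46 t47 hu hne
  by_cases h0 : t41 = 0
  · subst h0; exact ih _ _ _ _ _ _ _ _ hu hne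
  obtain ⟨c, rfl⟩ : ∃ c, t42 = c * t41 := ⟨t42 / t41, by field_simp⟩
  exact UP_step D D.n4_mem (D.xmem24 c) (R.inv24 c) (D.toWeylF4.ustep15 _ _ _ _ _ _ _ _ c)
    (ih _ _ _ _ _ _ _ _) hu hne

theorem WeylF4.ustep16 (W : WeylF4 R) (t39 t42 t43 t44 t45 t46 t47 c : K) :
    W.n2 * (R.X27 c * R.RNF (0) (0) (0) (0) (0) (t42) (0) (t43) (0) (0) (t44) (t47) (t39) (t45) (0) (0) (c * t39) (t46) (0) (0) (0) (0) (0) (0) * R.X27 c) * W.n2⁻¹ =
      R.RNF (0) (0) (0) (0) (0) (t42) (0) (c ^ 2 * t43 + t45) (0) (0) (c * t43 + t44) (t47) (0) (t43) (0) (0) (t39) (t46) (0) (0) (0) (0) (0) (0) := by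
  have h2 : (2 : K) = 0 := CharTwo.two_eq_zero
  have h4 : (4 : K) = 0 := by linear_combination 2 * h2
  have h6 : (6 : K) = 0 := by linear_combination 3 * h2
  have h8 : (8 : K) = 0 := by linear_combination 4 * h2
  have h10 : (10 : K) = 0 := by linear_combination 5 * h2
  have h12 : (12 : K) = 0 := by linear_combination 6 * h2
  have h14 : (14 : K) = 0 := by linear_combination 7 * h2
  have h16 : (16 : K) = 0 := by linear_combination 8 * h2
  have h18 : (18 : K) = 0 := by linear_combination 9 * h2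
  have h20 : (20 : K) = 0 := by linear_combination 10 * h2
  have h22 : (22 : K) = 0 := by linear_combination 11 * h2
  have h24 : (24 : K) = 0 := by linear_combination 12 * h2
  have h26 : (26 : K) = 0 := by linear_combination 13 * h2
  have h28 : (28 : K) = 0 := by linear_combination 14 * h2
  have h30 : (30 : K) = 0 := by linear_combination 15 * h2
  have h32 : (32 : K) = 0 := by linear_combination 16 * h2
  rw [R.ucj27, W.conj_n2]
  congr 1 <;> (first | rfl | ring1 | (rw [← sub_eq_zero]; ring_nf; simp only [h2, h4, h6, h8, h10, h12, h14, h16, h18, h20, h22, h24, h26, h28, h30, h32, mul_zero, zero_mul, add_zero, zero_add, neg_zero, sub_zero, sub_self]))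

theorem upiv16 (D : UData R)
    (ih : ∀ (t42 t40 t43 t44 t45 t46 t47 : K), UP D (R.RNF (0) (0) (0) (0) (0) (t42) (0) (t43) (0) (0) (t44) (t47) (0) (t45) (0) (0) (t40) (t46) (0) (0) (0) (0) (0) (0))) :
    ∀ (t39 t42 t40 t43 t44 t45 t46 t47 : K), UP D (R.RNF (0) (0) (0) (0) (0) (t42) (0) (t43) (0) (0) (t44) (t47) (t39) (t45) (0) (0) (t40) (t46) (0) (0) (0) (0) (0) (0)) := by
  intro t39 t42 t40 t43 t44 t45 t46 t47 hu hne
  by_cases h0 : t39 = 0
  · subst h0; exact ih _ _ _ _ _ _ _ hu hne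
  obtain ⟨c, rfl⟩ : ∃ c, t40 = c * t39 := ⟨t40 / t39, by field_simp⟩
  exact UP_step D D.n2_mem (D.xmem27 c) (R.inv27 c) (D.toWeylF4.ustep16 _ _ _ _ _ _ _ c)
    (ih _ _ _ _ _ _ _) hu hne

theorem WeylF4.ustep17 (W : WeylF4 R) (t42 t40 t44 t45 t46 t47 c : K) :
    W.n3 * (R.X25 c * R.RNF (0) (0) (0) (0) (0) (t42) (0) (c * t42) (0) (0) (t44) (t47) (0) (t45) (0) (0) (t40) (t46) (0) (0) (0) (0) (0) (0) * R.X25 c) * W.n3⁻¹ =
      R.RNF (0) (0) (0) (0) (0) (0) (0) (t42) (0) (0) (t44) (t47) (0) (c * t45 + t46) (0) (0) (t40) (t45) (0) (0) (0) (0) (0) (0) := by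
  have h2 : (2 : K) = 0 := CharTwo.two_eq_zero
  have h4 : (4 : K) = 0 := by linear_combination 2 * h2
  have h6 : (6 : K) = 0 := by linear_combination 3 * h2
  have h8 : (8 : K) = 0 := by linear_combination 4 * h2
  have h10 : (10 : K) = 0 := by linear_combination 5 * h2
  have h12 : (12 : K) = 0 := by linear_combination 6 * h2
  have h14 : (14 : K) = 0 := by linear_combination 7 * h2
  have h16 : (16 : K) = 0 := by linear_combination 8 * h2
  have h18 : (18 : K) = 0 := by linear_combination 9 * h2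
  have h20 : (20 : K) = 0 := by linear_combination 10 * h2
  have h22 : (22 : K) = 0 := by linear_combination 11 * h2
  have h24 : (24 : K) = 0 := by linear_combination 12 * h2
  have h26 : (26 : K) = 0 := by linear_combination 13 * h2
  have h28 : (28 : K) = 0 := by linear_combination 14 * h2
  have h30 : (30 : K) = 0 := by linear_combination 15 * h2
  have h32 : (32 : K) = 0 := by linear_combination 16 * h2
  rw [R.ucj25, W.conj_n3]
  congr 1 <;> (first | rfl | ring1 | (rw [← sub_eq_zero]; ring_nf; simp only [h2, h4, h6, h8, h10, h12, h14, h16, h18, h20, h22, h24, h26, h28, h30, h32, mul_zero, zero_mul, add_zero, zero_add, neg_zero, sub_zero, sub_self]))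

theorem upiv17 (D : UData R)
    (ih : ∀ (t40 t43 t44 t45 t46 t47 : K), UP D (R.RNF (0) (0) (0) (0) (0) (0) (0) (t43) (0) (0) (t44) (t47) (0) (t45) (0) (0) (t40) (t46) (0) (0) (0) (0) (0) (0))) :
    ∀ (t42 t40 t43 t44 t45 t46 t47 : K), UP D (R.RNF (0) (0) (0) (0) (0) (t42) (0) (t43) (0) (0) (t44) (t47) (0) (t45) (0) (0) (t40) (t46) (0) (0) (0) (0) (0) (0)) := by
  intro t42 t40 t43 t44 t45 t46 t47 hu hne
  by_cases h0 : t42 = 0
  · subst h0; exact ih _ _ _ _ _ _ hu hne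
  obtain ⟨c, rfl⟩ : ∃ c, t43 = c * t42 := ⟨t43 / t42, by field_simp⟩
  exact UP_step D D.n3_mem (D.xmem25 c) (R.inv25 c) (D.toWeylF4.ustep17 _ _ _ _ _ _ c)
    (ih _ _ _ _ _ _) hu hne

theorem WeylF4.ustep18 (W : WeylF4 R) (t40 t45 t46 t47 c : K) :
    W.n1 * (R.X33 c * R.RNF (0) (0) (0) (0) (0) (0) (0) (0) (0) (0) (c * t40) (t47) (0) (t45) (0) (0) (t40) (t46) (0) (0) (0) (0) (0) (0) * R.X33 c) * W.n1⁻¹ =
      R.RNF (0) (0) (0) (0) (0) (0) (0) (0) (0) (0) (t40) (t47) (0) (t45) (0) (0) (0) (t46) (0) (0) (0) (0) (0) (0) := by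
  have h2 : (2 : K) = 0 := CharTwo.two_eq_zero
  have h4 : (4 : K) = 0 := by linear_combination 2 * h2
  have h6 : (6 : K) = 0 := by linear_combination 3 * h2
  have h8 : (8 : K) = 0 := by linear_combination 4 * h2
  have h10 : (10 : K) = 0 := by linear_combination 5 * h2
  have h12 : (12 : K) = 0 := by linear_combination 6 * h2
  have h14 : (14 : K) = 0 := by linear_combination 7 * h2
  have h16 : (16 : K) = 0 := by linear_combination 8 * h2
  have h18 : (18 : K) = 0 := by linear_combination 9 * h2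
  have h20 : (20 : K) = 0 := by linear_combination 10 * h2
  have h22 : (22 : K) = 0 := by linear_combination 11 * h2
  have h24 : (24 : K) = 0 := by linear_combination 12 * h2
  have h26 : (26 : K) = 0 := by linear_combination 13 * h2
  have h28 : (28 : K) = 0 := by linear_combination 14 * h2
  have h30 : (30 : K) = 0 := by linear_combination 15 * h2
  have h32 : (32 : K) = 0 := by linear_combination 16 * h2
  rw [R.ucj33, W.conj_n1]
  congr 1 <;> (first | rfl | ring1 | (rw [← sub_eq_zero]; ring_nf; simp only [h2, h4, h6, h8, h10, h12, h14, h16, h18, h20, h22, h24, h26, h28, h30, h32, mul_zero, zero_mul, add_zero, zero_add, neg_zero, sub_zero, sub_self]))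

theorem upiv18 (D : UData R)
    (hfin : ∀ (t40 t43 t44 t45 t46 t47 : K), t40 ≠ 0 → t43 ≠ 0 → UP D (R.RNF (0) (0) (0) (0) (0) (0) (0) (t43) (0) (0) (t44) (t47) (0) (t45) (0) (0) (t40) (t46) (0) (0) (0) (0) (0) (0)))
    (ih : ∀ (t43 t44 t45 t46 t47 : K), UP D (R.RNF (0) (0) (0) (0) (0) (0) (0) (t43) (0) (0) (t44) (t47) (0) (t45) (0) (0) (0) (t46) (0) (0) (0) (0) (0) (0))) :
    ∀ (t40 t43 t44 t45 t46 t47 : K), UP D (R.RNF (0) (0) (0) (0) (0) (0) (0) (t43) (0) (0) (t44) (t47) (0) (t45) (0) (0) (t40) (t46) (0) (0) (0) (0) (0) (0)) := by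
  intro t40 t43 t44 t45 t46 t47 hu hne
  by_cases h0 : t40 = 0
  · subst h0; exact ih _ _ _ _ _ hu hne
  by_cases h43 : t43 = 0
  swap
  · exact hfin _ _ _ _ _ _ h0 h43 hu hne
  subst h43
  obtain ⟨c, rfl⟩ : ∃ c, t44 = c * t40 := ⟨t44 / t40, by field_simp⟩
  exact UP_step D D.n1_mem (D.xmem33 c) (R.inv33 c) (D.toWeylF4.ustep18 _ _ _ _ c)
    (ih _ _ _ _ _) hu hne

theorem WeylF4.ustep19 (W : WeylF4 R) (t43 t44 t46 t47 c : K) :
    W.n2 * (R.X27 c * R.RNF (0) (0) (0) (0) (0) (0) (0) (t43) (0) (0) (t44) (t47) (0) (c ^ 2 * t43) (0) (0) (0) (t46) (0) (0) (0) (0) (0) (0) * R.X27 c) * W.n2⁻¹ =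
      R.RNF (0) (0) (0) (0) (0) (0) (0) (0) (0) (0) (c * t43 + t44) (t47) (0) (t43) (0) (0) (0) (t46) (0) (0) (0) (0) (0) (0) := by
  have h2 : (2 : K) = 0 := CharTwo.two_eq_zero
  have h4 : (4 : K) = 0 := by linear_combination 2 * h2
  have h6 : (6 : K) = 0 := by linear_combination 3 * h2
  have h8 : (8 : K) = 0 := by linear_combination 4 * h2
  have h10 : (10 : K) = 0 := by linear_combination 5 * h2
  have h12 : (12 : K) = 0 := by linear_combination 6 * h2
  have h14 : (14 : K) = 0 := by linear_combination 7 * h2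
  have h16 : (16 : K) = 0 := by linear_combination 8 * h2
  have h18 : (18 : K) = 0 := by linear_combination 9 * h2
  have h20 : (20 : K) = 0 := by linear_combination 10 * h2
  have h22 : (22 : K) = 0 := by linear_combination 11 * h2
  have h24 : (24 : K) = 0 := by linear_combination 12 * h2
  have h26 : (26 : K) = 0 := by linear_combination 13 * h2
  have h28 : (28 : K) = 0 := by linear_combination 14 * h2
  have h30 : (30 : K) = 0 := by linear_combination 15 * h2
  have h32 : (32 : K) = 0 := by linear_combination 16 * h2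
  rw [R.ucj27, W.conj_n2]
  congr 1 <;> (first | rfl | ring1 | (rw [← sub_eq_zero]; ring_nf; simp only [h2, h4, h6, h8, h10, h12, h14, h16, h18, h20, h22, h24, h26, h28, h30, h32, mul_zero, zero_mul, add_zero, zero_add, neg_zero, sub_zero, sub_self]))

theorem upiv19 (D : UData R)
    (ih : ∀ (t44 t45 t46 t47 : K), UP D (R.RNF (0) (0) (0) (0) (0) (0) (0) (0) (0) (0) (t44) (t47) (0) (t45) (0) (0) (0) (t46) (0) (0) (0) (0) (0) (0))) :
    ∀ (t43 t44 t45 t46 t47 : K), UP D (R.RNF (0) (0) (0) (0) (0) (0) (0) (t43) (0) (0) (t44) (t47) (0) (t45) (0) (0) (0) (t46) (0) (0) (0) (0) (0) (0)) := by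
  intro t43 t44 t45 t46 t47 hu hne
  by_cases h0 : t43 = 0
  · subst h0; exact ih _ _ _ _ hu hne
  obtain ⟨c, hc⟩ := D.sqrt (t45 / t43)
  obtain rfl : t45 = c ^ 2 * t43 := by rw [hc]; field_simp
  exact UP_step D D.n2_mem (D.xmem27 c) (R.inv27 c) (D.toWeylF4.ustep19 _ _ _ _ c)
    (ih _ _ _ _) hu hne

theorem WeylF4.ustep21 (W : WeylF4 R) (t45 t47 c : K) :
    W.n3 * (R.X25 c * R.RNF (0) (0) (0) (0) (0) (0) (0) (0) (0) (0) (0) (t47) (0) (t45) (0) (0) (0) (c * t45) (0) (0) (0) (0) (0) (0) * R.X25 c) * W.n3⁻¹ =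
      R.RNF (0) (0) (0) (0) (0) (0) (0) (0) (0) (0) (0) (t47) (0) (0) (0) (0) (0) (t45) (0) (0) (0) (0) (0) (0) := by
  have h2 : (2 : K) = 0 := CharTwo.two_eq_zero
  have h4 : (4 : K) = 0 := by linear_combination 2 * h2
  have h6 : (6 : K) = 0 := by linear_combination 3 * h2
  have h8 : (8 : K) = 0 := by linear_combination 4 * h2
  have h10 : (10 : K) = 0 := by linear_combination 5 * h2
  have h12 : (12 : K) = 0 := by linear_combination 6 * h2
  have h14 : (14 : K) = 0 := by linear_combination 7 * h2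
  have h16 : (16 : K) = 0 := by linear_combination 8 * h2
  have h18 : (18 : K) = 0 := by linear_combination 9 * h2
  have h20 : (20 : K) = 0 := by linear_combination 10 * h2
  have h22 : (22 : K) = 0 := by linear_combination 11 * h2
  have h24 : (24 : K) = 0 := by linear_combination 12 * h2
  have h26 : (26 : K) = 0 := by linear_combination 13 * h2
  have h28 : (28 : K) = 0 := by linear_combination 14 * h2
  have h30 : (30 : K) = 0 := by linear_combination 15 * h2
  have h32 : (32 : K) = 0 := by linear_combination 16 * h2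
  rw [R.ucj25, W.conj_n3]
  congr 1 <;> (first | rfl | ring1 | (rw [← sub_eq_zero]; ring_nf; simp only [h2, h4, h6, h8, h10, h12, h14, h16, h18, h20, h22, h24, h26, h28, h30, h32, mul_zero, zero_mul, add_zero, zero_add, neg_zero, sub_zero, sub_self]))

theorem upiv21 (D : UData R)
    (ih : ∀ (t46 t47 : K), UP D (R.RNF (0) (0) (0) (0) (0) (0) (0) (0) (0) (0) (0) (t47) (0) (0) (0) (0) (0) (t46) (0) (0) (0) (0) (0) (0))) :
    ∀ (t45 t46 t47 : K), UP D (R.RNF (0) (0) (0) (0) (0) (0) (0) (0) (0) (0) (0) (t47) (0) (t45) (0) (0) (0) (t46) (0) (0) (0) (0) (0) (0)) := by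
  intro t45 t46 t47 hu hne
  by_cases h0 : t45 = 0
  · subst h0; exact ih _ _ hu hne
  obtain ⟨c, rfl⟩ : ∃ c, t46 = c * t45 := ⟨t46 / t45, by field_simp⟩
  exact UP_step D D.n3_mem (D.xmem25 c) (R.inv25 c) (D.toWeylF4.ustep21 _ _ c)
    (ih _ _) hu hne

theorem WeylF4.ustep22 (W : WeylF4 R) (t46 c : K) :
    W.n4 * (R.X24 c * R.RNF (0) (0) (0) (0) (0) (0) (0) (0) (0) (0) (0) (c * t46) (0) (0) (0) (0) (0) (t46) (0) (0) (0) (0) (0) (0) * R.X24 c) * W.n4⁻¹ =
      R.RNF (0) (0) (0) (0) (0) (0) (0) (0) (0) (0) (0) (t46) (0) (0) (0) (0) (0) (0) (0) (0) (0) (0) (0) (0) := by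
  have h2 : (2 : K) = 0 := CharTwo.two_eq_zero
  have h4 : (4 : K) = 0 := by linear_combination 2 * h2
  have h6 : (6 : K) = 0 := by linear_combination 3 * h2
  have h8 : (8 : K) = 0 := by linear_combination 4 * h2
  have h10 : (10 : K) = 0 := by linear_combination 5 * h2
  have h12 : (12 : K) = 0 := by linear_combination 6 * h2
  have h14 : (14 : K) = 0 := by linear_combination 7 * h2
  have h16 : (16 : K) = 0 := by linear_combination 8 * h2
  have h18 : (18 : K) = 0 := by linear_combination 9 * h2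
  have h20 : (20 : K) = 0 := by linear_combination 10 * h2
  have h22 : (22 : K) = 0 := by linear_combination 11 * h2
  have h24 : (24 : K) = 0 := by linear_combination 12 * h2
  have h26 : (26 : K) = 0 := by linear_combination 13 * h2
  have h28 : (28 : K) = 0 := by linear_combination 14 * h2
  have h30 : (30 : K) = 0 := by linear_combination 15 * h2
  have h32 : (32 : K) = 0 := by linear_combination 16 * h2
  rw [R.ucj24, W.conj_n4]
  congr 1 <;> (first | rfl | ring1 | (rw [← sub_eq_zero]; ring_nf; simp only [h2, h4, h6, h8, h10, h12, h14, h16, h18, h20, h22, h24, h26, h28, h30, h32, mul_zero, zero_mul, add_zero, zero_add, neg_zero, sub_zero, sub_self]))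

theorem upiv22 (D : UData R)
    (ih : ∀ (t47 : K), UP D (R.RNF (0) (0) (0) (0) (0) (0) (0) (0) (0) (0) (0) (t47) (0) (0) (0) (0) (0) (0) (0) (0) (0) (0) (0) (0))) :
    ∀ (t46 t47 : K), UP D (R.RNF (0) (0) (0) (0) (0) (0) (0) (0) (0) (0) (0) (t47) (0) (0) (0) (0) (0) (t46) (0) (0) (0) (0) (0) (0)) := by
  intro t46 t47 hu hne
  by_cases h0 : t46 = 0
  · subst h0; exact ih _ hu hne
  obtain ⟨c, rfl⟩ : ∃ c, t47 = c * t46 := ⟨t47 / t46, by field_simp⟩
  exact UP_step D D.n4_mem (D.xmem24 c) (R.inv24 c) (D.toWeylF4.ustep22 _ c)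
    (ih _) hu hne

end Cfsg.Agent.Helper4.F4Inv
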